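import Groth.Agent.RedSub.H643.TypeRTorus
import Groth.Agent.RedSub.H657.FacLoc
import Groth.Agent.Sga3.H800.FacMain
import Groth.Agent.Sga3B.CentRep
import Groth.Agent.Sga3B.MaxTorBc505
import Groth.Agent.Sga3B.SplitModel889
import Groth.Agent.Sga3B.TorusEtSplit
import Groth.Agent.Sga3B.MaxTorusCrit

/-!
# Centres and radicals of reductive subgroups of type (R)

* `centre_factor`: `G` reductive, `H ⊆ H' ⊆ G` with `H` of type (R); the centre of `H'` is contained in `H`.
* `rad_factor`: a central torus of a reductive group is contained in the radical.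
-/

set_option autoImplicit false
universe u
open CategoryTheory MonoidalCategory CartesianMonoidalCategory MonObj GrpObj AlgebraicGeometry

namespace K198.Rad

open Groth.Agent.Sga3A.NormDefs Groth.Agent.Sga3B

variable {S : Scheme.{u}}

lemma mono_of_isImmersion {X Y : Over S} (i : X ⟶ Y) [IsImmersion i.left] : Mono i := by
  have : Mono i.left := inferInstance
  exact Over.mono_of_mono_left i

/-- `H ⊆ H' ⊆ G` with `H` of type (R) in the reductive group `G`: the centre of `H'` is contained in `H`. -/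
theorem centre_factor {G H H' Z' : Over S} [GrpObj G] [GrpObj H] [GrpObj H'] [GrpObj Z']
    (hG : Red.IsReductive G) (i : H ⟶ G) (hi : RedSub.IsTypeR i) (i' : H' ⟶ G) [IsMonHom i'] (k : H ⟶ H')
    (hk : k ≫ i' = i) (j' : Z' ⟶ H') (hZ' : Red.IsCentre j') : ∃ c : Z' ⟶ H, c ≫ i = j' ≫ i' := by
  have hi1 : IsImmersion i.left := hi.1.2
  have hi2 : Mono i.left := inferInstance
  refine Groth.Agent.RedSub.H657.FacLoc.inP_of_local i (j' ≫ i') fun s => ?_
  obtain ⟨U, f, hf, hs, D, t, ht⟩ := Groth.Agent.RedSub.H643.TypeRTorus.exists_splitRed_into hG i hi s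
  refine ⟨U, f, inferInstance, inferInstance, hs, ?_⟩
  have hc := isCentralizerOf_i D
  have hz := SplitBc264.isCentralizerOf_bc f hZ'
  have hid : (Over.pullback f).map (𝟙 H') = 𝟙 _ := (Over.pullback f).map_id H'
  rw [hid] at hz
  obtain ⟨z, hz'⟩ := (hc.2.2 _ ((Over.pullback f).map (j' ≫ i'))).2 (by
    intro X x h
    have h1 := (hz.2.2 _ ((Over.pullback f).map j')).1 ⟨𝟙 _, Category.id_comp _⟩ X x
      (h ≫ t ≫ (Over.pullback f).map k)
    have h2 := congrArg (fun z => z ≫ (Over.pullback f).map i') h1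
    have h3 : (Over.pullback f).map k ≫ (Over.pullback f).map i' = (Over.pullback f).map i := by
      rw [← Functor.map_comp, hk]
    simp only [MonObj.mul_comp, Category.comp_id, Category.assoc, h3, ht] at h2
    rw [Functor.map_comp]
    exact h2)
  exact ⟨z ≫ t, by rw [Category.assoc, ht, hz']⟩

/-- The centre of a reductive group is a closed subgroup. -/
theorem isClosedImmersion_centre {H Z : Over S} [GrpObj H] [GrpObj Z] (hH : Red.IsReductive H) (j : Z ⟶ H)
    (hZ : Red.IsCentre j) : IsClosedImmersion j.left := by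
  have h1 : IsAffineHom H.hom := hH.1
  have h2 : Smooth H.hom := hH.2.1
  have h3 := MaxTorBc505.geometricallyIrreducible hH
  have h4 : IsClosedImmersion (𝟙 H : H ⟶ H).left := inferInstanceAs (IsClosedImmersion (𝟙 H.left))
  obtain ⟨Z₁, _, z₁, hz₁, hc, -⟩ := CentRep.exists_centralizer (G := H) (𝟙 H)
  have hZ' : Red.IsCentralizerOf (𝟙 H) j := hZ
  have m1 : Mono j := hZ'.2.1
  have m2 : Mono z₁ := hc.2.1
  obtain ⟨a, ha⟩ := (hc.2.2 Z j).2 ((hZ'.2.2 Z j).1 ⟨𝟙 _, Category.id_comp _⟩)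
  obtain ⟨b, hb⟩ := (hZ'.2.2 Z₁ z₁).2 ((hc.2.2 Z₁ z₁).1 ⟨𝟙 _, Category.id_comp _⟩)
  have hiso : IsIso a := ⟨b, by rw [← cancel_mono j, Category.assoc, hb, ha, Category.id_comp],
    by rw [← cancel_mono z₁, Category.assoc, ha, hb, Category.id_comp]⟩
  have h5 : IsIso a.left := inferInstanceAs (IsIso ((Over.forget S).map a))
  rw [← ha]
  exact inferInstanceAs (IsClosedImmersion (a.left ≫ z₁.left))

theorem locallyOfFiniteType_centre {H Z : Over S} [GrpObj H] [GrpObj Z] (hH : Red.IsReductive H) (j : Z ⟶ H)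
    (hZ : Red.IsCentre j) : LocallyOfFiniteType Z.hom := by
  have h1 := isClosedImmersion_centre hH j hZ
  have h2 : Smooth H.hom := hH.2.1
  rw [← Over.w j]
  infer_instance

lemma isMonHom_of_comp {A B C : Over S} [GrpObj A] [GrpObj B] [GrpObj C] {u : A ⟶ B} {p : B ⟶ C} {i : A ⟶ C}
    [IsMonHom p] [Mono p] [IsMonHom i] (h : u ≫ p = i) : IsMonHom u := by
  subst h
  exact MaxTorusCrit.isMonHom_of_comp_mono u p

/-- The centre is commutative. -/
lemma centre_comm {H Z : Over S} [GrpObj H] [GrpObj Z] (j : Z ⟶ H) (hZ : Red.IsCentre j) {X : Over S}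
    (x : X ⟶ Z) (y : X ⟶ H) : (x ≫ j) * y = y * (x ≫ j) := by
  have h := (hZ.2.2 X (x ≫ j)).1 ⟨x, rfl⟩ X (𝟙 X) y
  simpa only [Category.id_comp, Category.comp_id] using h

/-- A central torus of a group whose centre is locally of finite type is contained in the radical. -/
theorem rad_factor' {H Z R Q : Over S} [GrpObj H] [GrpObj Z] [GrpObj R] [GrpObj Q]
    (j : Z ⟶ H) (hZ : Red.IsCentre j) [LocallyOfFiniteType Z.hom] (r : R ⟶ Z) (hR : Red.IsMaximalTorus r)
    (q : Q ⟶ H) [IsMonHom q] (hQ : Red.IsTorus Q)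
    (hc : ∀ (X : Over S) (x : X ⟶ Q) (h : X ⟶ H), (x ≫ q) * h = h * (x ≫ q)) : ∃ m : Q ⟶ R, m ≫ r ≫ j = q := by
  have m1 : Mono j := hZ.2.1
  have m2 : IsMonHom j := hZ.1
  obtain ⟨z, hz⟩ := (hZ.2.2 Q q).2 (by
    intro X x h
    rw [Category.comp_id]
    exact hc X x h)
  have hzm : IsMonHom z := isMonHom_of_comp hz
  obtain ⟨m, hm⟩ := Groth.Agent.Sga3.H800.FacMain.exists_factor r z hR hQ (by
    intro X t x
    rw [← cancel_mono j, MonObj.mul_comp, MonObj.mul_comp, centre_comm j hZ (t ≫ r)])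
  exact ⟨m, by rw [← Category.assoc, hm, hz]⟩

/-- A central torus of a reductive group is contained in the radical. -/
theorem rad_factor {H Z R Q : Over S} [GrpObj H] [GrpObj Z] [GrpObj R] [GrpObj Q] (hH : Red.IsReductive H)
    (j : Z ⟶ H) (hZ : Red.IsCentre j) (r : R ⟶ Z) (hR : Red.IsMaximalTorus r)
    (q : Q ⟶ H) [IsMonHom q] (hQ : Red.IsTorus Q)
    (hc : ∀ (X : Over S) (x : X ⟶ Q) (h : X ⟶ H), (x ≫ q) * h = h * (x ≫ q)) : ∃ m : Q ⟶ R, m ≫ r ≫ j = q := by
  have := locallyOfFiniteType_centre hH j hZ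
  exact rad_factor' j hZ r hR q hQ hc

/-- `rad(H') ⊆ rad(H)` for `H ⊆ H' ⊆ G`, `H` reductive and of type (R) in the reductive group `G`, where
`rad(H')` is any torus central in `H'`. -/
theorem main {G H H' ZH ZH' R R' : Over S} [GrpObj G] [GrpObj H] [GrpObj H'] [GrpObj ZH] [GrpObj ZH'] [GrpObj R]
    [GrpObj R'] (hG : Red.IsReductive G) (i : H ⟶ G) (hi : RedSub.IsTypeR i) (hH : Red.IsReductive H)
    (i' : H' ⟶ G) [IsMonHom i'] (k : H ⟶ H') (hk : k ≫ i' = i)
    (jz : ZH ⟶ H) (hZH : Red.IsCentre jz) (r : R ⟶ ZH) (hR : Red.IsMaximalTorus r)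
    (jz' : ZH' ⟶ H') (hZH' : Red.IsCentre jz') (r' : R' ⟶ ZH') [IsMonHom r'] (hR' : Red.IsTorus R') :
    ∃ m : R' ⟶ R, m ≫ r ≫ jz ≫ i = r' ≫ jz' ≫ i' := by
  have hi1 : IsImmersion i.left := hi.1.2
  have hi2 : Mono i := mono_of_isImmersion i
  have hi3 : IsMonHom i := hi.1.1
  have hj1 : IsMonHom jz' := hZH'.1
  obtain ⟨c, hc⟩ := centre_factor hG i hi i' k hk jz' hZH'
  have h1 : IsMonHom (r' ≫ c) := isMonHom_of_comp (p := i) (i := r' ≫ jz' ≫ i') (by rw [Category.assoc, hc])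
  obtain ⟨m, hm⟩ := rad_factor hH jz hZH r hR (r' ≫ c) hR' (by
    intro X x h
    rw [← cancel_mono i, MonObj.mul_comp, MonObj.mul_comp]
    have h2 : (x ≫ r' ≫ c) ≫ i = (x ≫ r' ≫ jz') ≫ i' := by
      simp only [Category.assoc, hc]
    have h3 : h ≫ i = (h ≫ k) ≫ i' := by rw [Category.assoc, hk]
    rw [h2, h3, ← MonObj.mul_comp, ← MonObj.mul_comp]
    have h4 := centre_comm jz' hZH' (x ≫ r') (h ≫ k)
    rw [Category.assoc] at h4
    rw [h4])
  refine ⟨m, ?_⟩
  have h5 := congrArg (fun z => z ≫ i) hm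
  simpa only [Category.assoc, hc] using h5

end K198.Rad
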