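import Groth.Agent.RedSub.K198.RadT
import Groth.Agent.RedSub.K198.Rad
import Groth.Agent.RedSub.H654.LocChart
import Groth.Agent.Sga3B.AlgBc
import Groth.Agent.Sga3B.AdAff
import Groth.Agent.Pic13.H703.KPoints

/-!
# `rad(G) × dér(G) ⟶ G` is surjective

`exists_decomp`: points over algebraically closed fields; `surjective`: the multiplication is surjective.
-/

set_option autoImplicit false
open CategoryTheory MonoidalCategory CartesianMonoidalCategory MonObj GrpObj AlgebraicGeometry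
universe u

namespace K198.RadSurj

open Groth.Agent.Sga3B Groth.Agent.RedSub.H654.PtBc Groth.Agent.RedSub.H654.LocChart Groth.Agent.RedSub.H654.UnivPt
open Limits

/-- points over algebraically closed fields lift along morphisms locally of finite type -/
lemma exists_lift {X Y : Scheme.{u}} (f : X ⟶ Y) [LocallyOfFiniteType f] {K : Type u} [Field K] [IsAlgClosed K]
    (y : Spec (CommRingCat.of K) ⟶ Y) (hy : y (IsLocalRing.closedPoint K) ∈ Set.range f) :
    ∃ x : Spec (CommRingCat.of K) ⟶ X, x ≫ f = y := by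
  obtain ⟨x₀, hx₀⟩ := hy
  obtain ⟨z, -⟩ := Scheme.Pullback.exists_preimage_pullback (f := f) (g := y) x₀ (IsLocalRing.closedPoint K) hx₀
  have : Nonempty ↥(pullback f y) := ⟨z⟩
  obtain ⟨σ, hσ⟩ := Groth.Agent.Pic13.H703.KPoints.exists_section (pullback.snd f y)
  exact ⟨σ ≫ pullback.fst f y, by rw [Category.assoc, pullback.condition, ← Category.assoc, hσ, Category.id_comp]⟩

variable {S : Scheme.{u}} {G D C Z R : Over S} [GrpObj G] [GrpObj D] [GrpObj C] [GrpObj Z] [GrpObj R]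

lemma comm_bc (hC : ∀ (X : Over S) (a b : X ⟶ C), a * b = b * a) {V : Scheme.{u}} (v : V ⟶ S) (X : Over V)
    (x y : X ⟶ Red.bc v C) : x * y = y * x := by
  have h : ∀ x y : Over.mk X.hom ⟶ Red.bc v C, x * y = y * x := by
    intro x y
    apply dn_injective (v := v) (τ := X.hom ≫ v) rfl
    rw [dn_mul, dn_mul, hC]
  exact h x y

/-- Points over algebraically closed fields, general form: `r : R ⟶ G` any homomorphism such that étale-locally the
radical torus factors through `R`. -/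
theorem exists_decomp' (hG : Red.IsReductive G) (d : D ⟶ G) (f₀ : G ⟶ C) [IsMonHom f₀]
    (hC : ∀ (X : Over S) (a b : X ⟶ C), a * b = b * a) (hker : AlgGrp.IsKernel d f₀) (r : R ⟶ G)
    (hfac : ∀ c : PChart G, ∃ m : Red.DS (Spec c.B) (c.D.M ⧸ K198.RadT.QS c.D.toSplitRed) ⟶ Red.bc c.v R,
      m ≫ (Over.pullback c.v).map r = K198.RadT.radT c.D.toSplitRed)
    {K : Type u} [Field K] [IsAlgClosed K] (s : Spec (CommRingCat.of K) ⟶ S) (x : Over.mk s ⟶ G) :
    ∃ (ρ : Over.mk s ⟶ R) (y : Over.mk s ⟶ D), (ρ ≫ r) * (y ≫ d) = x := by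
  obtain ⟨c, hc⟩ := exists_pchart hG (s (IsLocalRing.closedPoint K))
  obtain ⟨a, ha⟩ := exists_lift c.v s hc
  obtain ⟨m, hm⟩ := hfac c
  -- the point
  let x' : Over.mk a ⟶ Red.bc c.v G := up ha x
  obtain ⟨ρ₀, hρ₀⟩ := K198.RadT.exists_point c.D.toSplitRed c.D.base c.q c.hqj a (x' ≫ c.q)
  let ρ : Over.mk s ⟶ R := dn ha (ρ₀ ≫ m)
  have hρ : (up ha (ρ ≫ r) : Over.mk a ⟶ Red.bc c.v G) = ρ₀ ≫ K198.RadT.radT c.D.toSplitRed := by
    rw [← up_comp, ← hm, up_dn, Category.assoc]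
  let g : Over.mk s ⟶ G := (ρ ≫ r)⁻¹ * x
  have hg : (up ha g : Over.mk a ⟶ Red.bc c.v G) ≫ c.q = 1 := by
    have h1 : (up ha g : Over.mk a ⟶ Red.bc c.v G) = (up ha (ρ ≫ r) : Over.mk a ⟶ Red.bc c.v G)⁻¹ * x' := by
      rw [eq_inv_mul_iff_mul_eq, ← up_mul]
      congr 1
      exact mul_inv_cancel_left _ _
    rw [h1, MonObj.mul_comp _ _ c.q, GrpObj.inv_comp _ c.q, hρ, hρ₀]
    exact inv_mul_cancel _
  have hgC : g ≫ f₀ = 1 := by
    have h2 := c.kill c.v (Red.bc c.v C) (comm_bc hC c.v) ((Over.pullback c.v).map f₀) ha ha g hg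
    rw [up_comp] at h2
    apply up_injective ha
    rw [h2, up_one]
  -- lift to the kernel
  have hgC' : g ≫ f₀ = toUnit _ ≫ η[C] := by rw [hgC, Hom.one_def]
  refine ⟨ρ, hker.lift g (toUnit _) hgC', ?_⟩
  rw [hker.lift_fst]
  exact mul_inv_cancel_left _ _

/-- the étale-local factorisation for the radical -/
lemma fac_rad (j : Z ⟶ G) (hZ : Red.IsCentre j) (r : R ⟶ Z) (hR : Red.IsMaximalTorus r) (c : PChart G) :
    ∃ m : Red.DS (Spec c.B) (c.D.M ⧸ K198.RadT.QS c.D.toSplitRed) ⟶ Red.bc c.v R,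
      m ≫ (Over.pullback c.v).map (r ≫ j) = K198.RadT.radT c.D.toSplitRed := by
  have hGr : Red.IsReductive (Red.bc c.v G) := c.D.reductive
  have hZ' : Red.IsCentre ((Over.pullback c.v).map j) := by
    have hz := SplitBc264.isCentralizerOf_bc c.v hZ
    rwa [(Over.pullback c.v).map_id G] at hz
  have hR' : Red.IsMaximalTorus ((Over.pullback c.v).map r) := AlgBc.isMaximalTorus_bc c.v hR
  obtain ⟨m, hm⟩ := K198.Rad.rad_factor hGr _ hZ' _ hR' (K198.RadT.radT c.D.toSplitRed)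
    (K198.RadT.isTorus _) (fun X x h => K198.RadT.central _ x h)
  exact ⟨m, by rw [Functor.map_comp, hm]⟩

/-- the étale-local factorisation for a maximal torus -/
lemma fac_torus (hG : Red.IsReductive G) (t : R ⟶ G) (ht : Red.IsMaximalTorus t) (c : PChart G) :
    ∃ m : Red.DS (Spec c.B) (c.D.M ⧸ K198.RadT.QS c.D.toSplitRed) ⟶ Red.bc c.v R,
      m ≫ (Over.pullback c.v).map t = K198.RadT.radT c.D.toSplitRed := by
  have hGr : Red.IsReductive (Red.bc c.v G) := c.D.reductive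
  have h1 : Smooth (Red.bc c.v G).hom := hGr.2.1
  have ht' : Red.IsMaximalTorus ((Over.pullback c.v).map t) := AlgBc.isMaximalTorus_bc c.v ht
  exact Groth.Agent.Sga3.H800.FacMain.exists_factor ((Over.pullback c.v).map t) (K198.RadT.radT c.D.toSplitRed)
    ht' (K198.RadT.isTorus _) (fun X x y => (K198.RadT.central _ y (x ≫ (Over.pullback c.v).map t)).symm)

/-- surjectivity from points over algebraically closed fields -/
lemma surjective_of_points (d : D ⟶ G) (r : R ⟶ G)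
    (h : ∀ (K : Type u) [Field K] [IsAlgClosed K] (s : Spec (CommRingCat.of K) ⟶ S) (x : Over.mk s ⟶ G),
      ∃ (ρ : Over.mk s ⟶ R) (y : Over.mk s ⟶ D), (ρ ≫ r) * (y ≫ d) = x) :
    Surjective ((r ⊗ₘ d) ≫ μ[G]).left := by
  refine ⟨fun g => ?_⟩
  let K := AlgebraicClosure (G.left.residueField g)
  let t : Spec (CommRingCat.of K) ⟶ G.left := Red.geomPt g
  let x : Over.mk (t ≫ G.hom) ⟶ G := Over.homMk t rfl
  obtain ⟨ρ, y, h⟩ := h K (t ≫ G.hom) x
  have h2 : lift ρ y ≫ (r ⊗ₘ d) ≫ μ[G] = x := by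
    rw [← h, lift_map_assoc]
    rfl
  refine ⟨(lift ρ y).left (IsLocalRing.closedPoint K), ?_⟩
  have h3 := congrArg (fun f => f.left (IsLocalRing.closedPoint K)) h2
  simp only [Over.comp_left, Scheme.Hom.comp_apply] at h3
  rw [Over.comp_left, Scheme.Hom.comp_apply, h3]
  exact AdAff.geomPt_apply g (IsLocalRing.closedPoint K)

/-- **Points over algebraically closed fields.** -/
theorem exists_decomp (hG : Red.IsReductive G) (d : D ⟶ G) (f₀ : G ⟶ C) [IsMonHom f₀]
    (hC : ∀ (X : Over S) (a b : X ⟶ C), a * b = b * a) (hker : AlgGrp.IsKernel d f₀)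
    (j : Z ⟶ G) (hZ : Red.IsCentre j) (r : R ⟶ Z) (hR : Red.IsMaximalTorus r)
    {K : Type u} [Field K] [IsAlgClosed K] (s : Spec (CommRingCat.of K) ⟶ S) (x : Over.mk s ⟶ G) :
    ∃ (ρ : Over.mk s ⟶ R) (y : Over.mk s ⟶ D), (ρ ≫ r ≫ j) * (y ≫ d) = x :=
  exists_decomp' hG d f₀ hC hker (r ≫ j) (fac_rad j hZ r hR) s x

/-- **`rad(G) × dér(G) ⟶ G` is surjective.** -/
theorem surjective (hG : Red.IsReductive G) (d : D ⟶ G) (f₀ : G ⟶ C) [IsMonHom f₀]
    (hC : ∀ (X : Over S) (a b : X ⟶ C), a * b = b * a) (hker : AlgGrp.IsKernel d f₀)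
    (j : Z ⟶ G) (hZ : Red.IsCentre j) (r : R ⟶ Z) (hR : Red.IsMaximalTorus r) :
    Surjective (((r ≫ j) ⊗ₘ d) ≫ μ[G]).left :=
  surjective_of_points d (r ≫ j) fun _ _ _ s x => exists_decomp hG d f₀ hC hker j hZ r hR s x

/-- **`T × dér(G) ⟶ G` is surjective**, `T` a maximal torus. -/
theorem surjective_torus (hG : Red.IsReductive G) (d : D ⟶ G) (f₀ : G ⟶ C) [IsMonHom f₀]
    (hC : ∀ (X : Over S) (a b : X ⟶ C), a * b = b * a) (hker : AlgGrp.IsKernel d f₀)
    (t : R ⟶ G) (ht : Red.IsMaximalTorus t) : Surjective ((t ⊗ₘ d) ≫ μ[G]).left :=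
  surjective_of_points d t fun _ _ _ s x => exists_decomp' hG d f₀ hC hker t (fac_torus hG t ht) s x

end K198.RadSurj
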