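import Groth.Agent.Sga3B.BcPts
import Groth.Agent.Sga3B.DSPts
import Groth.Prelude.Def_RedSub
import Groth.Prelude.Def_AutFam

/-!
# Families of characters of `T ⋉ U` are determined by their restriction to `T`
-/

set_option autoImplicit false
set_option linter.unusedSectionVars false
universe u

open CategoryTheory MonoidalCategory CartesianMonoidalCategory MonObj GrpObj AlgebraicGeometry Limits

namespace K198.BidK

section fam

open Groth.Agent.Sga3B.BcPts

variable {V : Scheme.{u}} {H T A X : Over V} [GrpObj H] [GrpObj T] [GrpObj A]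

/-- the structure map -/
noncomputable def st (X : Over V) (Y : Over X.left) : (Over.map X.hom).obj Y ⟶ X := Over.homMk Y.hom rfl

lemma map_st {Y Y' : Over X.left} (g : Y' ⟶ Y) : (Over.map X.hom).map g ≫ st X Y = st X Y' := by
  apply Over.OverMorphism.ext
  exact Over.w g

/-- the morphism over the parameter scheme attached to a family -/
noncomputable def phi (φ : H ⊗ X ⟶ A) : Red.bc X.hom H ⟶ Red.bc X.hom A :=
  bcEquiv X.hom _ A (lift ((bcEquiv X.hom _ H).symm (𝟙 _)) (st X _) ≫ φ)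

lemma comp_phi (φ : H ⊗ X ⟶ A) {Y : Over X.left} (g : Y ⟶ Red.bc X.hom H) :
    g ≫ phi φ = bcEquiv X.hom Y A (lift ((bcEquiv X.hom Y H).symm g) (st X Y) ≫ φ) := by
  rw [phi, ← comp_bcEquiv, comp_lift_assoc, ← comp_bcEquiv_symm, Category.comp_id, map_st]

lemma isMonHom_phi {φ : H ⊗ X ⟶ A} (h : AutFam.IsHomFamily H A φ) : IsMonHom (phi φ) := by
  have key : ∀ (Y : Over X.left) (g g' : Y ⟶ Red.bc X.hom H), (g * g') ≫ phi φ = (g ≫ phi φ) * (g' ≫ phi φ) := by
    intro Y g g'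
    have e1 : (bcEquiv X.hom Y H).symm (g * g') = (bcEquiv X.hom Y H).symm g * (bcEquiv X.hom Y H).symm g' :=
      (bcMulEquiv X.hom Y H).symm.map_mul g g'
    rw [comp_phi, comp_phi, comp_phi, e1, h, bcEquiv_mul]
  have h1 : (1 : 𝟙_ (Over X.left) ⟶ Red.bc X.hom H) ≫ phi φ = 1 := by
    have := key _ (1 : 𝟙_ (Over X.left) ⟶ Red.bc X.hom H) 1
    rw [_root_.mul_one] at this
    exact mul_eq_left.1 this.symm
  refine ⟨?_, ?_⟩
  · rw [Hom.one_def, Hom.one_def] at h1
    simpa using h1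
  · have h2 := key _ (fst (Red.bc X.hom H) (Red.bc X.hom H)) (snd _ _)
    rw [Hom.mul_def, Hom.mul_def, lift_fst_snd, Category.id_comp] at h2
    rw [h2]
    congr 1

lemma phi_injective {φ ψ : H ⊗ X ⟶ A} (h : phi φ = phi ψ) : φ = ψ := by
  let y : H ⊗ X ⟶ Over.mk X.hom := snd H X
  let g := bcEquiv X.hom (Over.mk y.left) H ((overIso y).hom ≫ fst H X)
  have h1 : ∀ χ : H ⊗ X ⟶ A, (bcEquiv X.hom (Over.mk y.left) A).symm (g ≫ phi χ) = (overIso y).hom ≫ χ := by
    intro χ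
    rw [comp_phi, Equiv.symm_apply_apply]
    have h2 : st X (Over.mk y.left) = (overIso y).hom ≫ snd H X := by
      apply Over.OverMorphism.ext
      change y.left = 𝟙 _ ≫ y.left
      rw [Category.id_comp]
    change lift ((bcEquiv X.hom (Over.mk y.left) H).symm (bcEquiv X.hom (Over.mk y.left) H
      ((overIso y).hom ≫ fst H X))) _ ≫ χ = _
    rw [h2, Equiv.symm_apply_apply, ← comp_lift, lift_fst_snd, Category.comp_id]
  rw [← cancel_epi (overIso y).hom, ← h1 φ, ← h1 ψ, h]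

lemma map_comp_phi (t : T ⟶ H) (φ : H ⊗ X ⟶ A) :
    (Over.pullback X.hom).map t ≫ phi φ = phi ((t ▷ X) ≫ φ) := by
  rw [comp_phi, phi]
  congr 1
  have h1 : (bcEquiv X.hom (Red.bc X.hom T) H).symm ((Over.pullback X.hom).map t) =
      (bcEquiv X.hom (Red.bc X.hom T) T).symm (𝟙 _) ≫ t := by
    rw [← bcEquiv_symm_comp, Category.id_comp]
  rw [lift_whiskerRight_assoc]
  exact congrArg (fun k => lift k (st X _) ≫ φ) h1

/-- **Uniqueness of families of homomorphisms of `T ⋉ U` to commutative groups.** -/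
theorem family_ext (t : T ⟶ H) [IsMonHom t] (hA : ∀ (Y : Over V) (a b : Y ⟶ A), a * b = b * a)
    (hyp : ∃ (U : Over X.left) (_ : GrpObj U) (u : U ⟶ Red.bc X.hom H),
      RedSub.KilledByCommutative u ∧ IsIso (((Over.pullback X.hom).map t ⊗ₘ u) ≫ μ[Red.bc X.hom H]))
    (φ ψ : H ⊗ X ⟶ A) (hφ : AutFam.IsHomFamily H A φ) (hψ : AutFam.IsHomFamily H A ψ)
    (h : (t ▷ X) ≫ φ = (t ▷ X) ≫ ψ) : φ = ψ := by
  obtain ⟨U, _, u, hu, hi⟩ := hyp
  apply phi_injective
  have m1 := isMonHom_phi hφ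
  have m2 := isMonHom_phi hψ
  have hA' : ∀ (Y : Over X.left) (a b : Y ⟶ Red.bc X.hom A), a * b = b * a := by
    intro Y a b
    apply (bcMulEquiv X.hom Y A).symm.injective
    rw [map_mul, map_mul, hA]
  have e1 := hu _ (phi φ) hA'
  have e2 := hu _ (phi ψ) hA'
  rw [← cancel_epi (((Over.pullback X.hom).map t ⊗ₘ u) ≫ μ[Red.bc X.hom H])]
  have e3 : ((Over.pullback X.hom).map t ⊗ₘ u) ≫ μ[Red.bc X.hom H] =
      (fst _ _ ≫ (Over.pullback X.hom).map t) * (snd _ _ ≫ u) := by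
    rw [Hom.mul_def]
    congr 1
  rw [e3, MonObj.mul_comp, MonObj.mul_comp, Category.assoc, Category.assoc, Category.assoc, Category.assoc, e1, e2,
    map_comp_phi, map_comp_phi, h]

end fam

end K198.BidK
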