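import Groth.Agent.S3972
import Groth.Agent.Sga3B.MaxTorNear900
import Groth.Agent.Sga3B.MaxTorusCrit

/-!
# The derived group of a reductive group has no commutative quotients
-/

set_option autoImplicit false
open CategoryTheory MonoidalCategory CartesianMonoidalCategory MonObj GrpObj AlgebraicGeometry
universe u

namespace K198.DerSS

variable {S : Scheme.{u}} {G D A : Over S} [GrpObj G] [GrpObj D] [GrpObj A]

lemma isReductive_of_isSemisimple (h : Red.IsSemisimple D) : Red.IsReductive D :=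
  ⟨h.1, h.2.1, fun s => (h.2.2 s).1⟩

/-- homomorphisms from a semisimple group to a commutative group are trivial -/
theorem eq_one_of_isSemisimple (h : Red.IsSemisimple D) (f : D ⟶ A) [IsMonHom f]
    (hA : ∀ (X : Over S) (a b : X ⟶ A), a * b = b * a) : f = 1 := by
  obtain ⟨C₀, _, g₀, D₀, _, d₀, -, -, -, -, -, -, -, -, hkill₀, -, hiso⟩ :=
    Groth.Agent.S3972.result D (isReductive_of_isSemisimple h)
  have := hiso h
  rw [← cancel_epi d₀, hkill₀ A f hA, MonObj.comp_one]

/-- homomorphisms from the derived group of a reductive group to a commutative group are trivial -/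
theorem eq_one (hG : Red.IsReductive G) (d : D ⟶ G) [IsMonHom d]
    (hker : ∃ (C : Over S) (_ : GrpObj C) (f₀ : G ⟶ C), IsMonHom f₀ ∧ (∀ (X : Over S) (a b : X ⟶ C), a * b = b * a) ∧
      AlgGrp.IsKernel d f₀) (hkill : RedSub.KilledByCommutative d) (f : D ⟶ A) [IsMonHom f]
    (hA : ∀ (X : Over S) (a b : X ⟶ A), a * b = b * a) : f = 1 := by
  obtain ⟨C, _, f₀, hf₀, hC, hk⟩ := hker
  obtain ⟨C₀, _, g₀, D₀, _, d₀, hg₀, hC₀, -, -, hd₀, -, hker₀, hss, hkill₀, -, -⟩ := Groth.Agent.S3972.result G hG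
  have h1 : d ≫ g₀ = 1 := hkill C₀ g₀ (Groth.Agent.Sga3B.MaxTorNear900.mul_comm_of_isTorus hC₀)
  have h2 : d₀ ≫ f₀ = 1 := hkill₀ C f₀ hC
  let α : D ⟶ D₀ := hker₀.lift d (toUnit D) (by rw [h1, Hom.one_def])
  have hα : α ≫ d₀ = d := hker₀.lift_fst _ _ _
  let β : D₀ ⟶ D := hk.lift d₀ (toUnit D₀) (by rw [h2, Hom.one_def])
  have hβ : β ≫ d = d₀ := hk.lift_fst _ _ _
  have hm : Mono d := by
    constructor
    intro X x y h
    exact hk.hom_ext h (toUnit_unique _ _)
  have hβm : IsMonHom β := by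
    have : IsMonHom (β ≫ d) := by rw [hβ]; exact hd₀
    exact Groth.Agent.Sga3B.MaxTorusCrit.isMonHom_of_comp_mono β d
  have h3 : α ≫ β = 𝟙 _ := by rw [← cancel_mono d, Category.assoc, hβ, hα, Category.id_comp]
  rw [← Category.id_comp f, ← h3, Category.assoc, eq_one_of_isSemisimple hss (β ≫ f) hA, MonObj.comp_one]

end K198.DerSS
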