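import Groth.Agent.RedSub.K198.BidPts
import Groth.Agent.Sga3B.RepDescent9
import Groth.Agent.Sga3B.HomFun898
import Groth.Agent.Sga3B.DsBc
import Groth.Agent.Sga3B.TorusAlgClosed

/-!
# Base change of representing families and of the biduality data
-/

set_option autoImplicit false
set_option linter.unusedSectionVars false
universe u

open CategoryTheory MonoidalCategory CartesianMonoidalCategory MonObj GrpObj AlgebraicGeometry Limits
open Groth.Agent.Sga3B

namespace K198.BidBc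

open RepDescent BcPts

variable {S V : Scheme.{u}} (v : V ⟶ S) {G H A B : Over S} [GrpObj G] [GrpObj H] [GrpObj A] [GrpObj B]

/-- the counit -/
noncomputable def eps (A : Over S) : (Over.map v).obj (Red.bc v A) ⟶ A :=
  (bcEquiv v (Red.bc v A) A).symm (𝟙 _)

lemma map_eps {X : Over V} (a : X ⟶ Red.bc v A) : (Over.map v).map a ≫ eps v A = (bcEquiv v X A).symm a := by
  rw [eps, ← comp_bcEquiv_symm, Category.comp_id]

/-- base change of a family -/
noncomputable def famV (υ : H ⊗ A ⟶ G) : Red.bc v H ⊗ Red.bc v A ⟶ Red.bc v G := toV v ((H ◁ eps v A) ≫ υ)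

lemma lift_famV (υ : H ⊗ A ⟶ G) {X : Over V} (h : X ⟶ Red.bc v H) (a : X ⟶ Red.bc v A) :
    lift h a ≫ famV v υ = bcEquiv v X G (lift ((bcEquiv v X H).symm h) ((bcEquiv v X A).symm a) ≫ υ) := by
  rw [famV, lift_toV, BidPts.Data.whisker_eq, comp_lift_assoc, lift_fst, lift_snd_assoc, map_eps]

theorem rep_bc {υ : H ⊗ A ⟶ G} (h : AutFam.RepresentsHom H G A υ) :
    AutFam.RepresentsHom (Red.bc v H) (Red.bc v G) (Red.bc v A) (famV v υ) := by
  refine ⟨isHomFamily_toV v (IsoFam.isHomFamily_pull h.1 _), fun T φ hφ => ?_⟩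
  obtain ⟨a, ha, hu⟩ := h.2 ((Over.map v).obj T) (ofV v φ) (isHomFamily_ofV v hφ)
  refine ⟨bcEquiv v T A a, ?_, ?_⟩
  · change (Red.bc v H ◁ (bcEquiv v T A a)) ≫ famV v υ = φ
    rw [famV, ← toV_pull, ← whiskerLeft_comp_assoc, map_eps, Equiv.symm_apply_apply, ha, toV_ofV]
  · intro b hb
    change (Red.bc v H ◁ b) ≫ famV v υ = φ at hb
    rw [famV, ← toV_pull, ← whiskerLeft_comp_assoc, map_eps] at hb
    rw [← hu ((bcEquiv v T A).symm b) (by
      change (H ◁ (bcEquiv v T A).symm b) ≫ υ = ofV v φ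
      rw [← hb, ofV_toV]), Equiv.apply_symm_apply]

/-- the base change of `Gm` -/
noncomputable abbrev gmIso : Red.bc v (Red.Gm S) ⟶ Red.Gm V := (TorusAlgClosed.dsBcIso v ℤ).hom.hom.hom

instance : IsMonHom (gmIso v) := (TorusAlgClosed.dsBcIso v ℤ).hom.hom.isMonHom_hom

/-- the base change of `Gm`, as an isomorphism -/
noncomputable def gmE : Red.Gm V ≅ Red.bc v (Red.Gm S) where
  hom := (TorusAlgClosed.dsBcIso v ℤ).inv.hom.hom
  inv := gmIso v
  hom_inv_id := congrArg (fun k => k.hom.hom) (TorusAlgClosed.dsBcIso v ℤ).inv_hom_id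
  inv_hom_id := congrArg (fun k => k.hom.hom) (TorusAlgClosed.dsBcIso v ℤ).hom_inv_id

instance : IsMonHom (gmE v (S := S)).hom := (TorusAlgClosed.dsBcIso v ℤ).inv.hom.isMonHom_hom

/-- base change of a family of characters -/
noncomputable def chV (υ : H ⊗ A ⟶ Red.Gm S) : Red.bc v H ⊗ Red.bc v A ⟶ Red.Gm V := famV v υ ≫ gmIso v

lemma lift_chV (υ : H ⊗ A ⟶ Red.Gm S) {X : Over V} (h : X ⟶ Red.bc v H) (a : X ⟶ Red.bc v A) :
    lift h a ≫ chV v υ = bcEquiv v X (Red.Gm S) (lift ((bcEquiv v X H).symm h) ((bcEquiv v X A).symm a) ≫ υ) ≫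
      gmIso v := by
  rw [chV, ← Category.assoc, lift_famV]

theorem rep_chV {υ : H ⊗ A ⟶ Red.Gm S} (h : AutFam.RepresentsHom H (Red.Gm S) A υ) :
    AutFam.RepresentsHom (Red.bc v H) (Red.Gm V) (Red.bc v A) (chV v υ) := by
  have h1 := rep_bc v h
  have h0 : IsMonHom (Iso.refl (Red.bc v H)).hom := inferInstanceAs (IsMonHom (𝟙 (Red.bc v H)))
  have h2 := HomFun898.representsHom_of_iso (H := Red.bc v H) (G := Red.Gm V) (Iso.refl _) (gmE v) h1
  have h3 : (((Iso.refl (Red.bc v H)).hom ▷ (Red.bc v A)) ≫ famV v υ ≫ (gmE v).inv) = chV v υ := by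
    rw [Iso.refl_hom, id_whiskerRight, Category.id_comp]
    rfl
  rwa [h3] at h2

lemma chV_mul {υ : H ⊗ A ⟶ Red.Gm S}
    (hAmul : ∀ (X : Over S) (h : X ⟶ H) (a b : X ⟶ A), lift h (a * b) ≫ υ = (lift h a ≫ υ) * (lift h b ≫ υ))
    (X : Over V) (h : X ⟶ Red.bc v H) (a b : X ⟶ Red.bc v A) :
    lift h (a * b) ≫ chV v υ = (lift h a ≫ chV v υ) * (lift h b ≫ chV v υ) := by
  rw [lift_chV, lift_chV, lift_chV]
  have e1 : (bcEquiv v X A).symm (a * b) = (bcEquiv v X A).symm a * (bcEquiv v X A).symm b :=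
    (bcMulEquiv v X A).symm.map_mul a b
  rw [e1, hAmul, bcEquiv_mul]
  exact MonObj.mul_comp _ _ (gmIso v)

lemma chV_f {υ : H ⊗ A ⟶ Red.Gm S} {υ' : A ⊗ B ⟶ Red.Gm S} {f : H ⟶ B}
    (hf : (A ◁ f) ≫ υ' = lift (snd A H) (fst A H) ≫ υ) :
    (Red.bc v A ◁ (Over.pullback v).map f) ≫ chV v υ' =
      lift (snd (Red.bc v A) (Red.bc v H)) (fst (Red.bc v A) (Red.bc v H)) ≫ chV v υ := by
  rw [BidPts.Data.whisker_eq, lift_chV, lift_chV]
  congr 2
  have h1 := congrArg (fun k => lift ((bcEquiv v _ A).symm (fst (Red.bc v A) (Red.bc v H)))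
    ((bcEquiv v _ H).symm (snd (Red.bc v A) (Red.bc v H))) ≫ k) hf
  simp only [BidPts.Data.whisker_eq, comp_lift_assoc, lift_fst, lift_snd, lift_fst_assoc, lift_snd_assoc] at h1
  rw [bcEquiv_symm_comp]
  exact h1

end K198.BidBc
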