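import Groth.Prelude.Def_AlgGrp
import Groth.Prelude.Def_RedSub
import Groth.Agent.RedSub.K198.Rad

/-!
# The projection `T ⋉ U ⟶ T`
-/

set_option autoImplicit false
set_option linter.unusedSectionVars false
universe u

open CategoryTheory MonoidalCategory CartesianMonoidalCategory MonObj GrpObj AlgebraicGeometry Limits

namespace K198.SemiProj

variable {S : Scheme.{u}} {H T U : Over S} [GrpObj H] [GrpObj T] [GrpObj U]

/-- the multiplication map -/
noncomputable abbrev mm (t : T ⟶ H) (u : U ⟶ H) : T ⊗ U ⟶ H := (t ⊗ₘ u) ≫ μ[H]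

lemma lift_mm (t : T ⟶ H) (u : U ⟶ H) {X : Over S} (τ : X ⟶ T) (w : X ⟶ U) :
    lift τ w ≫ mm t u = (τ ≫ t) * (w ≫ u) := by
  rw [mm, lift_map_assoc]
  rfl

variable (t : T ⟶ H) (u : U ⟶ H) [IsIso (mm t u)]

/-- the projection -/
noncomputable def proj : H ⟶ T := inv (mm t u) ≫ fst T U

lemma proj_mul {X : Over S} (τ : X ⟶ T) (w : X ⟶ U) : ((τ ≫ t) * (w ≫ u)) ≫ proj t u = τ := by
  rw [← lift_mm, proj, Category.assoc, IsIso.hom_inv_id_assoc, lift_fst]

lemma exists_eq {X : Over S} (h : X ⟶ H) : ∃ (τ : X ⟶ T) (w : X ⟶ U), (τ ≫ t) * (w ≫ u) = h := by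
  refine ⟨(h ≫ inv (mm t u)) ≫ fst T U, (h ≫ inv (mm t u)) ≫ snd T U, ?_⟩
  rw [← lift_mm, ← comp_lift, lift_fst_snd, Category.comp_id, Category.assoc, IsIso.inv_hom_id, Category.comp_id]

lemma t_proj [IsMonHom u] : t ≫ proj t u = 𝟙 _ := by
  have h := proj_mul t u (𝟙 T) (1 : T ⟶ U)
  rwa [MonObj.one_comp, _root_.mul_one, Category.id_comp] at h

lemma isMonHom_proj [IsMonHom t] [IsMonHom u] (hn : AlgGrp.IsNormalHom u) : IsMonHom (proj t u) := by
  have key : ∀ (Y : Over S) (g g' : Y ⟶ H), (g * g') ≫ proj t u = (g ≫ proj t u) * (g' ≫ proj t u) := by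
    intro Y g g'
    obtain ⟨τ, w, rfl⟩ := exists_eq t u g
    obtain ⟨τ', w', rfl⟩ := exists_eq t u g'
    obtain ⟨w'', hw⟩ := hn Y (τ' ≫ t)⁻¹ w
    rw [_root_.inv_inv] at hw
    have e : ((τ ≫ t) * (w ≫ u)) * ((τ' ≫ t) * (w' ≫ u)) = ((τ * τ') ≫ t) * ((w'' * w') ≫ u) := by
      rw [MonObj.mul_comp, MonObj.mul_comp, ← hw]
      group
    rw [e, proj_mul, proj_mul, proj_mul]
  have h1 : (1 : 𝟙_ (Over S) ⟶ H) ≫ proj t u = 1 := by
    have := key _ (1 : 𝟙_ (Over S) ⟶ H) 1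
    rw [_root_.mul_one] at this
    exact mul_eq_left.1 this.symm
  refine ⟨?_, ?_⟩
  · rw [Hom.one_def, Hom.one_def] at h1
    simpa using h1
  · have h2 := key _ (fst H H) (snd _ _)
    rw [Hom.mul_def, Hom.mul_def, lift_fst_snd, Category.id_comp] at h2
    rw [h2]
    congr 1

lemma smooth_surjective [Smooth U.hom] : Smooth (proj t u).left ∧ Surjective (proj t u).left := by
  have h1 : Smooth (fst T U).left := MorphismProperty.pullback_fst (P := @Smooth) _ _ ‹_›
  have h2 : Surjective (fst T U).left := by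
    have e : (lift (𝟙 T) (1 : T ⟶ U)).left ≫ (fst T U).left = 𝟙 _ := by
      rw [← Over.comp_left, lift_fst]
      rfl
    have : Surjective ((lift (𝟙 T) (1 : T ⟶ U)).left ≫ (fst T U).left) := by rw [e]; infer_instance
    exact Surjective.of_comp (lift (𝟙 T) (1 : T ⟶ U)).left (fst T U).left
  rw [proj, Over.comp_left]
  have h3 : IsIso (CategoryTheory.inv (mm t u)).left :=
    inferInstanceAs (IsIso ((Over.forget S).map (CategoryTheory.inv (mm t u))))
  exact ⟨inferInstance, inferInstance⟩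

end K198.SemiProj
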