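import Groth.Agent.RedSub.K198.BidK
import Groth.Agent.RedSub.K198.BidBc
import Groth.Agent.RedSub.K198.SemiProj
import Groth.Agent.RedSub.K197.LocP
import Groth.Agent.RedSub.H643.TypeRTorus
import Groth.Agent.Sga3B.Parab.GeomFib147
import Groth.Agent.Sga3B.MaxTorBc505
import Groth.Agent.Sga3B.RedBcAny636
import Groth.Agent.Sga3B.IsomHa505
import Groth.Agent.Sga3B.MaxTorusCrit

/-!
# Biduality for solvable subgroups of type (R)
-/

set_option autoImplicit false
set_option linter.unusedSectionVars false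
universe u

open CategoryTheory MonoidalCategory CartesianMonoidalCategory MonObj GrpObj AlgebraicGeometry Limits
open Groth.Agent.Sga3B Groth.Agent.Sga3B.Parab

namespace K198.BidAsm

/-- the structure theorem S5531 -/
def Semi : Prop := ∀ {S : Scheme.{u}} {G H T : Over S} [GrpObj G] [GrpObj H]
    [GrpObj T] (_ : Red.IsReductive G) (i : H ⟶ G) (_ : RedSub.IsTypeR i)
    (_ : ∀ s : S, Red.IsSolvableGrp (Red.geomFibre s H)) (t : T ⟶ H) [IsMonHom t]
    (_ : Red.IsMaximalTorus (t ≫ i)),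
    ∃ (U : Over S) (_ : GrpObj U) (u : U ⟶ H), Par.IsUnipotentRadical u ∧ RedSub.KilledByCommutative u ∧
      IsIso ((t ⊗ₘ u) ≫ μ[H])

variable {S : Scheme.{u}} {G H : Over S} [GrpObj G] [GrpObj H]

lemma solv_bc {S' : Scheme.{u}} (g : S' ⟶ S) (hsolv : ∀ s : S, Red.IsSolvableGrp (Red.geomFibre s H)) (s' : S') :
    Red.IsSolvableGrp (Red.geomFibre s' (Red.bc g H)) := by
  obtain ⟨s, θ, hθ⟩ := MaxTorBc505.exists_factor_geomPt (Red.geomPt s' ≫ g)
  exact GeomBC147.isSolvableGrp_of_iso (GeomFib147.sqIso hθ H)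
    (GeomBC147.isSolvableGrp_bc θ (hsolv s))

lemma gm_comm (X : Over S) (a b : X ⟶ Red.Gm S) : a * b = b * a := by
  apply (DSPts.dsEquiv _ ℤ).symm.injective
  rw [map_mul, map_mul, _root_.mul_comm]

/-- over a base where `T` is split -/
theorem local_main (h5531 : Semi.{u}) (hG : Red.IsReductive G) (i : H ⟶ G) (hH : RedSub.IsTypeR i)
    (hsolv : ∀ s : S, Red.IsSolvableGrp (Red.geomFibre s H)) {M : Type} [AddCommGroup M] (t : Red.DS S M ⟶ H)
    [IsMonHom t] (hT : Red.IsMaximalTorus (t ≫ i)) {A B : Over S} [GrpObj A] [GrpObj B]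
    (υ : H ⊗ A ⟶ Red.Gm S) (hA : AutFam.RepresentsHom H (Red.Gm S) A υ)
    (hAmul : ∀ (X : Over S) (h : X ⟶ H) (a b : X ⟶ A), lift h (a * b) ≫ υ = (lift h a ≫ υ) * (lift h b ≫ υ))
    (υ' : A ⊗ B ⟶ Red.Gm S) (hB : AutFam.RepresentsHom A (Red.Gm S) B υ')
    (f : H ⟶ B) (hf : (A ◁ f) ≫ υ' = lift (snd A H) (fst A H) ≫ υ) :
    Smooth f.left ∧ Surjective f.left := by
  obtain ⟨U, _, u, hu, hk, hi⟩ := h5531 hG i hH hsolv t hT
  have hum := hu.1
  have hus : Smooth U.hom := hu.2.2.2.1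
  have D : BidPts.Data υ υ' f t (SemiProj.proj t u) :=
    { hA := hA
      hAmul := hAmul
      hB := hB
      hf := hf
      ht := inferInstance
      hp := SemiProj.isMonHom_proj t u hu.2.2.1
      htp := SemiProj.t_proj t u
      hK := by
        intro X φ ψ hφ hψ h
        refine BidK.family_ext t gm_comm ?_ φ ψ hφ hψ h
        obtain ⟨U', _, u', hu', hk', hi'⟩ := h5531 (S := X.left) (G := Red.bc X.hom G) (H := Red.bc X.hom H)
          (T := Red.bc X.hom (Red.DS S M)) (RedBcAny636.isReductive_bc X.hom hG) ((Over.pullback X.hom).map i)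
          (Groth.Agent.RedSub.H648.TypeR.isTypeR_bc X.hom hG hH) (solv_bc X.hom hsolv)
          ((Over.pullback X.hom).map t) (by
            rw [← Functor.map_comp]
            exact MaxTorBc505.isMaximalTorus_bc X.hom hG hT)
        exact ⟨U', _, u', hk', hi'⟩ }
  have h1 := D.isIso
  have h2 := D.fac
  have h3 := SemiProj.smooth_surjective t u
  have h4 : IsIso (t ≫ f).left := inferInstanceAs (IsIso ((Over.forget S).map (t ≫ f)))
  rw [← h2, Over.comp_left]
  obtain ⟨h5, h6⟩ := h3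
  exact ⟨inferInstance, inferInstance⟩

lemma of_iso_torus {T T' : Over S} [GrpObj T] [GrpObj T'] (e : Grp.mk T ≅ Grp.mk T') (i : T ⟶ G)
    (h : Red.IsMaximalTorus i) : Red.IsMaximalTorus (e.inv.hom.hom ≫ i) :=
  IsomHa505.isMaximalTorus_of_iso_comp e.symm h

theorem main (h5531 : Semi.{u}) (hG : Red.IsReductive G) (i : H ⟶ G) (hH : RedSub.IsTypeR i)
    (hsolv : ∀ s : S, Red.IsSolvableGrp (Red.geomFibre s H)) {A B : Over S} [GrpObj A] [GrpObj B]
    (υ : H ⊗ A ⟶ Red.Gm S) (hA : AutFam.RepresentsHom H (Red.Gm S) A υ)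
    (hAmul : ∀ (X : Over S) (h : X ⟶ H) (a b : X ⟶ A), lift h (a * b) ≫ υ = (lift h a ≫ υ) * (lift h b ≫ υ))
    (υ' : A ⊗ B ⟶ Red.Gm S) (hB : AutFam.RepresentsHom A (Red.Gm S) B υ')
    (f : H ⟶ B) (hf : (A ◁ f) ≫ υ' = lift (snd A H) (fst A H) ≫ υ) :
    Smooth f.left ∧ Surjective f.left := by
  have key : ∀ s : S, ∃ (T : Scheme.{u}) (g : T ⟶ S), Flat g ∧ LocallyOfFinitePresentation g ∧
      s ∈ Set.range g ∧ Smooth ((Over.pullback g).map f).left ∧ Surjective ((Over.pullback g).map f).left := by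
    intro s
    obtain ⟨V, v, hv, hs, D, t₀, ht₀⟩ :=
      Groth.Agent.RedSub.H643.TypeRTorus.exists_splitRed_into hG i hH s
    refine ⟨V, v, inferInstance, inferInstance, hs, ?_⟩
    have hGv := RedBcAny636.isReductive_bc v hG
    have hHv := Groth.Agent.RedSub.H648.TypeR.isTypeR_bc v hG hH
    have m0 : IsImmersion ((Over.pullback v).map i).left := hHv.1.2
    have m1 : Mono ((Over.pullback v).map i) := K198.Rad.mono_of_isImmersion _
    have m2 : IsMonHom ((Over.pullback v).map i) := hHv.1.1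
    have m3 : IsMonHom D.i := D.maximalTorus.1
    let e := D.split
    have m4 : IsMonHom (e.inv.hom.hom) := e.inv.hom.isMonHom_hom
    have m5 : IsMonHom t₀ := by
      have : IsMonHom (t₀ ≫ (Over.pullback v).map i) := by rw [ht₀]; exact m3
      exact Groth.Agent.Sga3B.MaxTorusCrit.isMonHom_of_comp_mono t₀ ((Over.pullback v).map i)
    exact local_main h5531 hGv ((Over.pullback v).map i) hHv (solv_bc v hsolv) (e.inv.hom.hom ≫ t₀)
      (by rw [Category.assoc, ht₀]; exact of_iso_torus e D.i D.maximalTorus)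
      (BidBc.chV v υ) (BidBc.rep_chV v hA) (BidBc.chV_mul v hAmul) (BidBc.chV v υ') (BidBc.rep_chV v hB)
      ((Over.pullback v).map f) (BidBc.chV_f v hf)
  refine ⟨K197.LocP.of_locally @Smooth f fun s => ?_, K197.LocP.of_locally @Surjective f fun s => ?_⟩
  · obtain ⟨T, g, h1, h2, h3, h4, h5⟩ := key s
    exact ⟨T, g, h1, h2, h3, h4⟩
  · obtain ⟨T, g, h1, h2, h3, h4, h5⟩ := key s
    exact ⟨T, g, h1, h2, h3, h5⟩

end K198.BidAsm
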