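import Groth.Agent.SGA3x.K6.HomDS
import Groth.Prelude.Def_RedSub

/-!
# Biduality for `H = D(M) ⋉ U`: the point-level computation

`H` an `S`-group with a homomorphism `t : D_S(M) ⟶ H` and a retraction `p`, such that characters of `H` (in families)
are determined by their restriction along `t`.  If `A` represents the characters of `H` and `B` those of `A`, the
biduality morphism `f : H ⟶ B` satisfies `f = p ≫ t ≫ f` and `t ≫ f` is an isomorphism.
-/

set_option autoImplicit false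
set_option linter.unusedSectionVars false
universe u

open CategoryTheory MonoidalCategory CartesianMonoidalCategory MonObj GrpObj AlgebraicGeometry Limits
open Groth.Agent.Sga3B Groth.Agent.Sga3B.DSPts

namespace K198.BidPts

variable {S : Scheme.{u}}

lemma hom_ext_opens {X Y : Over S} {f g : X ⟶ Y}
    (h : ∀ x : X.left, ∃ U : X.left.Opens, x ∈ U ∧ K6.ConstRep.inc X U ≫ f = K6.ConstRep.inc X U ≫ g) : f = g := by
  choose U hU h using h
  apply Over.OverMorphism.ext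
  have hc : TopologicalSpace.IsOpenCover U := by
    rw [TopologicalSpace.IsOpenCover, eq_top_iff]
    intro x _
    exact TopologicalSpace.Opens.mem_iSup.2 ⟨x, hU x⟩
  refine Scheme.Cover.hom_ext (X.left.openCoverOfIsOpenCover U hc) _ _ fun x => ?_
  exact congrArg (·.left) (h x)

variable {H A B : Over S} [GrpObj H] [GrpObj A] [GrpObj B] {M : Type} [AddCommGroup M]

/-- the set-up -/
structure Data (υ : H ⊗ A ⟶ Red.Gm S) (υ' : A ⊗ B ⟶ Red.Gm S) (f : H ⟶ B) (t : Red.DS S M ⟶ H)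
    (p : H ⟶ Red.DS S M) : Prop where
  hA : AutFam.RepresentsHom H (Red.Gm S) A υ
  hAmul : ∀ (X : Over S) (h : X ⟶ H) (a b : X ⟶ A), lift h (a * b) ≫ υ = (lift h a ≫ υ) * (lift h b ≫ υ)
  hB : AutFam.RepresentsHom A (Red.Gm S) B υ'
  hf : (A ◁ f) ≫ υ' = lift (snd A H) (fst A H) ≫ υ
  ht : IsMonHom t
  hp : IsMonHom p
  htp : t ≫ p = 𝟙 _
  hK : ∀ (X : Over S) (φ ψ : H ⊗ X ⟶ Red.Gm S), AutFam.IsHomFamily H (Red.Gm S) φ →
    AutFam.IsHomFamily H (Red.Gm S) ψ → (t ▷ X) ≫ φ = (t ▷ X) ≫ ψ → φ = ψ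

namespace Data

variable {υ : H ⊗ A ⟶ Red.Gm S} {υ' : A ⊗ B ⟶ Red.Gm S} {f : H ⟶ B} {t : Red.DS S M ⟶ H}
    {p : H ⟶ Red.DS S M}

lemma whisker_eq {X Y : Over S} (a : X ⟶ Y) (Z : Over S) : Z ◁ a = lift (fst Z X) (snd Z X ≫ a) := by
  apply CartesianMonoidalCategory.hom_ext <;> simp

lemma whisker_eq' {X Y : Over S} (a : X ⟶ Y) (Z : Over S) : a ▷ Z = lift (fst X Z ≫ a) (snd X Z) := by
  apply CartesianMonoidalCategory.hom_ext <;> simp

/-- two points of `A` with the same character -/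
lemma ext_A (D : Data υ υ' f t p) {X : Over S} {a b : X ⟶ A}
    (h : ∀ (X' : Over S) (x : X' ⟶ X) (g : X' ⟶ H), lift g (x ≫ a) ≫ υ = lift g (x ≫ b) ≫ υ) : a = b := by
  refine (D.hA.2 X ((H ◁ b) ≫ υ) ?_).unique ?_ rfl
  · intro X' g₁ g₂ x
    have h1 := D.hA.1 X' g₁ g₂ (x ≫ b)
    simpa [whisker_eq, comp_lift_assoc] using h1
  · rw [whisker_eq, whisker_eq]
    exact h _ _ _

lemma ext_B (D : Data υ υ' f t p) {X : Over S} {a b : X ⟶ B}
    (h : ∀ (X' : Over S) (x : X' ⟶ X) (g : X' ⟶ A), lift g (x ≫ a) ≫ υ' = lift g (x ≫ b) ≫ υ') : a = b := by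
  refine (D.hB.2 X ((A ◁ b) ≫ υ') ?_).unique ?_ rfl
  · intro X' g₁ g₂ x
    have h1 := D.hB.1 X' g₁ g₂ (x ≫ b)
    simpa [whisker_eq, comp_lift_assoc] using h1
  · rw [whisker_eq, whisker_eq]
    exact h _ _ _

/-- points of `A` are determined by the restriction of the character to `D(M)` -/
lemma ext_A' (D : Data υ υ' f t p) {X : Over S} {a b : X ⟶ A}
    (h : ∀ (X' : Over S) (x : X' ⟶ X) (τ : X' ⟶ Red.DS S M),
      lift (τ ≫ t) (x ≫ a) ≫ υ = lift (τ ≫ t) (x ≫ b) ≫ υ) : a = b := by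
  have fam : ∀ c : X ⟶ A, AutFam.IsHomFamily H (Red.Gm S) ((H ◁ c) ≫ υ) := by
    intro c X' g₁ g₂ x
    have h1 := D.hA.1 X' g₁ g₂ (x ≫ c)
    simpa [whisker_eq, comp_lift_assoc] using h1
  have h1 := D.hK X ((H ◁ a) ≫ υ) ((H ◁ b) ≫ υ) (fam a) (fam b) (by
    have := h (Red.DS S M ⊗ X) (snd _ _) (fst _ _)
    simpa [whisker_eq, whisker_eq', comp_lift_assoc] using this)
  refine D.ext_A fun X' x g => ?_
  have h2 := congrArg (fun k => lift g x ≫ k) h1
  simpa [whisker_eq, comp_lift_assoc] using h2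

/-- the biduality morphism on points -/
lemma lift_f (D : Data υ υ' f t p) {X : Over S} (a : X ⟶ A) (h : X ⟶ H) :
    lift a (h ≫ f) ≫ υ' = lift h a ≫ υ := by
  have h1 := congrArg (fun k => lift a h ≫ k) D.hf
  simpa [whisker_eq, comp_lift_assoc] using h1

/-- the family of characters `H ⟶ D(M) ⟶ Gm` attached to `m` -/
noncomputable def fam (p : H ⟶ Red.DS S M) (m : M) : H ⊗ 𝟙_ (Over S) ⟶ Red.Gm S := fst _ _ ≫ p ≫ Red.chi S m

lemma isMonHom_chi (m : M) : IsMonHom (Red.chi S m) := K6.HomDS.isMonHom_DSmap S _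

lemma isHomFamily_fam (D : Data υ υ' f t p) (m : M) : AutFam.IsHomFamily H (Red.Gm S) (fam p m) := by
  intro X g₁ g₂ x
  have := D.hp
  have := isMonHom_chi (S := S) m
  unfold fam
  rw [lift_fst_assoc, lift_fst_assoc, lift_fst_assoc]
  exact MonObj.mul_comp g₁ g₂ (p ≫ Red.chi S m)

/-- the point of `A` attached to `m` -/
noncomputable def pt (D : Data υ υ' f t p) (m : M) : 𝟙_ (Over S) ⟶ A :=
  (D.hA.2 _ (fam p m) (D.isHomFamily_fam m)).choose

lemma lift_pt (D : Data υ υ' f t p) (m : M) {X : Over S} (h : X ⟶ H) :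
    lift h (toUnit X ≫ D.pt m) ≫ υ = h ≫ p ≫ Red.chi S m := by
  have h1 := (D.hA.2 _ (fam p m) (D.isHomFamily_fam m)).choose_spec.1
  have h2 := congrArg (fun k => lift h (toUnit X) ≫ k) h1
  simpa [whisker_eq, comp_lift_assoc, fam, pt] using h2

lemma gm_ext {X : Over S} {x y : X ⟶ Red.Gm S}
    (h : dsChar x (Multiplicative.ofAdd (1 : ℤ)) = dsChar y (Multiplicative.ofAdd (1 : ℤ))) : x = y := by
  apply (dsEquiv _ ℤ).symm.injective
  change dsChar _ = dsChar _
  refine MonoidHom.ext_mint ?_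
  exact h

lemma dsChar_chi {X : Over S} (x : X ⟶ Red.DS S M) (m : M) :
    dsChar (x ≫ Red.chi S m) (Multiplicative.ofAdd (1 : ℤ)) = dsChar x (Multiplicative.ofAdd m) := by
  unfold Red.chi
  rw [dsChar_DSmap, MonoidHom.comp_apply]
  congr 1
  change Multiplicative.ofAdd ((1 : ℤ) • m) = _
  rw [one_smul]

lemma ds_ext' {X : Over S} {x y : X ⟶ Red.DS S M} (h : ∀ m : M, x ≫ Red.chi S m = y ≫ Red.chi S m) : x = y := by
  apply (dsEquiv _ M).symm.injective
  change dsChar _ = dsChar _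
  refine MonoidHom.ext fun m => ?_
  have := congrArg (fun k => dsChar k (Multiplicative.ofAdd (1 : ℤ))) (h m.toAdd)
  simpa only [dsChar_chi, ofAdd_toAdd] using this

lemma pt_add (D : Data υ υ' f t p) (m n : M) : D.pt (m + n) = D.pt m * D.pt n := by
  refine D.ext_A fun X' x g => ?_
  have hx : x = toUnit X' := toUnit_unique _ _
  rw [hx, MonObj.comp_mul, D.hAmul, lift_pt, lift_pt, lift_pt]
  apply gm_ext
  rw [dsChar_mul, MonoidHom.mul_apply, ← Category.assoc, ← Category.assoc, ← Category.assoc, dsChar_chi, dsChar_chi,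
    dsChar_chi, ofAdd_add, map_mul]

lemma pt_zero (D : Data υ υ' f t p) : D.pt 0 = 1 := by
  have h := D.pt_add 0 0
  rw [add_zero] at h
  exact mul_eq_left.1 h.symm

lemma eq_one_of_sq {G X : Over S} [GrpObj G] (x : X ⟶ G) (h : x = x * x) : x = 1 := mul_eq_left.1 h.symm

/-- characters of `A` send `1` to `1` -/
lemma lift_one_comp (D : Data υ υ' f t p) {X : Over S} (b : X ⟶ B) : lift (1 : X ⟶ A) b ≫ υ' = 1 := by
  have h := D.hB.1 X 1 1 b
  rw [_root_.mul_one] at h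
  exact eq_one_of_sq _ h

/-- the values of a character of `A` on the points attached to `m ∈ M` -/
noncomputable def val (D : Data υ υ' f t p) {X : Over S} (b : X ⟶ B) : Multiplicative M →* Γ(X.left, ⊤) where
  toFun m := dsChar (lift (toUnit X ≫ D.pt m.toAdd) b ≫ υ') (Multiplicative.ofAdd (1 : ℤ))
  map_one' := by
    rw [toAdd_one, pt_zero, MonObj.comp_one, D.lift_one_comp b]
    have : dsChar (M := ℤ) (1 : X ⟶ Red.DS S ℤ) = 1 := (dsEquiv (S := S) X ℤ).symm.map_one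
    rw [this]
    rfl
  map_mul' m n := by
    rw [toAdd_mul, pt_add, MonObj.comp_mul, D.hB.1, dsChar_mul]
    rfl

/-- the point of `D(M)` attached to a point of `B` -/
noncomputable def tau (D : Data υ υ' f t p) {X : Over S} (b : X ⟶ B) : X ⟶ Red.DS S M := dsEquiv X M (D.val b)

lemma tau_chi (D : Data υ υ' f t p) {X : Over S} (b : X ⟶ B) (m : M) :
    D.tau b ≫ Red.chi S m = lift (toUnit X ≫ D.pt m) b ≫ υ' := by
  apply gm_ext
  rw [dsChar_chi, tau, dsChar_dsEquiv]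
  rfl

lemma lift_pt_t (D : Data υ υ' f t p) (m : M) {X : Over S} (τ : X ⟶ Red.DS S M) :
    lift (τ ≫ t) (toUnit X ≫ D.pt m) ≫ υ = τ ≫ Red.chi S m := by
  rw [lift_pt, Category.assoc, ← Category.assoc t, D.htp, Category.id_comp]

/-- locally, points of `A` are attached to elements of `M` -/
lemma exists_near (D : Data υ υ' f t p) {X : Over S} (a : X ⟶ A) (x : X.left) :
    ∃ U : X.left.Opens, x ∈ U ∧ ∃ m : M, K6.ConstRep.inc X U ≫ a = toUnit _ ≫ D.pt m := by
  have ht := D.ht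
  obtain ⟨U, hU, φ, hφ⟩ := K6.HomDS.exists_near_family (S := S) (M := M) (N := ℤ) X.hom
    (lift (fst _ _ ≫ t) (snd _ _ ≫ (a : Over.mk X.hom ⟶ A)) ≫ υ) (by
      intro X' g₁ g₂ x'
      simp only [comp_lift_assoc, lift_fst_assoc, lift_snd_assoc]
      rw [MonObj.mul_comp, D.hA.1]) x
  refine ⟨U, hU, φ 1, ?_⟩
  refine D.ext_A' fun X' x' τ => ?_
  have h1 := hφ X' τ (x' ≫ K6.ConstRep.inc X U) (by
    rintro _ ⟨z, rfl⟩
    change (x'.left ≫ U.ι) z ∈ U
    rw [Scheme.Hom.comp_apply]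
    exact (x'.left z).2)
  rw [comp_lift_assoc, lift_fst_assoc, lift_snd_assoc] at h1
  have h2 : x' ≫ toUnit (K6.ConstRep.opn X U) = toUnit X' := toUnit_unique _ _
  rw [← Category.assoc x', ← Category.assoc x', h2, lift_pt_t]
  refine h1.trans ?_
  congr 1
  unfold Red.chi
  congr 1
  ext
  simp

theorem tau_comp (D : Data υ υ' f t p) {X : Over S} (b : X ⟶ B) : D.tau b ≫ t ≫ f = b := by
  refine D.ext_B fun X' x a => ?_
  apply hom_ext_opens
  intro z
  obtain ⟨U, hU, m, hm⟩ := D.exists_near a z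
  refine ⟨U, hU, ?_⟩
  have e1 := D.lift_f (K6.ConstRep.inc X' U ≫ a) (K6.ConstRep.inc X' U ≫ x ≫ D.tau b ≫ t)
  have e2 := congrArg (fun k => (K6.ConstRep.inc X' U ≫ x) ≫ k) (D.tau_chi b m)
  have e3 := D.lift_pt_t m (K6.ConstRep.inc X' U ≫ x ≫ D.tau b)
  have e4 : (K6.ConstRep.inc X' U ≫ x) ≫ toUnit X = toUnit _ := toUnit_unique _ _
  simp only [comp_lift_assoc, Category.assoc] at e1 e2 e3 ⊢
  rw [hm] at e1 ⊢
  rw [e1, e3, e2]
  congr 1
  rw [← Category.assoc, ← Category.assoc, e4]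

theorem isIso (D : Data υ υ' f t p) : IsIso (t ≫ f) := by
  refine isIso_of_yoneda_map_bijective _ fun X => ⟨?_, fun b => ⟨D.tau b, D.tau_comp b⟩⟩
  intro τ τ' h
  dsimp only at h
  refine ds_ext' fun m => ?_
  rw [← D.lift_pt_t m τ, ← D.lift_pt_t m τ', ← D.lift_f, ← D.lift_f, Category.assoc, Category.assoc, h]

theorem fac (D : Data υ υ' f t p) : p ≫ t ≫ f = f := by
  have ht := D.ht
  have hp := D.hp
  have key : ∀ (X : Over S) (h : X ⟶ H) (a : X ⟶ A), lift (h ≫ p ≫ t) a ≫ υ = lift h a ≫ υ := by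
    intro X h a
    have h1 := D.hK X (lift (fst _ _ ≫ p ≫ t) (snd _ _ ≫ a) ≫ υ) (lift (fst _ _) (snd _ _ ≫ a) ≫ υ) (by
        intro X' g₁ g₂ x'
        simp only [comp_lift_assoc, lift_fst_assoc, lift_snd_assoc]
        rw [MonObj.mul_comp, D.hA.1]) (by
        intro X' g₁ g₂ x'
        simp only [comp_lift_assoc, lift_fst, lift_snd_assoc]
        rw [D.hA.1]) (by
        simp only [whisker_eq', comp_lift_assoc, lift_fst_assoc, lift_fst, lift_snd_assoc, Category.assoc]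
        rw [← Category.assoc t p, D.htp, Category.id_comp])
    have h2 := congrArg (fun k => lift h (𝟙 X) ≫ k) h1
    simpa only [comp_lift_assoc, lift_fst_assoc, lift_fst, lift_snd_assoc, Category.id_comp] using h2
  have h3 := D.ext_B (X := H) (a := p ≫ t ≫ f) (b := f) (by
    intro X' x g
    have e1 := D.lift_f g (x ≫ p ≫ t)
    have e2 := D.lift_f g x
    simp only [Category.assoc] at e1
    rw [e1, e2, key])
  exact h3

end Data

end K198.BidPts
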