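import Groth.Agent.RedSub.K198.KillRoot
import Groth.Agent.RedSub.H633.CellOpenImm
import Groth.Agent.Sga3B.PinModelOf
import Groth.Agent.Sga3B.BorSpan613

/-!
# The characters orthogonal to the coroots on the big cell

`G` split, `N` the characters orthogonal to all coroots: there is a homomorphism `G ⟶ D_S(N)` extending the
projection of `T = D_S(M)`, and a point of `G` in the big cell which is killed by it has its `T`-component in
`D_S(M / N)`.
-/

set_option autoImplicit false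
open CategoryTheory MonoidalCategory CartesianMonoidalCategory MonObj GrpObj AlgebraicGeometry
universe u

namespace K198.CellT

open Groth.Agent.Sga3B Groth.Agent.Sga3B.DSPts Groth.Agent.RedSub.H633.PowPts

variable {S : Scheme.{u}} {G : Over S} [GrpObj G]

/-- points of `D_S(M)` killed by `D_S(M) ⟶ D_S(N)` come from `D_S(M / N)` -/
lemma exists_quot {M : Type} [AddCommGroup M] (N : AddSubgroup M) {X : Over S} (τ : X ⟶ Red.DS S M)
    (h : τ ≫ Red.DSmap S N.subtype = 1) : ∃ τ' : X ⟶ Red.DS S (M ⧸ N), τ' ≫ Red.DSmap S (QuotientAddGroup.mk' N) = τ := by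
  have h1 : ∀ n ∈ N, dsChar τ (Multiplicative.ofAdd n) = 1 := by
    intro n hn
    have h2 := congrArg dsChar h
    rw [dsChar_DSmap, BorSpan613.dsChar_one] at h2
    exact DFunLike.congr_fun h2 (Multiplicative.ofAdd ⟨n, hn⟩)
  let f : M →+ Additive Γ(X.left, ⊤)ˣ := MonoidHom.toAdditiveRight (dsChar τ).toHomUnits
  have hf : N ≤ f.ker := by
    intro n hn
    rw [AddMonoidHom.mem_ker]
    apply Additive.toMul.injective
    apply Units.ext
    exact h1 n hn
  let g : M ⧸ N →+ Additive Γ(X.left, ⊤)ˣ := QuotientAddGroup.lift N f hf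
  let χ : Multiplicative (M ⧸ N) →* Γ(X.left, ⊤) := (Units.coeHom _).comp (AddMonoidHom.toMultiplicativeLeft g)
  refine ⟨dsEquiv X (M ⧸ N) χ, ?_⟩
  apply (dsEquiv X M).symm.injective
  change dsChar _ = dsChar τ
  rw [dsChar_DSmap, dsChar_dsEquiv]
  ext m
  rfl

lemma DSmap_comp_subtype {M : Type} [AddCommGroup M] (N : AddSubgroup M) :
    Red.DSmap S (QuotientAddGroup.mk' N) ≫ Red.DSmap S N.subtype = 1 := by
  rw [BorSpan613.DSmap_comp_DSmap]
  apply (dsEquiv _ N).symm.injective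
  change dsChar _ = dsChar _
  have h : Red.DSmap S ((QuotientAddGroup.mk' N).comp N.subtype) = 𝟙 _ ≫ Red.DSmap S ((QuotientAddGroup.mk' N).comp N.subtype) :=
    (Category.id_comp _).symm
  rw [h, dsChar_DSmap, BorSpan613.dsChar_one]
  ext n
  have h2 : (QuotientAddGroup.mk' N).comp N.subtype = 0 := by
    ext n
    exact (QuotientAddGroup.eq_zero_iff _).2 n.2
  rw [h2]
  exact (dsChar (𝟙 (Red.DS S (M ⧸ N)))).map_one

variable (D : Red.SplitRed G) (N : AddSubgroup D.M)

/-- **The homomorphism `G ⟶ D_S(N)`.** -/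
theorem exists_q (b : D.P.Base) (hN : ∀ x ∈ N, ∀ c : D.idx, D.P.coroot c x = 0) :
    ∃ q : G ⟶ Red.DS S N, IsMonHom q ∧ (D.split.inv.hom.hom ≫ D.i) ≫ q = Red.DSmap S N.subtype := by
  let D' : Red.Pinning G := { D with base := b }
  exact Groth.Agent.RedSub.H654.SchemeChar.exists_char_of_models
    (fun R _ s => PinModelOf.nonempty_pinModel D' R s) N.subtype (fun a _ n => hN n.1 n.2 a)

variable {n m : ℕ} (eneg : Fin n → D.idx) (epos : Fin m → D.idx)

/-- the homomorphism `q` on the big cell -/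
lemma q_cell (q : G ⟶ Red.DS S N) [IsMonHom q] {X : Over S} (y : Fin n → (X ⟶ Red.Ga S)) (t : X ⟶ G)
    (x : Fin m → (X ⟶ Red.Ga S)) :
    ((List.ofFn fun k => y k ≫ D.u (eneg k)).prod * (t * (List.ofFn fun k => x k ≫ D.u (epos k)).prod)) ≫ q = t ≫ q := by
  have key : ∀ {n : ℕ} (e : Fin n → D.idx) (y : Fin n → (X ⟶ Red.Ga S)),
      (List.ofFn fun k => y k ≫ D.u (e k)).prod ≫ q = 1 := by
    intro n e y
    have h := map_list_prod (MonoidHom.mk' (fun g : X ⟶ G => g ≫ q) fun g h => MonObj.mul_comp g h q)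
      (List.ofFn fun k => y k ≫ D.u (e k))
    refine h.trans (List.prod_eq_one ?_)
    intro z hz
    obtain ⟨g, hg, rfl⟩ := List.mem_map.1 hz
    obtain ⟨k, rfl⟩ := (List.mem_ofFn' _ _).1 hg
    change (y k ≫ D.u (e k)) ≫ q = 1
    rw [Category.assoc, KillRoot.u_comp D q (Groth.Agent.RedSub.H654.SchemeChar.ds_comm S N), MonObj.comp_one]
  rw [MonObj.mul_comp _ _ q, MonObj.mul_comp _ _ q, key, key]
  have e1 : ∀ z : X ⟶ Red.DS S N, 1 * (z * 1) = z := fun z => (_root_.one_mul (z * 1)).trans (_root_.mul_one z)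
  exact e1 _

/-- the twisted cell `U⁻ · D_S(M / N) · U` -/
noncomputable def cellT : RedSub.pow (Red.Ga S) n ⊗ (Red.DS S (D.M ⧸ N) ⊗ RedSub.pow (Red.Ga S) m) ⟶ G :=
  ((fst _ _ ≫ RedSub.prodMap (Red.Ga S) n (fun k => D.u (eneg k))) *
    ((snd _ _ ≫ fst _ _ ≫ Red.DSmap S (QuotientAddGroup.mk' N) ≫ D.split.inv.hom.hom ≫ D.i) *
      (snd _ _ ≫ snd _ _ ≫ RedSub.prodMap (Red.Ga S) m (fun k => D.u (epos k)))))

lemma lift_cellT {X : Over S} (y : Fin n → (X ⟶ Red.Ga S)) (t : X ⟶ Red.DS S (D.M ⧸ N)) (x : Fin m → (X ⟶ Red.Ga S)) :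
    lift (mkPt y) (lift t (mkPt x)) ≫ cellT D N eneg epos =
      (List.ofFn fun k => y k ≫ D.u (eneg k)).prod *
        ((t ≫ Red.DSmap S (QuotientAddGroup.mk' N) ≫ D.split.inv.hom.hom ≫ D.i) *
          (List.ofFn fun k => x k ≫ D.u (epos k)).prod) := by
  rw [cellT, MonObj.comp_mul, MonObj.comp_mul, lift_fst_assoc, lift_snd_assoc, lift_fst_assoc, lift_snd_assoc,
    lift_snd_assoc, mkPt_comp_prodMap, mkPt_comp_prodMap]

lemma cellT_q (q : G ⟶ Red.DS S N) [IsMonHom q] (hq : (D.split.inv.hom.hom ≫ D.i) ≫ q = Red.DSmap S N.subtype) :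
    cellT D N eneg epos ≫ q = 1 := by
  rw [← Category.id_comp (cellT D N eneg epos), eq_lift (𝟙 _), lift_cellT, q_cell]
  simp only [Category.assoc] at hq ⊢
  rw [hq, DSmap_comp_subtype, MonObj.comp_one, MonObj.comp_one, MonObj.comp_one]

variable {D N eneg epos}

/-- **A point of `G` in the big cell killed by `q` lies in `U⁻ · D_S(M / N) · U`.** -/
theorem exists_lift (hcell : IsOpenImmersion (RedSub.cellMap D eneg epos).left)
    (q : G ⟶ Red.DS S N) [IsMonHom q] (hq : (D.split.inv.hom.hom ≫ D.i) ≫ q = Red.DSmap S N.subtype)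
    {X : Over S} (g : X ⟶ G) (hg : Set.range g.left.base ⊆ Set.range (RedSub.cellMap D eneg epos).left.base)
    (hgq : g ≫ q = 1) :
    ∃ g' : X ⟶ RedSub.pow (Red.Ga S) n ⊗ (Red.DS S (D.M ⧸ N) ⊗ RedSub.pow (Red.Ga S) m),
      g = g' ≫ cellT D N eneg epos := by
  have hg2 : (IsOpenImmersion.lift (RedSub.cellMap D eneg epos).left g.left hg) ≫ (RedSub.cellMap D eneg epos).left =
    g.left := IsOpenImmersion.lift_fac _ _ _
  let z : X ⟶ RedSub.pow (Red.Ga S) n ⊗ (D.T ⊗ RedSub.pow (Red.Ga S) m) :=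
    Over.homMk (IsOpenImmersion.lift (RedSub.cellMap D eneg epos).left g.left hg) (by
      rw [← Over.w g, ← Over.w (RedSub.cellMap D eneg epos), ← Category.assoc, hg2])
  have hz : z ≫ RedSub.cellMap D eneg epos = g := Over.OverMorphism.ext hg2
  rw [eq_lift z, lift_cellMap] at hz
  generalize coord (z ≫ fst _ _) = y at hz
  generalize coord (z ≫ snd _ _ ≫ snd _ _) = x at hz
  generalize (z ≫ snd _ _ ≫ fst _ _ : X ⟶ D.T) = t at hz
  have ht : (t ≫ D.split.hom.hom.hom) ≫ Red.DSmap S N.subtype = 1 := by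
    rw [← hq, ← hgq, ← hz, q_cell]
    simp only [Category.assoc]
    have h1 : D.split.hom.hom.hom ≫ D.split.inv.hom.hom = 𝟙 _ := congrArg (fun f => f.hom.hom) D.split.hom_inv_id
    rw [← Category.assoc D.split.hom.hom.hom, h1, Category.id_comp]
  obtain ⟨τ, hτ⟩ := exists_quot N _ ht
  refine ⟨lift (mkPt y) (lift τ (mkPt x)), ?_⟩
  rw [lift_cellT, ← hz]
  congr 2
  rw [← Category.assoc τ, hτ, Category.assoc]
  have h1 : D.split.hom.hom.hom ≫ D.split.inv.hom.hom = 𝟙 _ := congrArg (fun f => f.hom.hom) D.split.hom_inv_id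
  rw [← Category.assoc D.split.hom.hom.hom, h1, Category.id_comp]

/-- the unit section lies in the big cell -/
lemma range_one_subset : Set.range η[G].left.base ⊆ Set.range (RedSub.cellMap D eneg epos).left.base := by
  haveI := D.maximalTorus.1
  have h : lift (mkPt (fun _ => 1)) (lift (1 : 𝟙_ (Over S) ⟶ D.T) (mkPt (fun _ => 1))) ≫ RedSub.cellMap D eneg epos = η[G] := by
    have key : ∀ {n : ℕ} (e : Fin n → D.idx),
        (List.ofFn fun k => (1 : 𝟙_ (Over S) ⟶ Red.Ga S) ≫ D.u (e k)).prod = 1 := by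
      intro n e
      apply List.prod_eq_one
      intro x hx
      obtain ⟨k, rfl⟩ := (List.mem_ofFn' _ _).1 hx
      haveI := (D.rootHom (e k)).1
      exact MonObj.one_comp _
    rw [lift_cellMap, key, key, MonObj.one_comp, _root_.one_mul, _root_.one_mul, Hom.one_def, toUnit_unit, Category.id_comp]
  rw [← h]
  rintro _ ⟨x, rfl⟩
  exact ⟨(lift (mkPt (fun _ => 1)) (lift (1 : 𝟙_ (Over S) ⟶ D.T) (mkPt (fun _ => 1)))).left.base x, rfl⟩

end K198.CellT
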