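import Groth.Agent.Sga3B.CentSmooth
import Groth.Agent.Sga3B.TorClosed636
import Groth.Agent.Sga3B.SplitBc264
import Groth.Agent.Sga3B.TorusBc
import Groth.Agent.Agf.H600.CentRedK

/-!
# The centralizer of a torus in a reductive group is reductive
-/

set_option autoImplicit false
open CategoryTheory MonoidalCategory CartesianMonoidalCategory MonObj GrpObj AlgebraicGeometry
universe u

namespace K198.CentRed

variable {S : Scheme.{u}} {G Q Z : Over S} [GrpObj G] [GrpObj Q] [GrpObj Z]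

/-- two centralizers of the same subgroup -/
lemma exists_iso {Z' : Over S} [GrpObj Z'] {q : Q ⟶ G} {z : Z ⟶ G} {z' : Z' ⟶ G} (h : Red.IsCentralizerOf q z)
    (h' : Red.IsCentralizerOf q z') : ∃ e : Z ≅ Z', e.hom ≫ z' = z := by
  obtain ⟨a, ha⟩ := (h'.2.2 Z z).2 ((h.2.2 Z z).1 ⟨𝟙 _, Category.id_comp _⟩)
  obtain ⟨b, hb⟩ := (h.2.2 Z' z').2 ((h'.2.2 Z' z').1 ⟨𝟙 _, Category.id_comp _⟩)
  haveI := h.2.1
  haveI := h'.2.1
  refine ⟨⟨a, b, ?_, ?_⟩, ha⟩
  · rw [← cancel_mono z, Category.assoc, hb, ha, Category.id_comp]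
  · rw [← cancel_mono z', Category.assoc, ha, hb, Category.id_comp]

/-- **The centralizer of a torus in a reductive group is closed and reductive.** -/
theorem isReductive (hG : Red.IsReductive G) (q : Q ⟶ G) [IsMonHom q] [Mono q] (hQ : Red.IsTorus Q)
    (z : Z ⟶ G) (hZ : Red.IsCentralizerOf q z) : IsClosedImmersion z.left ∧ Red.IsReductive Z := by
  haveI := hG.1
  haveI := hG.2.1
  haveI := Groth.Agent.Sga3B.TorClosed636.isClosedImmersion_of_isTorus q hQ
  obtain ⟨Z₁, _, z₁, hZ₁, hc, hs, hfp⟩ := Groth.Agent.Sga3B.CentSmooth.exists_smooth_centralizer q hQ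
  obtain ⟨e, he⟩ := exists_iso hZ hZ₁
  have h1 : IsClosedImmersion z.left := by
    rw [← he, Over.comp_left]
    infer_instance
  have h2 : Smooth Z.hom := by
    rw [← Over.w e.hom]
    infer_instance
  refine ⟨h1, ?_, h2, fun s => ?_⟩
  · rw [← Over.w z]
    infer_instance
  · exact Groth.Agent.Agf.H600.CentRedK.isReductiveOver_of_isCentralizerOf ((Over.pullback (Red.geomPt s)).map q)
      (hG.2.2 s) (Groth.Agent.Sga3B.TorusBc.isTorus_bc _ hQ) ((Over.pullback (Red.geomPt s)).map z)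
      (Groth.Agent.Sga3B.SplitBc264.isCentralizerOf_bc _ hZ)

end K198.CentRed
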