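import Mathlib.Algebra.Group.Subgroup.Basic
import Mathlib.Data.List.FinRange
import Mathlib.Data.List.OfFn
import Mathlib.Algebra.BigOperators.Group.List.Basic
import Mathlib.Tactic.Group
import Mathlib.Tactic.Abel
import Mathlib.Tactic.Linarith

/-!
# Collection in groups generated by one-parameter subgroups with triangular commutation relations

`u k : A → Γ` additive homomorphisms, `k : Fin N`, such that for `i < j` the conjugate of `u j y` by `u i x` is `u j y`
times a product of later factors. Then products `∏_{l ≥ k} u l (z l)` (`tail u k z`) form subgroups normalised by the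
earlier factors; the coordinates are tracked modulo a filtration `L` of `A`.
-/

set_option autoImplicit false

namespace K198.Coll

variable {Γ Δ A : Type*} [Group Γ] [Group Δ] [AddCommGroup A] {N : ℕ}

/-- the product `∏_{l ≥ k} u l (z l)` -/
def tail (u : Fin N → A → Γ) (k : ℕ) (z : Fin N → A) : Γ :=
  (((List.finRange N).drop k).map fun l => u l (z l)).prod

section basic

omit [AddCommGroup A]

variable (u : Fin N → A → Γ)

lemma tail_zero (z : Fin N → A) : tail u 0 z = (List.ofFn fun l => u l (z l)).prod := by
  rw [tail, List.drop_zero, List.ofFn_eq_map]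

lemma tail_last {k : ℕ} (h : N ≤ k) (z : Fin N → A) : tail u k z = 1 := by
  rw [tail, List.drop_eq_nil_of_le (by simpa using h), List.map_nil, List.prod_nil]

lemma tail_eq {k : ℕ} (hk : k < N) (z : Fin N → A) :
    tail u k z = u ⟨k, hk⟩ (z ⟨k, hk⟩) * tail u (k + 1) z := by
  rw [tail, List.drop_eq_getElem_cons (by simpa using hk), List.map_cons, List.prod_cons, List.getElem_finRange]
  rfl

lemma tail_congr {k : ℕ} {z w : Fin N → A} (h : ∀ l : Fin N, k ≤ l → z l = w l) : tail u k z = tail u k w := by
  have : ∀ (m k : ℕ), N - k = m → (∀ l : Fin N, k ≤ l → z l = w l) → tail u k z = tail u k w := by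
    intro m
    induction m with
    | zero =>
      intro k hk _
      rw [tail_last u (by omega), tail_last u (by omega)]
    | succ m ih =>
      intro k hk h
      have hk' : k < N := by omega
      rw [tail_eq u hk', tail_eq u hk', h ⟨k, hk'⟩ le_rfl, ih (k + 1) (by omega) fun l hl => h l (by omega)]
  exact this _ k rfl h

end basic

section add

variable {u : Fin N → A → Γ} (hadd : ∀ k x y, u k (x + y) = u k x * u k y)

include hadd

lemma u_zero (k : Fin N) : u k 0 = 1 := by
  have h := hadd k 0 0
  rw [add_zero] at h
  exact (mul_eq_left.mp h.symm)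

lemma u_neg (k : Fin N) (x : A) : u k (-x) = (u k x)⁻¹ := by
  rw [eq_inv_iff_mul_eq_one, ← hadd, neg_add_cancel, u_zero hadd]

lemma tail_of_zero {k : ℕ} {z : Fin N → A} (h : ∀ l : Fin N, k ≤ l → z l = 0) : tail u k z = 1 := by
  rw [tail]
  apply List.prod_eq_one
  intro x hx
  obtain ⟨l, hl, rfl⟩ := List.mem_map.mp hx
  rw [h l ?_, u_zero hadd]
  obtain ⟨i, hi, rfl⟩ := List.getElem_of_mem hl
  rw [List.getElem_drop, List.getElem_finRange]
  simp

/-- the product starts at the first nonzero coordinate -/
lemma tail_eq_of_zero {k m : ℕ} (hkm : k ≤ m) {z : Fin N → A} (h : ∀ l : Fin N, k ≤ l → l < m → z l = 0) :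
    tail u k z = tail u m z := by
  obtain ⟨d, rfl⟩ := Nat.exists_eq_add_of_le hkm
  induction d with
  | zero => rfl
  | succ d ih =>
    rw [ih (by omega) fun l h1 h2 => h l h1 (by omega)]
    rcases lt_or_ge (k + d) N with h1 | h1
    · rw [tail_eq u h1, h ⟨k + d, h1⟩ (by simp) (by simp), u_zero hadd, one_mul]
      rfl
    · rw [tail_last u h1, tail_last u (by omega)]

lemma tail_single {k : ℕ} (j : Fin N) (hkj : k ≤ j) (a : A) : tail u k (Pi.single j a) = u j a := by
  classical
  rw [tail_eq_of_zero hadd hkj fun l _ h => Pi.single_eq_of_ne (by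
    intro hh
    rw [hh] at h
    exact absurd h (lt_irrefl _)) _, tail_eq u j.2, Pi.single_eq_same, tail_of_zero hadd, mul_one]
  intro l hl
  refine Pi.single_eq_of_ne ?_ _
  intro hh
  rw [hh] at hl
  omega

end add

section coll

variable {u : Fin N → A → Γ} (hadd : ∀ k x y, u k (x + y) = u k x * u k y)
  {L : ℕ → AddSubgroup A} (hL : Monotone L)
  (hcomm : ∀ i j : Fin N, i < j → ∀ x ∈ L (i + 1), ∀ y ∈ L (j + 1), ∃ c : Fin N → A,
    (∀ l : Fin N, j < l → c l ∈ L l) ∧ u i x * u j y * (u i x)⁻¹ = u j y * tail u (j + 1) c)

/-- the coordinates from `k` on lie in the filtration -/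
def Good (L : ℕ → AddSubgroup A) (k : ℕ) (z : Fin N → A) : Prop := ∀ l : Fin N, k ≤ l → z l ∈ L (l + 1)

include hadd hL hcomm

/-- The main induction. -/
theorem main (m k : ℕ) (hm : N - k = m) :
    (∀ z w, Good L k z → Good L k w → ∃ v, Good L k v ∧ tail u k z * tail u k w = tail u k v ∧
      ∀ l : Fin N, k ≤ l → v l - (z l + w l) ∈ L l ∧ ((l : ℕ) = k → v l = z l + w l)) ∧
    (∀ j : Fin N, j < k → ∀ a ∈ L (j + 1), ∀ w, Good L k w → ∃ v, Good L k v ∧
      u j a * tail u k w * (u j a)⁻¹ = tail u k v ∧ ∀ l : Fin N, k ≤ l → v l - w l ∈ L l ∧ ((l : ℕ) = k → v l = w l)) := by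
  classical
  induction m generalizing k with
  | zero =>
    have hk : N ≤ k := by omega
    refine ⟨fun z w _ _ => ⟨z, fun l hl => absurd l.2 (by omega), ?_, fun l hl => absurd l.2 (by omega)⟩,
      fun j _ a _ w _ => ⟨w, fun l hl => absurd l.2 (by omega), ?_, fun l hl => absurd l.2 (by omega)⟩⟩
    · rw [tail_last u hk, tail_last u hk, one_mul]
    · rw [tail_last u hk, mul_one, mul_inv_cancel]
  | succ m ih =>
    have hk : k < N := by omega
    obtain ⟨hM, hC⟩ := ih (k + 1) (by omega)
    let κ : Fin N := ⟨k, hk⟩
    have good' : ∀ {z : Fin N → A}, Good L k z → Good L (k + 1) z := fun h l hl => h l (by omega)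
    refine ⟨fun z w hz hw => ?_, fun j hj a ha w hw => ?_⟩
    · obtain ⟨v₁, hv₁, h1, h1'⟩ := hC κ (by simp [κ]) (-(w κ)) (neg_mem (hw κ le_rfl)) z (good' hz)
      obtain ⟨v₂, hv₂, h2, h2'⟩ := hM v₁ w hv₁ (good' hw)
      refine ⟨Function.update v₂ κ (z κ + w κ), ?_, ?_, ?_⟩
      · intro l hl
        by_cases hlk : l = κ
        · subst hlk
          rw [Function.update_self]
          exact add_mem (hz κ le_rfl) (hw κ le_rfl)
        · rw [Function.update_of_ne hlk]
          exact hv₂ l (by
            have : (l : ℕ) ≠ k := fun h => hlk (Fin.ext h)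
            omega)
      · have e1 : tail u (k + 1) (Function.update v₂ κ (z κ + w κ)) = tail u (k + 1) v₂ :=
          tail_congr u fun l hl => Function.update_of_ne (by
            intro h
            rw [h] at hl
            simp [κ] at hl) _ _
        rw [tail_eq u hk z, tail_eq u hk w, tail_eq u hk (Function.update v₂ κ (z κ + w κ)), e1, ← h2, ← h1]
        change u κ (z κ) * _ * (u κ (w κ) * _) = u κ (Function.update v₂ κ (z κ + w κ) κ) * _
        rw [Function.update_self, hadd, u_neg hadd]
        group
      · intro l hl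
        by_cases hlk : l = κ
        · subst hlk
          rw [Function.update_self]
          exact ⟨by rw [sub_self]; exact zero_mem _, fun _ => rfl⟩
        · have hlk' : (l : ℕ) ≠ k := fun h => hlk (Fin.ext h)
          rw [Function.update_of_ne hlk]
          refine ⟨?_, fun h => absurd h hlk'⟩
          have a1 := (h1' l (by omega)).1
          have a2 := (h2' l (by omega)).1
          have : v₂ l - (z l + w l) = (v₂ l - (v₁ l + w l)) + (v₁ l - z l) := by abel
          rw [this]
          exact add_mem a2 a1
    · obtain ⟨c, hc, h1⟩ := hcomm j κ hj a ha (w κ) (hw κ le_rfl)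
      obtain ⟨v₁, hv₁, h2, h2'⟩ := hC j (by omega) a ha w (good' hw)
      have hc' : Good L (k + 1) c := fun l hl => hL (by omega) (hc l (by
        change k < (l : ℕ)
        omega))
      obtain ⟨v₂, hv₂, h3, h3'⟩ := hM c v₁ hc' hv₁
      refine ⟨Function.update v₂ κ (w κ), ?_, ?_, ?_⟩
      · intro l hl
        by_cases hlk : l = κ
        · subst hlk
          rw [Function.update_self]
          exact hw κ le_rfl
        · rw [Function.update_of_ne hlk]
          exact hv₂ l (by
            have : (l : ℕ) ≠ k := fun h => hlk (Fin.ext h)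
            omega)
      · have e1 : tail u (k + 1) (Function.update v₂ κ (w κ)) = tail u (k + 1) v₂ :=
          tail_congr u fun l hl => Function.update_of_ne (by
            intro h
            rw [h] at hl
            simp [κ] at hl) _ _
        rw [tail_eq u hk w, tail_eq u hk (Function.update v₂ κ (w κ)), e1, ← h3, ← h2]
        change u j a * (u κ (w κ) * _) * _ = u κ (Function.update v₂ κ (w κ) κ) * _
        rw [Function.update_self]
        have h4 : tail u (k + 1) c = (u κ (w κ))⁻¹ * (u j a * u κ (w κ) * (u j a)⁻¹) := by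
          rw [h1, inv_mul_cancel_left]
        rw [h4]
        group
      · intro l hl
        by_cases hlk : l = κ
        · subst hlk
          rw [Function.update_self]
          exact ⟨by rw [sub_self]; exact zero_mem _, fun _ => rfl⟩
        · have hlk' : (l : ℕ) ≠ k := fun h => hlk (Fin.ext h)
          rw [Function.update_of_ne hlk]
          refine ⟨?_, fun h => absurd h hlk'⟩
          have a1 := (h2' l (by omega)).1
          have a2 := (h3' l (by omega)).1
          have a3 := hc l (by
            change k < (l : ℕ)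
            omega)
          have : v₂ l - w l = (v₂ l - (c l + v₁ l)) + (v₁ l - w l) + c l := by abel
          rw [this]
          exact add_mem (add_mem a2 a1) a3

theorem exists_mul (k : ℕ) {z w : Fin N → A} (hz : Good L k z) (hw : Good L k w) :
    ∃ v, Good L k v ∧ tail u k z * tail u k w = tail u k v ∧
      ∀ l : Fin N, k ≤ l → v l - (z l + w l) ∈ L l ∧ ((l : ℕ) = k → v l = z l + w l) :=
  (main hadd hL hcomm _ k rfl).1 z w hz hw

theorem exists_conj (k : ℕ) (j : Fin N) (hj : j < k) {a : A} (ha : a ∈ L (j + 1)) {w : Fin N → A} (hw : Good L k w) :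
    ∃ v, Good L k v ∧ u j a * tail u k w * (u j a)⁻¹ = tail u k v ∧
      ∀ l : Fin N, k ≤ l → v l - w l ∈ L l ∧ ((l : ℕ) = k → v l = w l) :=
  (main hadd hL hcomm _ k rfl).2 j hj a ha w hw

theorem exists_inv (k : ℕ) {z : Fin N → A} (hz : Good L k z) :
    ∃ v, Good L k v ∧ (tail u k z)⁻¹ = tail u k v ∧ ∀ l : Fin N, (l : ℕ) = k → v l = -z l := by
  classical
  have : ∀ (m k : ℕ), N - k = m → Good L k z →
      ∃ v, Good L k v ∧ (tail u k z)⁻¹ = tail u k v ∧ ∀ l : Fin N, (l : ℕ) = k → v l = -z l := by
    intro m
    induction m with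
    | zero =>
      intro k hk _
      exact ⟨z, fun l hl => absurd l.2 (by omega), by rw [tail_last u (by omega), inv_one],
        fun l hl => absurd l.2 (by omega)⟩
    | succ m ih =>
      intro k hm hz
      have hk : k < N := by omega
      let κ : Fin N := ⟨k, hk⟩
      obtain ⟨v₁, hv₁, h1, -⟩ := ih (k + 1) (by omega) fun l hl => hz l (by omega)
      -- both factors as elements of level `k`
      have hz1 : Good L k (Function.update v₁ κ 0) := by
        intro l hl
        by_cases hlk : l = κ
        · subst hlk
          rw [Function.update_self]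
          exact zero_mem _
        · rw [Function.update_of_ne hlk]
          exact hv₁ l (by
            have : (l : ℕ) ≠ k := fun h => hlk (Fin.ext h)
            omega)
      have hz2 : Good L k (Pi.single κ (-z κ)) := by
        intro l hl
        by_cases hlk : l = κ
        · subst hlk
          rw [Pi.single_eq_same]
          exact neg_mem (hz κ le_rfl)
        · rw [Pi.single_eq_of_ne hlk]
          exact zero_mem _
      obtain ⟨v, hv, h2, h2'⟩ := exists_mul hadd hL hcomm k hz1 hz2
      refine ⟨v, hv, ?_, ?_⟩
      · have e1 : tail u k (Function.update v₁ κ 0) = tail u (k + 1) v₁ := by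
          rw [tail_eq u hk]
          change u κ (Function.update v₁ κ 0 κ) * _ = _
          rw [Function.update_self, u_zero hadd, one_mul]
          exact tail_congr u fun l hl => Function.update_of_ne (by
            intro h
            rw [h] at hl
            simp [κ] at hl) _ _
        rw [← h2, e1, tail_single hadd κ le_rfl, ← h1, tail_eq u hk, u_neg hadd, mul_inv_rev]
      · intro l hl
        obtain rfl : l = κ := Fin.ext hl
        rw [(h2' κ le_rfl).2 hl, Function.update_self, Pi.single_eq_same, zero_add]
  exact this _ k rfl hz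

/-- conjugation by any product from the beginning -/
theorem exists_conj_tail (k : ℕ) {x w : Fin N → A} (hx : Good L 0 x) (hw : Good L k w) :
    ∃ v, Good L k v ∧ tail u 0 x * tail u k w * (tail u 0 x)⁻¹ = tail u k v ∧
      ∀ l : Fin N, (l : ℕ) = k → v l = w l := by
  classical
  have : ∀ (m i : ℕ), N - i = m →
      ∃ v, Good L k v ∧ tail u i x * tail u k w * (tail u i x)⁻¹ = tail u k v ∧
        ∀ l : Fin N, (l : ℕ) = k → v l = w l := by
    intro m
    induction m with
    | zero =>
      intro i hi
      exact ⟨w, hw, by rw [tail_last u (by omega)]; group, fun _ _ => rfl⟩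
    | succ m ih =>
      intro i hi
      have hiN : i < N := by omega
      let ι : Fin N := ⟨i, hiN⟩
      have e0 : tail u i x = u ι (x ι) * tail u (i + 1) x := tail_eq u hiN x
      obtain ⟨v₁, hv₁, h1, h1'⟩ := ih (i + 1) (by omega)
      rcases lt_or_ge i k with hik | hik
      · obtain ⟨v, hv, h2, h2'⟩ := exists_conj hadd hL hcomm k ι hik (hx ι (Nat.zero_le _)) hv₁
        refine ⟨v, hv, ?_, fun l hl => by rw [(h2' l (by omega)).2 hl, h1' l hl]⟩
        rw [e0, ← h2, ← h1]
        group
      · -- the conjugating factor lies in the subgroup of level `k`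
        have g1 : Good L k (Pi.single ι (x ι)) := by
          intro l hl
          by_cases hlk : l = ι
          · subst hlk
            rw [Pi.single_eq_same]
            exact hx ι (Nat.zero_le _)
          · rw [Pi.single_eq_of_ne hlk]
            exact zero_mem _
        obtain ⟨p, hp, h2, h2'⟩ := exists_mul hadd hL hcomm k g1 hv₁
        obtain ⟨q, hq, h3, h3'⟩ := exists_inv hadd hL hcomm k g1
        obtain ⟨v, hv, h4, h4'⟩ := exists_mul hadd hL hcomm k hp hq
        refine ⟨v, hv, ?_, fun l hl => ?_⟩
        · rw [← h4, ← h3, ← h2, ← h1, e0, tail_single hadd ι hik]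
          group
        · rw [(h4' l (by omega)).2 hl, (h2' l (by omega)).2 hl, h3' l hl, h1' l hl]
          abel
  exact this _ 0 rfl

end coll

section hom

variable {u : Fin N → A → Γ} (hadd : ∀ k x y, u k (x + y) = u k x * u k y)
  {f : Fin N → A → Δ} (hf : ∀ k x y, f k (x + y) = f k x * f k y)
  (hcomm : ∀ i j : Fin N, i < j → ∀ x y, ∃ c : Fin N → A, u i x * u j y * (u i x)⁻¹ = u j y * tail u (j + 1) c)
  (hinj : ∀ z w, tail u 0 z = tail u 0 w → z = w)

/-- the trivial filtration -/
abbrev LL (A : Type*) [AddCommGroup A] : ℕ → AddSubgroup A := fun _ => ⊤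

omit [Group Γ] in
lemma good_LL (k : ℕ) (z : Fin N → A) : Good (LL A) k z := fun _ _ => AddSubgroup.mem_top _

include hcomm in
lemma hcomm' : ∀ i j : Fin N, i < j → ∀ x ∈ LL A (i + 1), ∀ y ∈ LL A (j + 1), ∃ c : Fin N → A,
    (∀ l : Fin N, j < l → c l ∈ LL A l) ∧ u i x * u j y * (u i x)⁻¹ = u j y * tail u (j + 1) c := by
  intro i j hij x _ y _
  obtain ⟨c, hc⟩ := hcomm i j hij x y
  exact ⟨c, fun _ _ => AddSubgroup.mem_top _, hc⟩

include hadd hcomm

lemma mul_mem (k : ℕ) (z w : Fin N → A) : ∃ v, tail u k z * tail u k w = tail u k v := by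
  obtain ⟨v, -, h, -⟩ := exists_mul hadd (L := LL A) monotone_const (hcomm' hcomm) k (good_LL k z) (good_LL k w)
  exact ⟨v, h⟩

lemma inv_mem (k : ℕ) (z : Fin N → A) : ∃ v, (tail u k z)⁻¹ = tail u k v := by
  obtain ⟨v, -, h, -⟩ := exists_inv hadd (L := LL A) monotone_const (hcomm' hcomm) k (good_LL k z)
  exact ⟨v, h⟩

lemma conj_mem (k : ℕ) (j : Fin N) (hj : j < k) (a : A) (w : Fin N → A) :
    ∃ v, u j a * tail u k w * (u j a)⁻¹ = tail u k v := by
  obtain ⟨v, -, h, -⟩ := exists_conj hadd (L := LL A) monotone_const (hcomm' hcomm) k j hj (a := a)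
    (AddSubgroup.mem_top _) (good_LL k w)
  exact ⟨v, h⟩

include hinj

omit hcomm in
lemma inj_tail {k : ℕ} {z w : Fin N → A} (h : tail u k z = tail u k w) : ∀ l : Fin N, k ≤ l → z l = w l := by
  classical
  intro l hl
  have e : ∀ z : Fin N → A, tail u 0 (fun l => if k ≤ (l : ℕ) then z l else 0) = tail u k z := by
    intro z
    rw [tail_eq_of_zero hadd (Nat.zero_le k) fun l _ hl => if_neg (by omega)]
    exact tail_congr u fun l hl => if_pos hl
  have h1 := congrFun (hinj _ _ ((e z).trans (h.trans (e w).symm))) l
  simpa [hl] using h1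

include hf

/-- The multiplicativity of `∏ u l (z l) ↦ ∏ f l (z l)` from the conjugation relations, by descending induction. -/
theorem mul_of_conj
    (h : ∀ i j : Fin N, i < j → ∀ a c z, tail u 0 z = u j c * u i a * (u j c)⁻¹ →
      tail f 0 z = f j c * f i a * (f j c)⁻¹) (m k : ℕ) (hm : N - k = m) (x y z : Fin N → A)
    (hz : tail u k z = tail u k x * tail u k y) : tail f k z = tail f k x * tail f k y := by
  classical
  induction m generalizing k x y z with
  | zero =>
    rw [tail_last f (by omega), tail_last f (by omega), tail_last f (by omega), one_mul]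
  | succ m ih =>
    have hk : k < N := by omega
    let κ : Fin N := ⟨k, hk⟩
    have ih' := ih (k + 1) (by omega)
    -- conjugation of one factor
    have key1 : ∀ (j : Fin N), k < j → ∀ b c p, tail u (k + 1) p = (u κ b)⁻¹ * u j c * u κ b →
        tail f (k + 1) p = (f κ b)⁻¹ * f j c * f κ b := by
      intro j hj b c p hp
      obtain ⟨r, hr⟩ := mul_mem hadd hcomm (k + 1) p (Pi.single j (-c))
      have hr' := ih' _ _ _ hr.symm
      rw [tail_single hadd j hj, u_neg hadd] at hr
      rw [tail_single hf j hj, u_neg hf] at hr'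
      have e1 : ∀ (v : Fin N → A → Γ), tail v (k + 1) (Function.update r κ b) = tail v (k + 1) r := fun v =>
        tail_congr v fun l hl => Function.update_of_ne (by
          intro h
          rw [h] at hl
          simp [κ] at hl) _ _
      have e2 : ∀ (v : Fin N → A → Δ), tail v (k + 1) (Function.update r κ b) = tail v (k + 1) r := fun v =>
        tail_congr v fun l hl => Function.update_of_ne (by
          intro h
          rw [h] at hl
          simp [κ] at hl) _ _
      let q : Fin N → A := fun l => if k ≤ (l : ℕ) then Function.update r κ b l else 0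
      have f1 : tail u 0 q = u κ b * tail u (k + 1) r := by
        rw [tail_eq_of_zero hadd (Nat.zero_le k) fun l _ hl => if_neg (by omega)]
        rw [tail_congr u (w := Function.update r κ b) fun l hl => if_pos hl, tail_eq u hk, e1]
        change u κ (Function.update r κ b κ) * _ = _
        rw [Function.update_self]
      have f2 : tail f 0 q = f κ b * tail f (k + 1) r := by
        rw [tail_eq_of_zero hf (Nat.zero_le k) fun l _ hl => if_neg (by omega)]
        rw [tail_congr f (w := Function.update r κ b) fun l hl => if_pos hl, tail_eq f hk, e2]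
        change f κ (Function.update r κ b κ) * _ = _
        rw [Function.update_self]
      have h1 := h κ j (by exact hj) b c q (by
        rw [f1, ← hr, hp]
        group)
      rw [f2, hr'] at h1
      have h2 : tail f (k + 1) p = (f κ b)⁻¹ * (f κ b * (tail f (k + 1) p * (f j c)⁻¹)) * f j c := by group
      rw [h2, h1]
      group
    -- conjugation of a product
    have key2 : ∀ (m' i : ℕ), N - i = m' → k < i → ∀ b x p, tail u (k + 1) p = (u κ b)⁻¹ * tail u i x * u κ b →
        tail f (k + 1) p = (f κ b)⁻¹ * tail f i x * f κ b := by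
      intro m'
      induction m' with
      | zero =>
        intro i hi hki b x p hp
        have hNi : N ≤ i := by omega
        rw [tail_last u hNi] at hp
        rw [tail_last f hNi]
        have h1 : tail u (k + 1) p = tail u (k + 1) (fun _ => 0) := by
          rw [hp, tail_of_zero hadd fun _ _ => rfl]
          group
        have h2 := inj_tail hadd hinj h1
        rw [tail_of_zero hf h2]
        group
      | succ m' ih'' =>
        intro i hi hki b x p hp
        have hiN : i < N := by omega
        let ι : Fin N := ⟨i, hiN⟩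
        have e0 : tail u i x = u ι (x ι) * tail u (i + 1) x := tail_eq u hiN x
        have e0' : tail f i x = f ι (x ι) * tail f (i + 1) x := tail_eq f hiN x
        obtain ⟨p₁, hp₁⟩ := conj_mem hadd hcomm (k + 1) κ (by simp [κ]) (-b) (Pi.single ι (x ι))
        have hp₁' := key1 ι hki b (x ι) p₁ (by
          rw [← hp₁, tail_single hadd ι hki, u_neg hadd, inv_inv])
        have h3 : ∃ w : Fin N → A, tail u (k + 1) w = tail u (i + 1) x := by
          refine ⟨fun l => if i + 1 ≤ (l : ℕ) then x l else 0, ?_⟩
          rw [tail_eq_of_zero hadd (m := i + 1) (by omega) fun l _ hl => if_neg (by omega)]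
          exact tail_congr u fun l hl => if_pos hl
        obtain ⟨w, hw⟩ := h3
        obtain ⟨p₂, hp₂⟩ := conj_mem hadd hcomm (k + 1) κ (by simp [κ]) (-b) w
        have hp₂' := ih'' (i + 1) (by omega) (by omega) b x p₂ (by
          rw [← hp₂, hw, u_neg hadd, inv_inv])
        have h4 := ih' p₁ p₂ p (by
          rw [hp, e0, ← hp₁, ← hp₂, hw, tail_single hadd ι hki, u_neg hadd, inv_inv]
          group)
        rw [h4, hp₁', hp₂', e0']
        group
    -- the product
    have hx : tail u k x = u κ (x κ) * tail u (k + 1) x := tail_eq u hk x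
    have hy : tail u k y = u κ (y κ) * tail u (k + 1) y := tail_eq u hk y
    have hx' : tail f k x = f κ (x κ) * tail f (k + 1) x := tail_eq f hk x
    have hy' : tail f k y = f κ (y κ) * tail f (k + 1) y := tail_eq f hk y
    obtain ⟨p, hp⟩ := conj_mem hadd hcomm (k + 1) κ (by simp [κ]) (-(y κ)) x
    rw [u_neg hadd, inv_inv] at hp
    have hp' := key2 _ (k + 1) rfl (by omega) (y κ) x p hp.symm
    obtain ⟨w, hw⟩ := mul_mem hadd hcomm (k + 1) p y
    have hw' := ih' p y w hw.symm
    have e1 : tail u k (Function.update w κ (x κ + y κ)) = u κ (x κ + y κ) * tail u (k + 1) w := by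
      rw [tail_eq u hk, tail_congr u (w := w) fun l hl => Function.update_of_ne (by
          intro h
          rw [h] at hl
          simp [κ] at hl) _ _]
      change u κ (Function.update w κ (x κ + y κ) κ) * _ = _
      rw [Function.update_self]
    have e2 : tail f k (Function.update w κ (x κ + y κ)) = f κ (x κ + y κ) * tail f (k + 1) w := by
      rw [tail_eq f hk, tail_congr f (w := w) fun l hl => Function.update_of_ne (by
          intro h
          rw [h] at hl
          simp [κ] at hl) _ _]
      change f κ (Function.update w κ (x κ + y κ) κ) * _ = _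
      rw [Function.update_self]
    have h5 : tail u k z = tail u k (Function.update w κ (x κ + y κ)) := by
      rw [hz, e1, ← hw, ← hp, hx, hy, hadd]
      group
    rw [tail_congr f (inj_tail hadd hinj h5), e2, hw', hp', hx', hy', hf]
    group

/-- `F : ∏ u l (z l) ↦ ∏ f l (z l)` is multiplicative if and only if it respects the conjugation relations. -/
theorem mul_iff_conj :
    (∀ x y z : Fin N → A, tail u 0 z = tail u 0 x * tail u 0 y → tail f 0 z = tail f 0 x * tail f 0 y) ↔
    (∀ i j : Fin N, i < j → ∀ a c z, tail u 0 z = u j c * u i a * (u j c)⁻¹ →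
      tail f 0 z = f j c * f i a * (f j c)⁻¹) := by
  classical
  refine ⟨fun h i j _ a c z hz => ?_, fun h x y z hz => mul_of_conj hadd hf hcomm hinj h _ 0 rfl x y z hz⟩
  obtain ⟨p, hp⟩ := mul_mem hadd hcomm 0 (Pi.single j c) (Pi.single i a)
  have hp' := h _ _ _ hp.symm
  rw [tail_single hadd j (Nat.zero_le _), tail_single hadd i (Nat.zero_le _)] at hp
  rw [tail_single hf j (Nat.zero_le _), tail_single hf i (Nat.zero_le _)] at hp'
  have h2 := h z (Pi.single j c) p (by
    rw [hz, ← hp, tail_single hadd j (Nat.zero_le _)]
    group)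
  rw [tail_single hf j (Nat.zero_le _), hp'] at h2
  rw [h2]
  group

end hom

end K198.Coll
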