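import Groth.Agent.RedSub.K198.FilMain
import Groth.Agent.Redsub.H644.BorelClosed
import Groth.Agent.RedSub.H651.BorLevi

/-!
# The filtration of the unipotent part of a Borel subgroup
-/

set_option autoImplicit false

universe u

open CategoryTheory MonoidalCategory CartesianMonoidalCategory MonObj GrpObj AlgebraicGeometry Limits

namespace K198.FilBor

lemma comp_eq_one_of_isQuotient {S : Scheme.{u}} {H G Q : Over S} [GrpObj H] [GrpObj G] [GrpObj Q]
    {i : H ⟶ G} {q : G ⟶ Q} [IsMonHom q] (h : RedSub.IsQuotient i q) : i ≫ q = 1 := by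
  have h1 := h.2.2.2.w
  have h2 := congrArg (fun z => lift (1 : H ⟶ G) (𝟙 H) ≫ z) h1
  have h3 : lift (1 : H ⟶ G) (𝟙 H) ≫ (G ◁ i) ≫ μ[G] = i := by
    rw [← Category.assoc, lift_whiskerLeft, Category.id_comp]
    exact _root_.one_mul i
  rw [← Category.assoc, lift_fst, MonObj.one_comp, ← Category.assoc, h3] at h2
  exact h2.symm

/-- **Main theorem for Borel subgroups.** -/
theorem main {A : Type u} [CommRing A]
    {G B U : Over (Spec (CommRingCat.of A))} [GrpObj G] [GrpObj B] [GrpObj U] (hG : Red.IsReductive G)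
    (b : B ⟶ G) (hB : RedSub.IsBorelSub b) (u : U ⟶ B) (hU : Par.IsUnipotentRadical u)
    (hht : ∀ _ : Red.IsParabolic b, FilMain.Ht b) :
    ∃ (V : ℕ → Over (Spec (CommRingCat.of A))) (_ : ∀ n, GrpObj (V n)) (v : ∀ n, V n ⟶ B)
      (w : ∀ n, V (n + 1) ⟶ V n),
      Par.IsUnipotentRadical (v 0) ∧
      (∀ n, IsMonHom (v n) ∧ IsClosedImmersion (v n).left ∧ AlgGrp.IsNormalHom (v n) ∧ Smooth (V n).hom ∧
        RedSub.HasConnectedFibres (V n) ∧ IsMonHom (w n) ∧ w n ≫ v n = v (n + 1)) ∧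
      (∀ n, ∃ (P : Type u) (_ : AddCommGroup P) (_ : Module A P) (_ : Module.Finite A P) (_ : Module.Projective A P)
        (p : V n ⟶ (Spec (CommRingCat.of (SymmetricAlgebra A P))).asOver (Spec (CommRingCat.of A))),
        IsMonHom p ∧ RedSub.IsQuotient (w n) p ∧
        ∀ (X : Over (Spec (CommRingCat.of A))) (c : X ⟶ V 0) (x : X ⟶ V n), ∃ x' : X ⟶ V n,
          x' ≫ v n = (c ≫ v 0) * (x ≫ v n) * (c ≫ v 0)⁻¹ ∧ x' ≫ p = x ≫ p) ∧
      (∀ (s : ↥(Spec (CommRingCat.of A))) (n : ℕ),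
        topologicalKrullDim ↥(Red.geomFibre s (V 0)).left ≤ (n : WithBot ℕ∞) →
          Red.IsTrivialGrp (Red.geomFibre s (V n))) := by
  have hP : Red.IsParabolic b := Groth.Agent.RedSub.H651.BorLevi.isParabolic_of_isBorel
    (Groth.Agent.Redsub.H644.BorelClosed.isBorel_of_isBorelSub hG hB)
  obtain ⟨V, iV, v, w, e₀, -, -, hrad, h1, h2, h3, h4⟩ := FilMain.main hG b hP u hU (hht hP)
  refine ⟨V, iV, v, w, hrad, h1, ?_, ?_⟩
  · intro n
    obtain ⟨M, _, _, hM1, hM2, q, hq, hquo⟩ := h3 n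
    refine ⟨M, inferInstance, inferInstance, hM1, hM2, q, hq, hquo, ?_⟩
    intro X c x
    obtain ⟨z, hz⟩ := h2 0 n X c x
    obtain ⟨z', hz'⟩ : ∃ z' : X ⟶ V (n + 1), z' ≫ v (n + 1) =
        (c ≫ v 0) * (x ≫ v n) * (c ≫ v 0)⁻¹ * (x ≫ v n)⁻¹ := by
      have h5 : 0 + n + 1 = n + 1 := by omega
      revert z
      rw [h5]
      exact fun z hz => ⟨z, hz⟩
    have hv : IsMonHom (v n) := (h1 n).1
    have hwv : w n ≫ v n = v (n + 1) := (h1 n).2.2.2.2.2.2
    refine ⟨(z' ≫ w n) * x, ?_, ?_⟩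
    · rw [MonObj.mul_comp, Category.assoc, hwv, hz', inv_mul_cancel_right]
    · rw [MonObj.mul_comp, Category.assoc, comp_eq_one_of_isQuotient hquo, MonObj.comp_one,
        _root_.one_mul]
  · intro s n hn
    apply h4 s n
    have i : (Red.geomFibre s (V 0)).left ≅ (Red.geomFibre s U).left :=
      (Over.forget _).mapIso ((Over.pullback (Red.geomPt s)).mapIso e₀)
    rw [IsHomeomorph.topologicalKrullDim_eq _ (Scheme.homeoOfIso i).isHomeomorph] at hn
    exact hn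

end K198.FilBor
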