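import Groth.Agent.RedSub.H659.GrMain

/-!
# The grading of the conormal module of a contraction
-/

set_option autoImplicit false
set_option linter.unusedSectionVars false

universe u v w

open Polynomial

namespace K198.FilGr

open Groth.Agent.RedSub.H659 Groth.Agent.RedSub.H659.SymPow Groth.Agent.RedSub.H659.GrSym
open Groth.Agent.RedSub.H659.GrMain

variable {R : Type*} [CommRing R] {B : Type*} [CommRing B] [Algebra R B]
variable {ε : B →ₐ[R] R} {ρ : B →ₐ[R] B[X]} (h : IsContr ε ρ)

include h

/-- the explicit form of `exists_equiv` -/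
theorem bij_lift [Algebra.FormallySmooth R B] (s : E ε →ₗ[R] B) (hs1 : ∀ e, s e ∈ I ε)
    (hs2 : ∀ x : I ε, (x : B) - s (q ε x) ∈ I ε ^ 2)
    (hs3 : ∀ (x : I ε) (n : ℕ), pr ρ n (x : B) = x → pr ρ n (s (q ε x)) = s (q ε x)) :
    Function.Bijective (SymmetricAlgebra.lift s : SymmetricAlgebra R (E ε) →ₐ[R] B) := by
  let φ : SymmetricAlgebra R (E ε) →ₐ[R] B := SymmetricAlgebra.lift s
  have hφι : ∀ e, φ (SymmetricAlgebra.ι R (E ε) e) = s e := fun e =>
    SymmetricAlgebra.lift_ι_apply s e
  -- surjectivity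
  have hsurj' : ∀ n b, pr ρ n b ∈ φ.range := by
    intro n
    induction n using Nat.strong_induction_on with
    | _ n ih =>
      intro b
      by_cases hn : n = 0
      · subst hn
        rw [pr_zero h]
        exact Subalgebra.algebraMap_mem _ _
      -- decomposable elements
      have hdec : ∀ y ∈ I ε ^ 2, pr ρ n y ∈ φ.range := by
        intro y hy
        rw [pow_two] at hy
        refine Submodule.mul_induction_on hy ?_ ?_
        · intro a ha b hb
          rw [pr_mul]
          refine Subalgebra.sum_mem _ fun z hz => ?_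
          rw [Finset.mem_antidiagonal] at hz
          by_cases h1 : z.1 = 0
          · rw [h1, pr_zero_of_mem h ha, zero_mul]
            exact zero_mem _
          by_cases h2 : z.2 = 0
          · rw [h2, pr_zero_of_mem h hb, mul_zero]
            exact zero_mem _
          exact mul_mem (ih z.1 (by omega) a) (ih z.2 (by omega) b)
        · intro a b ha hb
          rw [map_add]
          exact add_mem ha hb
      let x : I ε := ⟨pr ρ n b, pr_mem_I_of_pos h hn⟩
      have hx : pr ρ n (x : B) = x := pr_pr_same h n b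
      have h1 := hdec _ (hs2 x)
      rw [map_sub, hx, hs3 x n hx] at h1
      have h2 : s (q ε x) ∈ φ.range := ⟨SymmetricAlgebra.ι R (E ε) (q ε x), hφι _⟩
      have h3 := add_mem h1 h2
      rwa [sub_add_cancel] at h3
  have hsurj : Function.Surjective φ := by
    intro b
    have : b ∈ φ.range := by
      rw [← sum_pr' h b]
      exact Subalgebra.sum_mem _ fun n _ => hsurj' n b
    exact this
  -- injectivity
  have hεφ : ε.comp φ = SymmetricAlgebra.algebraMapInv := by
    ext e
    change ε (φ (SymmetricAlgebra.ι R (E ε) e)) = _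
    rw [hφι]
    change _ = SymmetricAlgebra.algebraMapInv (SymmetricAlgebra.ι R (E ε) e)
    rw [SymmetricAlgebra.algebraMapInv_ι]
    exact hs1 e
  have hmap : (aug R (E ε)).map φ ≤ I ε := by
    rw [Ideal.map_le_iff_le_comap]
    intro x hx
    have := DFunLike.congr_fun hεφ x
    change ε (φ x) = 0
    exact this.trans hx
  have hker : RingHom.ker φ ≤ aug R (E ε) ^ 2 := by
    intro x hx
    obtain ⟨r, e, hre⟩ := exists_decomp R (E ε) x
    have h1 : φ (x - algebraMap R _ r - SymmetricAlgebra.ι R (E ε) e) ∈ I ε ^ 2 := by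
      have h2 := Ideal.mem_map_of_mem φ hre
      rw [Ideal.map_pow] at h2
      exact Ideal.pow_right_mono hmap 2 h2
    rw [map_sub, map_sub, show φ x = 0 from hx, AlgHom.commutes, hφι, zero_sub] at h1
    have h3 : r = 0 := by
      have h4 : ε (-algebraMap R B r - s e) = 0 := Ideal.pow_le_self two_ne_zero h1
      rw [map_sub, map_neg, AlgHom.commutes, show ε (s e) = 0 from hs1 e] at h4
      simpa using h4
    subst h3
    obtain ⟨y, rfl⟩ := q_surjective ε e
    rw [map_zero, neg_zero, zero_sub] at h1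
    have h5 := add_mem (hs2 y) (neg_mem h1)
    rw [neg_neg, sub_add_cancel] at h5
    rw [(q_eq_zero_iff ε y).2 h5, map_zero, map_zero, sub_zero, sub_zero] at hre
    exact hre
  have hinj : Function.Injective φ := by
    rw [injective_iff_map_eq_zero]
    intro x hx
    apply eq_zero_of_forall_mem_pow R (E ε)
    intro n
    exact ker_le_pow φ hsurj _ hker n hx
  exact ⟨hinj, hsurj⟩

/-- **the coordinates of a smooth contracted algebra and their grading** -/
theorem exists_grading [Algebra.FormallySmooth R B] [Algebra.FiniteType R B] :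
    ∃ (s : E ε →ₗ[R] B) (π : ℕ → E ε →ₗ[R] E ε) (N : ℕ),
      Function.Bijective (SymmetricAlgebra.lift s : SymmetricAlgebra R (E ε) →ₐ[R] B) ∧
      (∀ e, ε (s e) = 0) ∧ (∀ n e, s (π n e) = pr ρ n (s e)) ∧
      (∀ m n e, π m (π n e) = if n = m then π n e else 0) ∧
      (∀ e, ∑ n ∈ Finset.range N, π n e = e) ∧ (∀ n, N ≤ n → π n = 0) ∧ π 0 = 0 := by
  have hfin := finite_E ε
  have hproj := projective_E ε
  obtain ⟨s, hs1, hs2, hs3⟩ := exists_section h
  have hqs : ∀ e (he : s e ∈ I ε), q ε ⟨s e, he⟩ = e := by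
    intro e he
    obtain ⟨x, rfl⟩ := q_surjective ε e
    have h1 := hs2 x
    exact ((q_eq_iff ε x ⟨_, he⟩).2 h1).symm
  have hinj : Function.Injective s := by
    intro e e' hee
    rw [← hqs e (hs1 e), ← hqs e' (hs1 e')]
    congr 1
    exact Subtype.ext hee
  -- the components
  let π : ℕ → E ε →ₗ[R] E ε := fun n =>
    { toFun := fun e => q ε ⟨pr ρ n (s e), pr_mem_I h (hs1 e) n⟩
      map_add' := fun x y => by
        rw [← map_add]
        congr 1
        apply Subtype.ext
        change pr ρ n (s (x + y)) = pr ρ n (s x) + pr ρ n (s y)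
        rw [map_add, map_add]
      map_smul' := fun r x => by
        rw [RingHom.id_apply, ← map_smul]
        congr 1
        apply Subtype.ext
        rw [coe_smul_I]
        change pr ρ n (s (r • x)) = algebraMap R B r * pr ρ n (s x)
        rw [map_smul, map_smul, Algebra.smul_def] }
  have hπ : ∀ n e, π n e = q ε ⟨pr ρ n (s e), pr_mem_I h (hs1 e) n⟩ := fun _ _ => rfl
  have hhom : ∀ n e, pr ρ n (s (π n e)) = s (π n e) := by
    intro n e
    exact hs3 ⟨pr ρ n (s e), pr_mem_I h (hs1 e) n⟩ n (pr_pr_same h n _)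
  have hsum : ∀ (M : ℕ) (e : E ε), (∀ n, M ≤ n → pr ρ n (s e) = 0) →
      ∑ n ∈ Finset.range M, π n e = e := by
    intro M e hM
    have h1 : ∑ n ∈ Finset.range M, π n e =
        q ε (∑ n ∈ Finset.range M, ⟨pr ρ n (s e), pr_mem_I h (hs1 e) n⟩) := by
      rw [map_sum]
      rfl
    have h2 : (∑ n ∈ Finset.range M, (⟨pr ρ n (s e), pr_mem_I h (hs1 e) n⟩ : I ε)) =
        ⟨s e, hs1 e⟩ := by
      apply Subtype.ext
      rw [AddSubmonoidClass.coe_finsetSum]
      exact sum_pr h (s e) hM
    rw [h1, h2, hqs]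
  have hsπ : ∀ n e, s (π n e) = pr ρ n (s e) := by
    intro n e
    let M : ℕ := max (n + 1) ((ρ (s e)).natDegree + 1)
    have h1 := hsum M e (fun m hm => pr_eq_zero_of_lt (by omega))
    have h2 := congrArg (fun z => pr ρ n (s z)) h1
    simp only [map_sum] at h2
    rw [Finset.sum_eq_single n] at h2
    · rw [hhom] at h2
      exact h2
    · intro m _ hmn
      rw [← hhom m e, pr_pr h, if_neg hmn]
    · intro hn
      exact absurd (Finset.mem_range.2 (by omega)) hn
  -- a bound for the degrees
  obtain ⟨T, hT⟩ := Module.Finite.fg_top (R := R) (M := E ε)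
  let N : ℕ := T.sup fun e => (ρ (s e)).natDegree + 1
  have hN : ∀ n, N ≤ n → π n = 0 := by
    intro n hn
    apply LinearMap.ext_on (s := (T : Set (E ε))) hT
    intro e he
    have h1 : (ρ (s e)).natDegree + 1 ≤ N :=
      Finset.le_sup (f := fun e => (ρ (s e)).natDegree + 1) he
    apply hinj
    rw [hsπ, pr_eq_zero_of_lt (by omega), LinearMap.zero_apply, map_zero]
  refine ⟨s, π, N, bij_lift h s hs1 hs2 hs3, hs1, hsπ, ?_, ?_, hN, ?_⟩
  · intro m n e
    apply hinj
    rw [hsπ, hsπ, pr_pr h]
    split_ifs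
    · rw [hsπ]
    · rw [map_zero]
  · intro e
    apply hsum
    intro n hn
    rw [← hsπ, hN n hn, LinearMap.zero_apply, map_zero]
  · ext1 e
    apply hinj
    rw [hsπ, pr_zero_of_mem h (hs1 e), LinearMap.zero_apply, map_zero]

end K198.FilGr
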