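import Groth.Agent.RedSub.K198.FilPt
import Groth.Agent.RedSub.K198.FilGr
import Groth.Agent.RedSub.H658.UGrad
import Groth.Agent.RedSub.H659.UContr

/-!
# Linear coordinates on the unipotent part of a group with a contracting cocharacter
-/

set_option autoImplicit false
set_option linter.unusedSectionVars false

open LaurentPolynomial TensorProduct WithConv
open Groth.Agent.Books.DynBasic Groth.Agent.Books.DynLim
open Groth.Agent.RedSub.H659

universe u

namespace K198.FilDat

open FilPt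

section

variable {k H : Type u} [CommRing k] [CommRing H] [HopfAlgebra k H] (l : H →ₐc[k] k[T;T⁻¹])

/-- linear coordinates on `U(λ)` with their grading -/
structure Dat where
  /-- the conormal module -/
  E : Type u
  [acg : AddCommGroup E]
  [mod : Module k E]
  fin : Module.Finite k E
  proj : Module.Projective k E
  /-- the coordinates -/
  s : E →ₗ[k] H ⧸ JU l
  surj : Function.Surjective (SymmetricAlgebra.lift s : SymmetricAlgebra k E →ₐ[k] H ⧸ JU l)
  inj : Function.Injective (SymmetricAlgebra.lift s : SymmetricAlgebra k E →ₐ[k] H ⧸ JU l)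
  /-- the components -/
  π : ℕ → E →ₗ[k] E
  /-- a bound -/
  N : ℕ
  eps_s : ∀ e, UContr.eps l (s e) = 0
  s_π : ∀ (n : ℕ) (e : E) (a : H), Ideal.Quotient.mk (JU l) a = s e →
    s (π n e) = Ideal.Quotient.mk (JU l) (pr l n a)
  π_π : ∀ m n e, π m (π n e) = if n = m then π n e else 0
  sum_π : ∀ e, ∑ n ∈ Finset.range N, π n e = e
  π_eq_zero : ∀ n, N ≤ n → π n = 0
  π_zero : π 0 = 0

attribute [instance] Dat.acg Dat.mod

lemma isContr : GrMain.IsContr (UContr.eps l) (Groth.Agent.RedSub.H658.UGrad.dd l) where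
  eval_one := (Groth.Agent.RedSub.H658.UGrad.isGrad_dd l).eval_one
  coassoc := (Groth.Agent.RedSub.H658.UGrad.isGrad_dd l).coact
  coeff_zero b := by
    obtain ⟨a, rfl⟩ := Ideal.Quotient.mk_surjective b
    rw [Groth.Agent.RedSub.H658.UGrad.coeff_dd_mk, UContr.eps_mk]
    exact UContr.mk_pr_zero l a

/-- existence of linear coordinates -/
theorem exists_dat [Algebra.Smooth k (H ⧸ JU l)] : Nonempty (Dat l) := by
  have : Algebra.FinitePresentation k (H ⧸ JU l) := Algebra.Smooth.finitePresentation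
  obtain ⟨s, π, N, h1, h2, h3, h4, h5, h6, h7⟩ := FilGr.exists_grading (isContr l)
  refine ⟨{ E := GrSym.E (UContr.eps l), fin := GrSym.finite_E _, proj := GrSym.projective_E _,
            s := s, surj := h1.2, inj := h1.1, π := π, N := N, eps_s := h2, s_π := ?_, π_π := h4,
            sum_π := h5, π_eq_zero := h6, π_zero := h7 }⟩
  intro n e a ha
  rw [h3, ← ha, GrMain.pr_apply, Groth.Agent.RedSub.H658.UGrad.coeff_dd_mk]

end

section

variable {k H : Type u} [CommRing k] [CommRing H] [HopfAlgebra k H] {l : H →ₐc[k] k[T;T⁻¹]}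
variable (D : Dat l) (hl : Pos l) {R : Type u} [CommRing R] [Algebra k R]

/-- representatives of the coordinates -/
noncomputable def Dat.sa (e : D.E) : H := (Ideal.Quotient.mk_surjective (D.s e)).choose

lemma Dat.mk_sa (e : D.E) : Ideal.Quotient.mk (JU l) (D.sa e) = D.s e :=
  (Ideal.Quotient.mk_surjective (D.s e)).choose_spec

lemma Dat.s_π' (n : ℕ) (e : D.E) :
    D.s (D.π n e) = Ideal.Quotient.mk (JU l) (pr l n (D.sa e)) := D.s_π n e _ (D.mk_sa e)

include hl in
lemma vanish_JU {g : WithConv (H →ₐ[k] R)} (hg : g ∈ KSub hl 1 R) : ∀ a ∈ JU l, g.ofConv a = 0 := by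
  rw [← JF_one hl, vanish_JF_iff hl]
  exact hg

include hl in
lemma mem_of_vanish_JU {g : WithConv (H →ₐ[k] R)} (hg : ∀ a ∈ JU l, g.ofConv a = 0) :
    g ∈ KSub hl 1 R := by
  rwa [← JF_one hl, vanish_JF_iff hl] at hg

/-- a point of `U(λ)` as a point of its coordinate ring -/
noncomputable def bar {g : WithConv (H →ₐ[k] R)} (hg : g ∈ KSub hl 1 R) : H ⧸ JU l →ₐ[k] R :=
  Ideal.Quotient.liftₐ (JU l) g.ofConv (vanish_JU hl hg)

@[simp] lemma bar_mk {g : WithConv (H →ₐ[k] R)} (hg : g ∈ KSub hl 1 R) (a : H) :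
    bar hl hg (Ideal.Quotient.mk (JU l) a) = g.ofConv a := rfl

/-- the coordinates of a point of `U(λ)` -/
noncomputable def Dat.t {g : WithConv (H →ₐ[k] R)} (hg : g ∈ KSub hl 1 R) : D.E →ₗ[k] R :=
  (bar hl hg).toLinearMap.comp D.s

lemma Dat.t_apply {g : WithConv (H →ₐ[k] R)} (hg : g ∈ KSub hl 1 R) (e : D.E) :
    D.t hl hg e = bar hl hg (D.s e) := rfl

lemma Dat.t_eq {g : WithConv (H →ₐ[k] R)} (hg : g ∈ KSub hl 1 R) (e : D.E) :
    D.t hl hg e = g.ofConv (D.sa e) := by
  rw [Dat.t_apply, ← D.mk_sa, bar_mk]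

lemma Dat.t_π {g : WithConv (H →ₐ[k] R)} (hg : g ∈ KSub hl 1 R) (n : ℕ) (e : D.E) :
    D.t hl hg (D.π n e) = g.ofConv (pr l n (D.sa e)) := by
  rw [Dat.t_apply, D.s_π', bar_mk]

/-- two algebra maps which agree on the coordinates are equal -/
lemma Dat.ext {f f' : H ⧸ JU l →ₐ[k] R} (h : ∀ e, f (D.s e) = f' (D.s e)) : f = f' := by
  have h1 : f.comp (SymmetricAlgebra.lift D.s) = f'.comp (SymmetricAlgebra.lift D.s) := by
    ext e
    change f (SymmetricAlgebra.lift D.s (SymmetricAlgebra.ι k D.E e)) =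
      f' (SymmetricAlgebra.lift D.s (SymmetricAlgebra.ι k D.E e))
    rw [SymmetricAlgebra.lift_ι_apply]
    exact h e
  apply AlgHom.ext
  intro b
  obtain ⟨z, rfl⟩ := D.surj b
  exact DFunLike.congr_fun h1 z

/-- a point of `U(λ)` is determined by its coordinates -/
theorem Dat.t_ext {g g' : WithConv (H →ₐ[k] R)} (hg : g ∈ KSub hl 1 R) (hg' : g' ∈ KSub hl 1 R)
    (h : ∀ e, D.t hl hg e = D.t hl hg' e) : g = g' := by
  apply WithConv.ofConv_injective
  apply AlgHom.ext
  intro a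
  have := D.ext (f := bar hl hg) (f' := bar hl hg') h
  exact DFunLike.congr_fun this (Ideal.Quotient.mk (JU l) a)

/-- there is a point with given coordinates -/
theorem Dat.exists_t (t : D.E →ₗ[k] R) :
    ∃ (g : WithConv (H →ₐ[k] R)) (hg : g ∈ KSub hl 1 R), D.t hl hg = t := by
  let ψ : H ⧸ JU l →ₐ[k] SymmetricAlgebra k D.E :=
    (AlgEquiv.ofBijective (SymmetricAlgebra.lift D.s) ⟨D.inj, D.surj⟩).symm
  have hψ : ∀ e, ψ (D.s e) = SymmetricAlgebra.ι k D.E e := by
    intro e
    change (AlgEquiv.ofBijective (SymmetricAlgebra.lift D.s) ⟨D.inj, D.surj⟩).symm (D.s e) = _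
    rw [AlgEquiv.symm_apply_eq]
    exact (SymmetricAlgebra.lift_ι_apply D.s e).symm
  let f : H ⧸ JU l →ₐ[k] R := (SymmetricAlgebra.lift t).comp ψ
  refine ⟨toConv (f.comp (Ideal.Quotient.mkₐ k (JU l))), mem_of_vanish_JU hl fun a ha => ?_, ?_⟩
  · change f (Ideal.Quotient.mk (JU l) a) = 0
    rw [Ideal.Quotient.eq_zero_iff_mem.2 ha, map_zero]
  · ext e
    rw [Dat.t_eq]
    change f (Ideal.Quotient.mk (JU l) (D.sa e)) = t e
    rw [D.mk_sa]
    change SymmetricAlgebra.lift t (ψ (D.s e)) = t e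
    rw [hψ, SymmetricAlgebra.lift_ι_apply]

/-- **the level of a point in coordinates** -/
theorem Dat.mem_iff {g : WithConv (H →ₐ[k] R)} (hg : g ∈ KSub hl 1 R) (d : ℕ) :
    g ∈ KSub hl d R ↔ ∀ m < d, ∀ e, D.t hl hg (D.π m e) = 0 := by
  constructor
  · intro h m hm e
    by_cases hm0 : m = 0
    · rw [hm0, D.π_zero, LinearMap.zero_apply, map_zero]
    · rw [Dat.t_π, (mem_KSub_iff hl d g).1 h m hm, if_neg hm0]
  · intro h
    rw [mem_KSub]
    let I : Ideal (Polynomial R) := Ideal.span {(Polynomial.X : Polynomial R) ^ d}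
    have hlim : ∀ a ∈ JU l, (lim hl g).ofConv a = 0 := by
      intro a ha
      ext n
      rw [coeff_lim, Polynomial.coeff_zero]
      exact vanish_JU hl hg _ (UContr.pr_mem_JU l ha n)
    let F : H ⧸ JU l →ₐ[k] Polynomial R ⧸ I :=
      (Ideal.Quotient.mkₐ k I).comp (Ideal.Quotient.liftₐ (JU l) (lim hl g).ofConv hlim)
    let F' : H ⧸ JU l →ₐ[k] Polynomial R ⧸ I := (Algebra.ofId k _).comp (UContr.eps l)
    have hFF : F = F' := by
      apply D.ext
      intro e
      have h1 : F' (D.s e) = 0 := by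
        change algebraMap k (Polynomial R ⧸ I) (UContr.eps l (D.s e)) = 0
        rw [D.eps_s, map_zero]
      rw [h1, ← D.mk_sa]
      change Ideal.Quotient.mk I ((lim hl g).ofConv (D.sa e)) = 0
      rw [Ideal.Quotient.eq_zero_iff_mem, Ideal.mem_span_singleton, Polynomial.X_pow_dvd_iff]
      intro m hm
      rw [coeff_lim, ← Dat.t_π D hl hg, h m hm]
    intro a
    have h2 := DFunLike.congr_fun hFF (Ideal.Quotient.mk (JU l) a)
    exact Ideal.Quotient.eq.1 h2

/-- the coordinates are additive in low degrees -/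
theorem Dat.t_mul {d m : ℕ} {x y : WithConv (H →ₐ[k] R)} (hx : x ∈ KSub hl d R)
    (hy : y ∈ KSub hl d R) (hx1 : x ∈ KSub hl 1 R) (hy1 : y ∈ KSub hl 1 R) (hm : m < 2 * d)
    (e : D.E) : D.t hl (mul_mem hx1 hy1) (D.π m e) = D.t hl hx1 (D.π m e) +
      D.t hl hy1 (D.π m e) := by
  by_cases hm0 : m = 0
  · rw [hm0, D.π_zero, LinearMap.zero_apply, map_zero, map_zero, map_zero, add_zero]
  · rw [Dat.t_π, Dat.t_π, Dat.t_π]
    exact mul_pr hl hx hy hm hm0 _

end

end K198.FilDat
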