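import Groth.Agent.RedSub.K198.FilFib
import Groth.Agent.RedSub.H641.TypeRBc
import Mathlib.AlgebraicGeometry.AffineSpace

/-!
# Flat descent of levels, trivial and connected fibres
-/

set_option autoImplicit false
set_option linter.unusedSectionVars false

universe u

open CategoryTheory MonoidalCategory CartesianMonoidalCategory MonObj GrpObj AlgebraicGeometry Limits
open scoped LaurentPolynomial Polynomial TensorProduct
open WithConv
open Groth.Agent.Books.AffBridge Groth.Agent.Books.DynBasic Groth.Agent.Books.DynLim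
open Groth.Agent.Sga3B Groth.Agent.Sga3B.Parab

namespace K198.FilDesc

open FilPt FilDat FilSym FilSch

section Desc

variable {k : Type u} [CommRing k] {H : Type u} [CommRing H] [HopfAlgebra k H]
variable {l : H →ₐc[k] k[T;T⁻¹]} (hl : Pos l)

/-- **flat descent of levels** -/
theorem KSub_le_of_cov {ξ : Type u} [Finite ξ] (B : ξ → Type u) [∀ i, CommRing (B i)]
    [∀ i, Algebra k (B i)] [Module.FaithfullyFlat k (∀ i, B i)] {d d' : ℕ}
    (h : ∀ (i : ξ) (C : Type u) [CommRing C] [Algebra k C] [Algebra (B i) C]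
      [IsScalarTower k (B i) C] (g : WithConv (H →ₐ[k] C)), g ∈ KSub hl d C → g ∈ KSub hl d' C)
    {C : Type u} [CommRing C] [Algebra k C] {g : WithConv (H →ₐ[k] C)} (hg : g ∈ KSub hl d C) :
    g ∈ KSub hl d' C := by
  classical
  have := Fintype.ofFinite ξ
  rw [mem_KSub_iff]
  intro m hm a
  have h1 : ∀ i, (1 : B i) ⊗ₜ[k] (g.ofConv (pr l m a)) = (1 : B i) ⊗ₜ[k]
      (if m = 0 then algebraMap k C (Coalgebra.counit (R := k) a) else 0) := by
    intro i
    let φ : C →ₐ[k] B i ⊗[k] C := Algebra.TensorProduct.includeRight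
    have h2 : mapPt φ g ∈ KSub hl d' (B i ⊗[k] C) := h i _ _ (mem_KSub_mapPt hl φ d hg)
    have h3 := (mem_KSub_iff hl d' _).1 h2 m hm a
    refine h3.trans ?_
    split_ifs
    · exact (φ.commutes _).symm
    · rw [TensorProduct.tmul_zero]
  have h4 : ∀ x y : C, (∀ i, (1 : B i) ⊗ₜ[k] x = (1 : B i) ⊗ₜ[k] y) → x = y := by
    intro x y hxy
    apply Module.FaithfullyFlat.tensorProduct_mk_injective (A := k) (B := ∀ i, B i) C
    change (1 : ∀ i, B i) ⊗ₜ[k] x = (1 : ∀ i, B i) ⊗ₜ[k] y
    have h5 : (1 : ∀ i, B i) = ∑ i, LinearMap.single k B i 1 := by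
      funext j
      rw [Finset.sum_apply]
      simp
    rw [h5, TensorProduct.sum_tmul, TensorProduct.sum_tmul]
    apply Finset.sum_congr rfl
    intro i _
    exact congrArg ((LinearMap.single k B i).rTensor C) (hxy i)
  exact h4 _ _ h1

end Desc

section Triv

variable {k : Type u} [CommRing k] {H : Type u} [CommRing H] [HopfAlgebra k H]
variable {l : H →ₐc[k] k[T;T⁻¹]} (hl : Pos l)

/-- a group all of whose affine points are trivial is trivial -/
lemma isTrivialGrp_of_pts {S : Scheme.{u}} {G : Over S} [GrpObj G]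
    (h : ∀ (C : Type u) [CommRing C] (c : Spec (CommRingCat.of C) ⟶ S) (x : aff C c ⟶ G), x = 1) :
    Red.IsTrivialGrp G := by
  have h1 : 𝟙 G = 1 := by
    apply AffPts998.hom_ext_aff
    intro C _ c x
    rw [Category.comp_id, MonObj.comp_one]
    exact h C c x
  have h2 : IsIso (toUnit G) := by
    refine ⟨η[G], ?_, ?_⟩
    · rw [h1]
      exact (MonObj.one_eq_one (M := G) ▸ rfl)
    · exact toUnit_unique _ _
  have h3 : IsIso (toUnit G).left := (Over.forget S).map_isIso (toUnit G)
  have h4 : (toUnit G).left = G.hom := by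
    have h5 := Over.w (toUnit G)
    change (toUnit G).left ≫ 𝟙 _ = G.hom at h5
    rwa [Category.comp_id] at h5
  rw [h4] at h3
  exact h3

/-- points of a level over an arbitrary affine scheme -/
lemma pt_eq_one (d : ℕ) {C : Type u} [CommRing C] (φ : k →+* C)
    (h : letI := φ.toAlgebra; ∀ g : WithConv (H →ₐ[k] C), g ∈ KSub hl d C → g = 1)
    (x : aff C (Spec.map (CommRingCat.ofHom φ)) ⟶ V hl d) : x = 1 := by
  letI := φ.toAlgebra
  haveI := isHopfIdeal_JF hl d
  obtain ⟨f, hf⟩ := exists_pV hl (C := C) x
  have h1 : ptJ f = 1 := h _ (ptJ_mem hl f)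
  have h2 : f = (1 : WithConv (H ⧸ JF l d →ₐ[k] C)).ofConv := by
    apply ptJ_injective
    rw [h1]
    apply WithConv.ofConv_injective
    apply AlgHom.ext
    intro a
    rfl
  rw [← hf, h2]
  exact specMap_one k

/-- **levels with trivial geometric points have trivial geometric fibres** -/
theorem isTrivialGrp_geomFibre (s : Spec (CommRingCat.of k)) (d : ℕ)
    (h : letI := RootBridge989.geomAlg s
      ∀ (C : Type u) [CommRing C] [Algebra k C]
        [Algebra (AlgebraicClosure ((Spec (CommRingCat.of k)).residueField s)) C]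
        [IsScalarTower k (AlgebraicClosure ((Spec (CommRingCat.of k)).residueField s)) C]
        (g : WithConv (H →ₐ[k] C)), g ∈ KSub hl d C → g = 1) :
    Red.IsTrivialGrp (Red.geomFibre s (V hl d)) := by
  letI := RootBridge989.geomAlg s
  let K := AlgebraicClosure ((Spec (CommRingCat.of k)).residueField s)
  apply isTrivialGrp_of_pts
  intro C _ c x
  obtain ⟨ψ, rfl⟩ := Spec.map_surjective c
  letI : Algebra K C := ψ.hom.toAlgebra
  let φ : k →+* C := ψ.hom.comp (algebraMap k K)
  have h0 : Spec.map ψ ≫ Red.geomPt s = Spec.map (CommRingCat.ofHom φ) := by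
    rw [RootBridge989.geomPt_eq s]
    exact (Spec.map_comp _ _).symm
  have h1 : DynBc998.dnI (Red.geomPt s) (DynBc998.affI _ (Spec.map ψ)) x = 1 := by
    generalize DynBc998.dnI (Red.geomPt s) (DynBc998.affI _ (Spec.map ψ)) x = z
    revert z
    rw [h0]
    intro z
    apply pt_eq_one hl d φ
    letI := φ.toAlgebra
    have : IsScalarTower k K C := IsScalarTower.of_algebraMap_eq fun _ => rfl
    exact h C
  rw [← (DynBc998.dnI (Red.geomPt s) (DynBc998.affI _ (Spec.map ψ))).injective.eq_iff, map_one]
  exact h1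

end Triv

section Conn

/-- images of schemes with connected fibres have connected fibres -/
lemma conn_of_surj {S : Scheme.{u}} {X Y : Over S} (f : X ⟶ Y) [Surjective f.left]
    (h : RedSub.HasConnectedFibres X) : RedSub.HasConnectedFibres Y := by
  intro s
  have h1 : Y.hom.base ⁻¹' {s} = f.left.base '' (X.hom.base ⁻¹' {s}) := by
    ext y
    constructor
    · intro hy
      obtain ⟨x, rfl⟩ := f.left.surjective y
      refine ⟨x, ?_, rfl⟩
      have h2 : X.hom x = Y.hom (f.left x) := by
        rw [← Scheme.Hom.comp_apply, Over.w]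
      exact h2.trans hy
    · rintro ⟨x, hx, rfl⟩
      have h2 : X.hom x = Y.hom (f.left x) := by
        rw [← Scheme.Hom.comp_apply, Over.w]
      exact h2.symm.trans hx
  rw [h1]
  exact (h s).image _ f.left.continuous.continuousOn

variable {k : Type u} [CommRing k]

/-- affine space has connected fibres -/
lemma conn_mv (n : ℕ) : RedSub.HasConnectedFibres
    (SpecOver k (MvPolynomial (ULift.{u} (Fin n)) k)) := by
  let A : Over (Spec (CommRingCat.of k)) :=
    Over.mk (𝔸(ULift.{u} (Fin n); Spec (CommRingCat.of k)) ↘ Spec (CommRingCat.of k))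
  have h1 : GeometricallyIrreducible A.hom := inferInstanceAs (GeometricallyIrreducible
    (𝔸(ULift.{u} (Fin n); Spec (CommRingCat.of k)) ↘ Spec (CommRingCat.of k)))
  have h2 : RedSub.HasConnectedFibres A :=
    Groth.Agent.RedSub.H641.TypeRBc.hasConnectedFibres_of_geomIrr
  let i : A ⟶ SpecOver k (MvPolynomial (ULift.{u} (Fin n)) k) :=
    Over.homMk (AffineSpace.SpecIso (ULift.{u} (Fin n)) (CommRingCat.of k)).hom (by
      have h := AffineSpace.SpecIso_inv_over (n := ULift.{u} (Fin n)) (R := CommRingCat.of k)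
      rw [Iso.inv_comp_eq] at h
      exact h.symm)
  have h3 : Surjective i.left := inferInstanceAs (Surjective
    (AffineSpace.SpecIso (ULift.{u} (Fin n)) (CommRingCat.of k)).hom)
  exact conn_of_surj i h2

/-- a retract of an affine space has connected fibres -/
theorem conn_sym {E : Type u} [AddCommGroup E] [Module k E] [Module.Finite k E]
    [Module.Projective k E] : RedSub.HasConnectedFibres (SpecOver k (SymmetricAlgebra k E)) := by
  obtain ⟨n, f, hf⟩ := Module.Finite.exists_fin' k E
  obtain ⟨g, hg⟩ := Module.projective_lifting_property f LinearMap.id hf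
  have hg' : ∀ x, f (g x) = x := fun x => DFunLike.congr_fun hg x
  let X : (Fin n → k) →ₗ[k] MvPolynomial (ULift.{u} (Fin n)) k :=
    Fintype.linearCombination k fun j => MvPolynomial.X (ULift.up j)
  have hX : ∀ v, X v = ∑ j, v j • MvPolynomial.X (ULift.up j) := fun v =>
    Fintype.linearCombination_apply k _ v
  let α : SymmetricAlgebra k E →ₐ[k] MvPolynomial (ULift.{u} (Fin n)) k :=
    SymmetricAlgebra.lift (X.comp g)
  let β : MvPolynomial (ULift.{u} (Fin n)) k →ₐ[k] SymmetricAlgebra k E :=
    MvPolynomial.aeval fun j => SymmetricAlgebra.ι k E (f (Pi.single j.down 1))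
  have hβα : β.comp α = AlgHom.id k _ := by
    apply SymmetricAlgebra.algHom_ext
    ext x
    change β (α (SymmetricAlgebra.ι k E x)) = SymmetricAlgebra.ι k E x
    have h1 : α (SymmetricAlgebra.ι k E x) = X (g x) := SymmetricAlgebra.lift_ι_apply _ _
    rw [h1, hX, map_sum]
    have h2 : ∀ j, β (g x j • MvPolynomial.X (ULift.up j)) =
        SymmetricAlgebra.ι k E (f (Pi.single j (g x j))) := by
      intro j
      rw [map_smul, MvPolynomial.aeval_X, ← map_smul, ← map_smul]
      congr 2
      rw [← Pi.single_smul, smul_eq_mul, _root_.mul_one]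
    simp_rw [h2]
    rw [← map_sum, ← map_sum, Finset.univ_sum_single, hg']
  have h3 : Surjective (specMap k α).left := by
    constructor
    intro x
    have h4 : specMap k β ≫ specMap k α = 𝟙 _ := by
      have h5 := specMap_comp k α β
      rw [hβα, specMap_id] at h5
      exact h5.symm
    exact ⟨(specMap k β).left x, congrArg (fun z => z.left x) h4⟩
  exact conn_of_surj (specMap k α) (conn_mv n)

end Conn

end K198.FilDesc
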