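import Groth.Agent.RedSub.K198.FilSym
import Mathlib.RingTheory.KrullDimension.Polynomial
import Mathlib.RingTheory.KrullDimension.Field
import Mathlib.LinearAlgebra.Dimension.Free

/-!
# The dimension of the fibres of a vector bundle; counting weights
-/

set_option autoImplicit false
set_option linter.unusedSectionVars false

open TensorProduct

universe u

namespace K198.FilDim

open FilSym

section Dim

variable {k : Type u} [CommRing k] {E : Type u} [AddCommGroup E] [Module k E]
variable {K : Type u} [Field K] [Algebra k K]

/-- **the fibre of a vector bundle over a field is an affine space** -/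
theorem ringKrullDim_sym [Module.Finite k E] :
    ringKrullDim (K ⊗[k] SymmetricAlgebra k E) = Module.finrank K (K ⊗[k] E) := by
  let r := Module.finrank K (K ⊗[k] E)
  let b : Module.Basis (Fin r) K (K ⊗[k] E) := Module.finBasis K (K ⊗[k] E)
  let i : K ⊗[k] E →ₗ[K] K ⊗[k] SymmetricAlgebra k E :=
    (SymmetricAlgebra.ι k E).baseChange K
  have hi : ∀ (x : K) (e : E), i (x ⊗ₜ e) = x ⊗ₜ SymmetricAlgebra.ι k E e := fun _ _ => rfl
  let α : MvPolynomial (ULift.{u} (Fin r)) K →ₐ[K] K ⊗[k] SymmetricAlgebra k E :=
    MvPolynomial.aeval fun j => i (b j.down)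
  have hα : ∀ j, α (MvPolynomial.X j) = i (b j.down) := fun j => MvPolynomial.aeval_X _ _
  have hbij : Function.Bijective α := by
    apply bijective_of_points
    intro C _ _
    letI : Algebra k C := ((algebraMap K C).comp (algebraMap k K)).toAlgebra
    have hst : IsScalarTower k K C := IsScalarTower.of_algebraMap_eq fun _ => rfl
    constructor
    · intro f f' h
      have h1 : f.toLinearMap.comp i = f'.toLinearMap.comp i := by
        apply b.ext
        intro j
        have h2 := DFunLike.congr_fun h (MvPolynomial.X (ULift.up j))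
        change f (α _) = f' (α _) at h2
        rw [hα] at h2
        exact h2
      apply Algebra.TensorProduct.ext (by ext)
      apply SymmetricAlgebra.algHom_ext
      ext e
      exact DFunLike.congr_fun h1 (1 ⊗ₜ e)
    · intro g
      let t' : K ⊗[k] E →ₗ[K] C := b.constr K fun j => g (MvPolynomial.X (ULift.up j))
      have ht' : ∀ j, t' (b j) = g (MvPolynomial.X (ULift.up j)) := fun j => by
        rw [Module.Basis.constr_basis]
      let t : E →ₗ[k] C := (t'.restrictScalars k).comp (TensorProduct.mk k K E 1)
      let F : SymmetricAlgebra k E →ₐ[k] C := SymmetricAlgebra.lift t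
      let f : K ⊗[k] SymmetricAlgebra k E →ₐ[K] C :=
        Algebra.TensorProduct.lift (Algebra.ofId K C) F fun _ _ => Commute.all _ _
      have hf : ∀ z, f (i z) = t' z := by
        intro z
        induction z using TensorProduct.induction_on with
        | zero => simp
        | tmul x e =>
          rw [hi]
          change algebraMap K C x * F (SymmetricAlgebra.ι k E e) = t' (x ⊗ₜ e)
          rw [SymmetricAlgebra.lift_ι_apply]
          change algebraMap K C x * t' (1 ⊗ₜ e) = t' (x ⊗ₜ e)
          rw [← Algebra.smul_def, ← map_smul, TensorProduct.smul_tmul', smul_eq_mul, mul_one]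
        | add x y hx hy => rw [map_add, map_add, map_add, hx, hy]
      refine ⟨f, ?_⟩
      change f.comp α = g
      apply MvPolynomial.algHom_ext
      intro j
      change f (α (MvPolynomial.X j)) = _
      rw [hα, hf, ht']
  have h3 := ringKrullDim_eq_of_ringEquiv (AlgEquiv.ofBijective α hbij).toRingEquiv
  rw [← h3, MvPolynomial.ringKrullDim_of_isNoetherianRing, ringKrullDim_eq_zero_of_field, zero_add]
  simp [r]

end Dim

section Count

variable {k : Type u} [CommRing k] {E : Type u} [AddCommGroup E] [Module k E] [Module.Finite k E]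
variable {K : Type u} [Field K] [Algebra k K]

/-- orthogonal components which are nonzero over a field are linearly independent -/
theorem le_finrank (π : ℕ → E →ₗ[k] E) (hπ : ∀ m n e, π m (π n e) = if n = m then π n e else 0)
    (j : ℕ) (d : Fin j → ℕ) (hd : Function.Injective d) (t : Fin j → (E →ₗ[k] K))
    (ht : ∀ i, ∃ e, t i (π (d i) e) ≠ 0) : j ≤ Module.finrank K (K ⊗[k] E) := by
  choose e he using ht
  let T : Fin j → (K ⊗[k] E →ₗ[K] K) := fun i => (t i ∘ₗ π (d i)).liftBaseChange K
  have hT : ∀ i z, T i (1 ⊗ₜ z) = t i (π (d i) z) := fun i z => by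
    change (t i ∘ₗ π (d i)).liftBaseChange K (1 ⊗ₜ z) = _
    rw [LinearMap.liftBaseChange_tmul, one_smul]
    rfl
  let u : Fin j → K ⊗[k] E := fun i => 1 ⊗ₜ π (d i) (e i)
  have hTu : ∀ i i', T i (u i') = if i' = i then t i (π (d i) (e i)) else 0 := by
    intro i i'
    change T i (1 ⊗ₜ π (d i') (e i')) = _
    rw [hT, hπ]
    by_cases h : i' = i
    · subst h
      rw [if_pos rfl, if_pos rfl]
    · rw [if_neg (fun h' => h (hd h')), if_neg h, map_zero]
  have hli : LinearIndependent K u := by
    rw [Fintype.linearIndependent_iff]
    intro g hg i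
    have h1 := congrArg (T i) hg
    rw [map_sum, map_zero] at h1
    simp_rw [map_smul, hTu] at h1
    simp only [smul_eq_mul, mul_ite, mul_zero, Finset.sum_ite_eq', Finset.mem_univ,
      if_true] at h1
    exact (mul_eq_zero.1 h1).resolve_right (he i)
  have h2 := hli.fintype_card_le_finrank
  rwa [Fintype.card_fin] at h2

end Count

end K198.FilDim
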