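import Groth.Agent.RedSub.K198.FilSm
import Groth.Agent.RedSub.K197.QuotPts
import Groth.Agent.Sga3B.Parab.AffPts998
import Groth.Agent.Books.AffBridge
import Groth.Agent.Sga3B.Pts
import Groth.Prelude.Def_RedSub
import Groth.Prelude.Def_Red2

/-!
# The filtration of a group with a contracting cocharacter by closed subgroup schemes
-/

set_option autoImplicit false
set_option linter.unusedSectionVars false

universe u

open CategoryTheory MonoidalCategory CartesianMonoidalCategory MonObj GrpObj AlgebraicGeometry Limits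
open LaurentPolynomial TensorProduct WithConv
open Groth.Agent.Books.AffBridge Groth.Agent.Books.DynBasic Groth.Agent.Books.DynLim
open Groth.Agent.Sga3B.Parab Groth.Agent.Sga3B.Parab.AffPts998

namespace K198.FilSch

open FilPt FilDat FilSym

section

variable {k : Type u} [CommRing k] {P : Over (Spec (CommRingCat.of k))} [GrpObj P]
variable {H : Type u} [CommRing H] [HopfAlgebra k H] (e : P ≅ SpecOver k H) [IsMonHom e.hom]
variable {l : H →ₐc[k] k[T;T⁻¹]} (hl : Pos l)

/-- affine points suffice to compare morphisms -/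
lemma hom_ext_spec {X Y : Over (Spec (CommRingCat.of k))} {a b : X ⟶ Y}
    (h : ∀ (C : Type u) [CommRing C] [Algebra k C] (x : SpecOver k C ⟶ X), x ≫ a = x ≫ b) :
    a = b := by
  apply hom_ext_aff
  intro C _ c x
  obtain ⟨φ, rfl⟩ := Spec.map_surjective c
  letI : Algebra k C := φ.hom.toAlgebra
  exact h C x

/-- affine points suffice to find lifts along monomorphisms -/
lemma exists_lift_spec {X Y T : Over (Spec (CommRingCat.of k))} (f : X ⟶ Y) [Mono f] (a : T ⟶ Y)
    (h : ∀ (C : Type u) [CommRing C] [Algebra k C] (t : SpecOver k C ⟶ T),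
      ∃ x : SpecOver k C ⟶ X, x ≫ f = t ≫ a) : ∃ x : T ⟶ X, x ≫ f = a := by
  apply exists_lift_of_aff f a
  intro C _ c t
  obtain ⟨φ, rfl⟩ := Spec.map_surjective c
  letI : Algebra k C := φ.hom.toAlgebra
  exact h C t

section pP

variable {C : Type u} [CommRing C] [Algebra k C]

/-- points of `P` from algebra maps -/
noncomputable def pP (g : WithConv (H →ₐ[k] C)) : SpecOver k C ⟶ P := specMap k g.ofConv ≫ e.inv

lemma pP_mul (g h : WithConv (H →ₐ[k] C)) : pP e (g * h) = pP e g * pP e h := by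
  rw [pP, specMap_mul, MonObj.mul_comp]
  rfl

lemma pP_one : pP e (1 : WithConv (H →ₐ[k] C)) = 1 := by
  rw [pP, specMap_one, MonObj.one_comp]

/-- points as a group isomorphism -/
noncomputable def pPE : WithConv (H →ₐ[k] C) ≃* (SpecOver k C ⟶ P) where
  toFun := pP e
  invFun x := toConv (specPreimage k (x ≫ e.hom))
  left_inv g := by
    change toConv (specPreimage k ((specMap k g.ofConv ≫ e.inv) ≫ e.hom)) = g
    rw [Category.assoc, Iso.inv_hom_id, Category.comp_id, specPreimage_specMap]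
  right_inv x := by
    change specMap k (specPreimage k (x ≫ e.hom)) ≫ e.inv = x
    rw [specMap_specPreimage, Category.assoc, Iso.hom_inv_id, Category.comp_id]
  map_mul' := pP_mul e

lemma pPE_apply (g : WithConv (H →ₐ[k] C)) : pPE e g = pP e g := rfl

lemma pP_inv (g : WithConv (H →ₐ[k] C)) : pP e g⁻¹ = (pP e g)⁻¹ := map_inv (pPE e) g

lemma pP_injective : Function.Injective (pP e (C := C)) := (pPE e).injective

lemma exists_pP (x : SpecOver k C ⟶ P) : ∃ g : WithConv (H →ₐ[k] C), pP e g = x :=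
  (pPE e).surjective x

end pP

/-- the level `d` as a scheme -/
noncomputable def V (_ : Pos l) (d : ℕ) : Over (Spec (CommRingCat.of k)) := SpecOver k (H ⧸ JF l d)

noncomputable instance (d : ℕ) : GrpObj (V hl d) :=
  haveI := isHopfIdeal_JF hl d
  inferInstanceAs (GrpObj (SpecOver k (H ⧸ JF l d)))

/-- the inclusion of the level `d` -/
noncomputable def v (d : ℕ) : V hl d ⟶ P := specMap k (Ideal.Quotient.mkₐ k (JF l d)) ≫ e.inv

instance (d : ℕ) : IsMonHom (v e hl d) := by
  haveI := isHopfIdeal_JF hl d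
  have h1 : IsMonHom (specMap k (Ideal.Quotient.mkₐ k (JF l d)) :
      SpecOver k (H ⧸ JF l d) ⟶ SpecOver k H) :=
    isMonHom_specMap k (Bialgebra.Quotient.mkBialgHom (R := k) (JF l d))
  exact inferInstanceAs (IsMonHom (specMap k (Ideal.Quotient.mkₐ k (JF l d)) ≫ e.inv))

instance isClosedImmersion_v (d : ℕ) : IsClosedImmersion (v e hl d).left := by
  have h1 : IsClosedImmersion (specMap k (Ideal.Quotient.mkₐ k (JF l d))).left :=
    IsClosedImmersion.spec_of_surjective _ Ideal.Quotient.mk_surjective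
  have h2 : IsIso e.inv.left := (Over.forget _).map_isIso e.inv
  exact inferInstanceAs (IsClosedImmersion
    ((specMap k (Ideal.Quotient.mkₐ k (JF l d))).left ≫ e.inv.left))

instance mono_v (d : ℕ) : Mono (v e hl d) := Over.mono_of_mono_left _

/-- inclusions of the levels -/
noncomputable def w {d d' : ℕ} (h : d ≤ d') : V hl d' ⟶ V hl d :=
  specMap k (Ideal.Quotient.factorₐ k (JF_mono l h))

lemma w_v {d d' : ℕ} (h : d ≤ d') : w hl h ≫ v e hl d = v e hl d' := by
  have h1 : specMap k (Ideal.Quotient.factorₐ k (JF_mono l h)) ≫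
      specMap k (Ideal.Quotient.mkₐ k (JF l d)) = specMap k (Ideal.Quotient.mkₐ k (JF l d')) := by
    rw [← specMap_comp]
    rfl
  exact (Category.assoc _ _ _).symm.trans (congrArg (fun z => z ≫ e.inv) h1)

section pt

variable {C : Type u} [CommRing C] [Algebra k C] {d : ℕ}

/-- points of a level from algebra maps -/
noncomputable def pV (f : H ⧸ JF l d →ₐ[k] C) : SpecOver k C ⟶ V hl d := specMap k f

lemma pV_v (f : H ⧸ JF l d →ₐ[k] C) : pV hl f ≫ v e hl d = pP e (ptJ f) := by
  have h1 : specMap k f ≫ specMap k (Ideal.Quotient.mkₐ k (JF l d)) =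
      specMap k (ptJ f).ofConv := by
    rw [← specMap_comp]
    rfl
  exact (Category.assoc _ _ _).symm.trans (congrArg (fun z => z ≫ e.inv) h1)

lemma exists_pV (x : SpecOver k C ⟶ V hl d) : ∃ f : H ⧸ JF l d →ₐ[k] C, pV hl f = x :=
  ⟨specPreimage k x, specMap_specPreimage k x⟩

/-- **points of the levels** -/
theorem exists_iff (g : WithConv (H →ₐ[k] C)) :
    (∃ x : SpecOver k C ⟶ V hl d, x ≫ v e hl d = pP e g) ↔ g ∈ KSub hl d C := by
  constructor
  · rintro ⟨x, hx⟩
    obtain ⟨f, rfl⟩ := exists_pV hl x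
    rw [pV_v] at hx
    rw [← pP_injective e hx]
    exact ptJ_mem hl f
  · intro hg
    obtain ⟨f, rfl⟩ := exists_ptJ hl hg
    exact ⟨pV hl f, pV_v e hl f⟩

end pt

/-- the levels are normal -/
theorem isNormalHom_v (d : ℕ) : AlgGrp.IsNormalHom (v e hl d) := by
  intro T g n
  have h1 : ∃ x : T ⟶ V hl d, x ≫ v e hl d = g * (n ≫ v e hl d) * g⁻¹ := by
    apply exists_lift_spec
    intro C _ _ t
    obtain ⟨a, ha⟩ := exists_pP e (t ≫ g)
    obtain ⟨f, hf⟩ := exists_pV hl (t ≫ n)
    rw [MonObj.comp_mul, MonObj.comp_mul, GrpObj.comp_inv, ← Category.assoc, ← hf, ← ha, pV_v,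
      ← pP_inv, ← pP_mul, ← pP_mul, exists_iff]
    exact Subgroup.Normal.conj_mem inferInstance _ (ptJ_mem hl f) a
  obtain ⟨x, hx⟩ := h1
  exact ⟨x, hx.symm⟩

/-- commutators -/
theorem exists_comm {d d' d'' : ℕ} (h : d'' ≤ d + d') {X : Over (Spec (CommRingCat.of k))}
    (x : X ⟶ V hl d) (y : X ⟶ V hl d') : ∃ z : X ⟶ V hl d'', z ≫ v e hl d'' =
      (x ≫ v e hl d) * (y ≫ v e hl d') * (x ≫ v e hl d)⁻¹ * (y ≫ v e hl d')⁻¹ := by
  apply exists_lift_spec
  intro C _ _ t
  obtain ⟨f, hf⟩ := exists_pV hl (t ≫ x)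
  obtain ⟨f', hf'⟩ := exists_pV hl (t ≫ y)
  have e1 : t ≫ x ≫ v e hl d = pP e (ptJ f) := by rw [← Category.assoc, ← hf, pV_v]
  have e2 : t ≫ y ≫ v e hl d' = pP e (ptJ f') := by rw [← Category.assoc, ← hf', pV_v]
  rw [MonObj.comp_mul, MonObj.comp_mul, MonObj.comp_mul, GrpObj.comp_inv, GrpObj.comp_inv, e1, e2,
    ← pP_inv, ← pP_inv, ← pP_mul, ← pP_mul, ← pP_mul, exists_iff]
  exact KSub_anti hl h (comm_mem hl (ptJ_mem hl f) (ptJ_mem hl f'))

end

end K198.FilSch
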