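import Groth.Agent.RedSub.K198.FilRoot
import Groth.Agent.RedSub.K198.FilSch
import Groth.Agent.RedSub.K198.FilDim
import Groth.Agent.Sga3B.Parab.GeomFib147
import Groth.Agent.Sga3B.RootBridge989
import Groth.Agent.RedSub.H659.UVec

/-!
# The geometric fibres of the filtration
-/

set_option autoImplicit false
set_option linter.unusedSectionVars false

universe u

open CategoryTheory MonoidalCategory CartesianMonoidalCategory MonObj GrpObj AlgebraicGeometry Limits
open scoped LaurentPolynomial Polynomial TensorProduct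
open WithConv
open Groth.Agent.Books.AffBridge Groth.Agent.Books.DynBasic Groth.Agent.Books.DynLim
open Groth.Agent.Sga3B Groth.Agent.Sga3B.Par
open Groth.Agent.Sga3B.Parab Groth.Agent.Sga3B.Parab.Chart998 Groth.Agent.Sga3B.Parab.AffPts998
open Groth.Agent.Sga3B.Parab.Dyn998 Groth.Agent.Sga3B.Parab.DynBc998
open Groth.Agent.Sga3B.Parab.DynClosed998 Groth.Agent.Sga3B.Parab.DynExist998

namespace K198.FilFib

open FilPt FilLev FilRoot FilDat FilSym FilSch

section dict

variable {k : Type u} [CommRing k] {G P : Over (Spec (CommRingCat.of k))} [GrpObj G] [GrpObj P]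
variable {p : P ⟶ G} [IsMonHom p] [IsClosedImmersion p.left]
variable {lam : Red.Gm (Spec (CommRingCat.of k)) ⟶ G} {mu : Red.Gm (Spec (CommRingCat.of k)) ⟶ P}
variable [IsMonHom mu]
variable {H : Type u} [CommRing H] [HopfAlgebra k H] (e : P ≅ SpecOver k H) [IsMonHom e.hom]
variable (hl : Pos (lamB mu (chartId e))) [IsAffineHom G.hom]
variable {B : Type u} [CommRing B] [Algebra k B]
variable {D : Red.SplitRed (Red.bc (Spec.map (CommRingCat.ofHom (algebraMap k B))) G)}
  {y : Module.Dual ℤ D.M}

/-- a high level is trivial -/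
theorem KSub_trivial (hmu : mu ≫ p = lam)
    (hy : bcLam lam (Spec.map (CommRingCat.ofHom (algebraMap k B))) = coch D y)
    {C : Type u} [CommRing C] [Algebra k C] [Algebra B C] [IsScalarTower k B C]
    {d : ℕ} (hd : 1 ≤ d) (hr : ∀ a, y (D.P.root a) < d) {g : WithConv (H →ₐ[k] C)}
    (hg : g ∈ KSub hl d C) : g = 1 := by
  obtain ⟨w, -, h2, h3⟩ := exists_coord e hl hmu hy (KSub_anti hl hd hg)
  exact h3 fun a => (h2 d).1 hg a (hr a)

/-- the first levels coincide -/
theorem KSub_one_le (hmu : mu ≫ p = lam)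
    (hy : bcLam lam (Spec.map (CommRingCat.ofHom (algebraMap k B))) = coch D y)
    {C : Type u} [CommRing C] [Algebra k C] [Algebra B C] [IsScalarTower k B C]
    {N : ℕ} (hdiv : ∀ a, (N : ℤ) ∣ y (D.P.root a)) {g : WithConv (H →ₐ[k] C)}
    (hg : g ∈ KSub hl 1 C) : g ∈ KSub hl N C := by
  obtain ⟨w, hw, h2, -⟩ := exists_coord e hl hmu hy hg
  rw [h2]
  intro a ha
  apply hw
  by_contra h0
  exact absurd (Int.le_of_dvd (not_le.1 h0) (hdiv a)) (not_le.2 ha)

variable {K : Type u} [Field K] [Algebra k K] [Algebra B K] [IsScalarTower k B K]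

include hl in
/-- **the number of heights is at most the rank** -/
theorem le_finrank (Da : Dat (lamB mu (chartId e))) (hmu : mu ≫ p = lam) (hp : IsDynP lam p)
    (hy : bcLam lam (Spec.map (CommRingCat.ofHom (algebraMap k B))) = coch D y)
    {N : ℕ} (hN : 1 ≤ N)
    (hgap : ∀ (a : D.idx) (j : ℕ), 1 ≤ j → (N : ℤ) * j ≤ y (D.P.root a) →
      ∃ b, y (D.P.root b) = N * j) (a : D.idx) (j : ℕ) (hj : (N : ℤ) * j ≤ y (D.P.root a)) :
    j ≤ Module.finrank K (K ⊗[k] Da.E) := by
  classical
  have hfin := Da.fin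
  have h1 : ∀ i : Fin j, ∃ b, y (D.P.root b) = N * ((i : ℕ) + 1 : ℕ) := by
    intro i
    apply hgap a _ (by omega)
    refine le_trans ?_ hj
    have h2 : (((i : ℕ) + 1 : ℕ) : ℤ) ≤ (j : ℤ) := by exact_mod_cast i.2
    exact mul_le_mul_of_nonneg_left h2 (by positivity)
  choose b hb using h1
  have hpos : ∀ i, 0 < y (D.P.root (b i)) := by
    intro i
    rw [hb]
    positivity
  have h3 : ∀ i : Fin j, ∃ g : WithConv (H →ₐ[k] K), ∀ d : ℕ, g ∈ KSub hl d K ↔
      ∀ a, y (D.P.root a) < d → (Pi.single (b i) (1 : K) : D.idx → K) a = 0 := by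
    intro i
    apply exists_of_coord e hl hmu hp hy
    intro c hc
    rw [Pi.single_apply, if_neg]
    rintro rfl
    have := hpos i
    omega
  choose g hg using h3
  have hg1 : ∀ i, g i ∈ KSub hl 1 K := by
    intro i
    rw [hg]
    intro c hc
    rw [Pi.single_apply, if_neg]
    rintro rfl
    have := hpos i
    omega
  refine FilDim.le_finrank Da.π Da.π_π j (fun i => N * (i + 1)) ?_ (fun i => Da.t hl (hg1 i)) ?_
  · intro i i' hii
    have h4 : N * ((i : ℕ) + 1) = N * ((i' : ℕ) + 1) := hii
    have h5 := Nat.eq_of_mul_eq_mul_left (by omega) h4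
    exact Fin.ext (by omega)
  · intro i
    by_contra hcon
    push Not at hcon
    have h6 : g i ∈ KSub hl (N * (i + 1)) K := by
      rw [hg]
      intro c hc
      rw [Pi.single_apply, if_neg]
      rintro rfl
      rw [hb] at hc
      push_cast at hc
      exact lt_irrefl _ hc
    have h7 : g i ∈ KSub hl (N * (i + 1) + 1) K := by
      rw [Da.mem_iff hl (hg1 i)]
      intro m hm e
      rcases Nat.lt_succ_iff_lt_or_eq.1 hm with h8 | h8
      · exact (Da.mem_iff hl (hg1 i) _).1 h6 m h8 e
      · rw [h8]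
        exact hcon e
    have h9 := (hg i _).1 h7 (b i) (by
      rw [hb]
      push_cast
      omega)
    rw [Pi.single_eq_same] at h9
    exact one_ne_zero h9

include hl in
/-- all heights are at most the rank -/
theorem root_lt (Da : Dat (lamB mu (chartId e))) (hmu : mu ≫ p = lam) (hp : IsDynP lam p)
    (hy : bcLam lam (Spec.map (CommRingCat.ofHom (algebraMap k B))) = coch D y)
    {N : ℕ} (hN : 1 ≤ N)
    (hgap : ∀ (a : D.idx) (j : ℕ), 1 ≤ j → (N : ℤ) * j ≤ y (D.P.root a) →
      ∃ b, y (D.P.root b) = N * j) {n : ℕ} (hn : Module.finrank K (K ⊗[k] Da.E) ≤ n) (a : D.idx) :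
    y (D.P.root a) < ((N * (n + 1) : ℕ) : ℤ) := by
  by_contra hcon
  have h1 := le_finrank (K := K) e hl Da hmu hp hy hN hgap a (n + 1) (by
    push_cast at hcon ⊢
    exact not_lt.1 hcon)
  omega

end dict

section dim

variable {k : Type u} [CommRing k] {H : Type u} [CommRing H] [HopfAlgebra k H]
variable {l : H →ₐc[k] k[T;T⁻¹]} (Da : Dat l) (hl : Pos l)

/-- the dimension of the geometric fibres of a vector bundle -/
theorem dim_geomFibre_sym {E : Type u} [AddCommGroup E] [Module k E] [Module.Finite k E]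
    {X : Over (Spec (CommRingCat.of k))} (i : X ≅ SpecOver k (SymmetricAlgebra k E))
    (s : Spec (CommRingCat.of k)) :
    letI := RootBridge989.geomAlg s
    topologicalKrullDim ↥(Red.geomFibre s X).left =
      Module.finrank (AlgebraicClosure ((Spec (CommRingCat.of k)).residueField s))
        (AlgebraicClosure ((Spec (CommRingCat.of k)).residueField s) ⊗[k] E) := by
  letI := RootBridge989.geomAlg s
  let K := AlgebraicClosure ((Spec (CommRingCat.of k)).residueField s)
  have h0 : Red.geomPt s = Spec.map (CommRingCat.ofHom (algebraMap k K)) :=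
    RootBridge989.geomPt_eq s
  have h1 : (Red.geomFibre s X).left ≅ Spec (CommRingCat.of (SymmetricAlgebra k E ⊗[k] K)) := by
    refine (Over.forget _).mapIso ((Over.pullback (Red.geomPt s)).mapIso i) ≪≫ ?_
    change pullback (Spec.map (CommRingCat.ofHom (algebraMap k (SymmetricAlgebra k E))))
      (Red.geomPt s) ≅ _
    rw [h0]
    exact pullbackSpecIso k (SymmetricAlgebra k E) K
  rw [IsHomeomorph.topologicalKrullDim_eq _ (Scheme.homeoOfIso h1).isHomeomorph]
  have h2 : topologicalKrullDim ↥(Spec (CommRingCat.of (SymmetricAlgebra k E ⊗[k] K))) =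
      ringKrullDim (SymmetricAlgebra k E ⊗[k] K) := PrimeSpectrum.topologicalKrullDim_eq_ringKrullDim _
  rw [h2, ringKrullDim_eq_of_ringEquiv
    (Algebra.TensorProduct.comm k (SymmetricAlgebra k E) K).toRingEquiv]
  exact FilDim.ringKrullDim_sym

/-- the first level as a vector bundle -/
noncomputable def isoOne : V hl 1 ≅ SpecOver k (SymmetricAlgebra k Da.E) :=
  Groth.Agent.RedSub.H659.UVec.specIso
    ((Ideal.quotientEquivAlgOfEq k (JF_one hl)).trans
      (AlgEquiv.ofBijective (SymmetricAlgebra.lift Da.s) ⟨Da.inj, Da.surj⟩).symm)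

end dim

end K198.FilFib
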