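import Groth.Agent.Books.DynLim
import Mathlib.RingTheory.Polynomial.Basic
import Mathlib.Algebra.Polynomial.Div
import Mathlib.Tactic.Group

/-!
# The filtration of a group with a contracting cocharacter, on points

`H` is a Hopf algebra over `k` and `l` a cocharacter all of whose weights are nonnegative.
`lim g` is the orbit of the point `g`, as a point with values in polynomials; `KSub d` is the group
of the points whose orbit is congruent to `1` modulo `X ^ d`.
-/

set_option autoImplicit false
set_option linter.unusedSectionVars false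

open LaurentPolynomial TensorProduct WithConv
open Groth.Agent.Books.DynBasic Groth.Agent.Books.DynLim

universe u

namespace K198.FilPt

section Cong

variable {k H : Type u} [CommRing k] [CommRing H] [HopfAlgebra k H]
variable {R : Type u} [CommRing R] [Algebra k R]

/-- congruence to the identity modulo an ideal -/
def Cong (I : Ideal R) (x : WithConv (H →ₐ[k] R)) : Prop :=
  ∀ a, x.ofConv a - algebraMap k R (Coalgebra.counit (R := k) a) ∈ I

lemma mul_apply (x y : WithConv (H →ₐ[k] R)) (a : H) : (x * y).ofConv a =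
    Algebra.TensorProduct.lmul' k (TensorProduct.map x.ofConv.toLinearMap y.ofConv.toLinearMap
      (Coalgebra.comul (R := k) a)) := by
  rw [AlgHom.convMul_def]
  rfl

/-- the counit as a linear map -/
noncomputable def eL : H →ₗ[k] R := (Algebra.linearMap k R).comp (Coalgebra.counit (R := k))

/-- the convolution product of linear maps -/
noncomputable def cv (f g : H →ₗ[k] R) (a : H) : R :=
  Algebra.TensorProduct.lmul' k (TensorProduct.map f g (Coalgebra.comul (R := k) a))

lemma cv_sub_left (f f' g : H →ₗ[k] R) (a : H) : cv (f - f') g a = cv f g a - cv f' g a := by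
  have h := TensorProduct.map_add_left (f - f') f' g
  rw [sub_add_cancel] at h
  rw [cv, cv, cv, h, LinearMap.add_apply, map_add, add_sub_cancel_right]

lemma cv_sub_right (f g g' : H →ₗ[k] R) (a : H) : cv f (g - g') a = cv f g a - cv f g' a := by
  have h := TensorProduct.map_add_right f (g - g') g'
  rw [sub_add_cancel] at h
  rw [cv, cv, cv, h, LinearMap.add_apply, map_add, add_sub_cancel_right]

lemma cv_eL_left (g : H →ₗ[k] R) (a : H) : cv eL g a = g a := by
  have h1 := Coalgebra.rTensor_counit_comul (R := k) a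
  have h2 : TensorProduct.map (eL : H →ₗ[k] R) g = (TensorProduct.map (Algebra.linearMap k R) g).comp
      (LinearMap.rTensor H (Coalgebra.counit (R := k) (A := H))) := by
    rw [LinearMap.rTensor, ← TensorProduct.map_comp, LinearMap.comp_id, eL]
  rw [cv, h2, LinearMap.comp_apply, h1, TensorProduct.map_tmul]
  simp

lemma cv_eL_right (g : H →ₗ[k] R) (a : H) : cv g eL a = g a := by
  have h1 := Coalgebra.lTensor_counit_comul (R := k) a
  have h2 : TensorProduct.map g (eL : H →ₗ[k] R) = (TensorProduct.map g (Algebra.linearMap k R)).comp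
      (LinearMap.lTensor H (Coalgebra.counit (R := k) (A := H))) := by
    rw [LinearMap.lTensor, ← TensorProduct.map_comp, LinearMap.comp_id, eL]
  rw [cv, h2, LinearMap.comp_apply, h1, TensorProduct.map_tmul]
  simp

lemma cv_mem {I J : Ideal R} {f g : H →ₗ[k] R} (hf : ∀ a, f a ∈ I) (hg : ∀ a, g a ∈ J) (a : H) :
    cv f g a ∈ I * J := by
  rw [cv]
  generalize Coalgebra.comul (R := k) a = z
  induction z using TensorProduct.induction_on with
  | zero => simp
  | tmul x y =>
    rw [TensorProduct.map_tmul, Algebra.TensorProduct.lmul'_apply_tmul]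
    exact Ideal.mul_mem_mul (hf x) (hg y)
  | add x y hx hy =>
    rw [map_add, map_add]
    exact add_mem hx hy

lemma cv_eq (x y : WithConv (H →ₐ[k] R)) (a : H) :
    cv (x.ofConv.toLinearMap - eL) (y.ofConv.toLinearMap - eL) a =
      (x * y).ofConv a - x.ofConv a - y.ofConv a + algebraMap k R (Coalgebra.counit (R := k) a) := by
  rw [cv_sub_left, cv_sub_right, cv_sub_right, cv_eL_left, cv_eL_right, cv_eL_left, mul_apply]
  change cv x.ofConv.toLinearMap y.ofConv.toLinearMap a - x.ofConv a -
    (y.ofConv a - algebraMap k R (Coalgebra.counit (R := k) a)) =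
    cv x.ofConv.toLinearMap y.ofConv.toLinearMap a - x.ofConv a - y.ofConv a +
      algebraMap k R (Coalgebra.counit (R := k) a)
  ring

variable {I J : Ideal R} {x y : WithConv (H →ₐ[k] R)}

/-- additivity modulo the product of the ideals -/
lemma mul_sub_mem (hx : Cong I x) (hy : Cong J y) (a : H) :
    (x * y).ofConv a - x.ofConv a - y.ofConv a + algebraMap k R (Coalgebra.counit (R := k) a) ∈
      I * J := by
  rw [← cv_eq]
  exact cv_mem (f := x.ofConv.toLinearMap - eL) (g := y.ofConv.toLinearMap - eL)
    (fun b => hx b) (fun b => hy b) a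

lemma mul_comm_mem (hx : Cong I x) (hy : Cong J y) (a : H) :
    (x * y).ofConv a - (y * x).ofConv a ∈ I * J := by
  have h1 := mul_sub_mem hx hy a
  have h2 := mul_sub_mem hy hx a
  rw [Ideal.mul_comm J I] at h2
  have h3 := sub_mem h1 h2
  convert h3 using 1
  ring

lemma cong_iff (I : Ideal R) (x : WithConv (H →ₐ[k] R)) :
    Cong I x ↔ mapPt (Ideal.Quotient.mkₐ k I) x = 1 := by
  constructor
  · intro h
    apply WithConv.ofConv_injective
    apply AlgHom.ext
    intro a
    change Ideal.Quotient.mk I (x.ofConv a) = algebraMap k (R ⧸ I) (Coalgebra.counit (R := k) a)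
    have h1 := Ideal.Quotient.eq.2 (h a)
    rw [h1]
    rfl
  · intro h a
    have h1 := congrArg (fun z : WithConv (H →ₐ[k] R ⧸ I) => z.ofConv a) h
    change Ideal.Quotient.mk I (x.ofConv a) = algebraMap k (R ⧸ I) (Coalgebra.counit (R := k) a) at h1
    exact Ideal.Quotient.eq.1 h1

/-- **the commutator of points congruent to `1` modulo `I` and `J` is congruent to `1` modulo
`I * J`** -/
theorem cong_comm (hx : Cong I x) (hy : Cong J y) : Cong (I * J) (x * y * x⁻¹ * y⁻¹) := by
  have h1 : mapPt (Ideal.Quotient.mkₐ k (I * J)) (x * y) =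
      mapPt (Ideal.Quotient.mkₐ k (I * J)) (y * x) := by
    apply WithConv.ofConv_injective
    apply AlgHom.ext
    intro a
    exact Ideal.Quotient.eq.2 (mul_comm_mem hx hy a)
  rw [cong_iff, map_mul, map_mul, h1, map_mul, map_inv, map_inv]
  group

end Cong

section Lim

variable {k H : Type u} [CommRing k] [CommRing H] [HopfAlgebra k H] (l : H →ₐc[k] k[T;T⁻¹])

/-- all weights are nonnegative -/
def Pos : Prop := ∀ n < 0, ∀ a : H, pr l n a = 0

variable {l} (hl : Pos l)
variable {R : Type u} [CommRing R] [Algebra k R] {R' : Type u} [CommRing R'] [Algebra k R']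

include hl in
lemma exists_lim (g : WithConv (H →ₐ[k] R)) :
    ∃ h : WithConv (H →ₐ[k] Polynomial R), mapPt (tl k R) h = orbHom l g := by
  have h1 : g ∈ PSub l R := by
    rw [mem_PSub, limExists_iff]
    intro n hn a
    rw [hl n hn a, map_zero]
  exact h1

lemma mapPt_tl_injective : Function.Injective (mapPt (A := H) (tl k R)) :=
  mapPt_injective _ tl_injective

/-- the orbit of a point -/
noncomputable def lim : WithConv (H →ₐ[k] R) →* WithConv (H →ₐ[k] Polynomial R) where
  toFun g := (exists_lim hl g).choose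
  map_one' := mapPt_tl_injective (by rw [(exists_lim hl 1).choose_spec, map_one, map_one])
  map_mul' x y := mapPt_tl_injective (by
    rw [(exists_lim hl (x * y)).choose_spec, map_mul, map_mul, (exists_lim hl x).choose_spec,
      (exists_lim hl y).choose_spec])

lemma mapPt_lim (g : WithConv (H →ₐ[k] R)) : mapPt (tl k R) (lim hl g) = orbHom l g :=
  (exists_lim hl g).choose_spec

lemma coeff_lim (g : WithConv (H →ₐ[k] R)) (a : H) (n : ℕ) :
    ((lim hl g).ofConv a).coeff n = g.ofConv (pr l n a) := by
  apply coeff_limit l g.ofConv (lim hl g).ofConv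
  apply WithConv.toConv_injective
  rw [conjOrbit_eq']
  exact mapPt_lim hl g

/-- the points whose orbit is congruent to `1` modulo `X ^ d` -/
noncomputable def KSub (d : ℕ) (R : Type u) [CommRing R] [Algebra k R] :
    Subgroup (WithConv (H →ₐ[k] R)) :=
  ((mapPt (Ideal.Quotient.mkₐ k (Ideal.span {(Polynomial.X : Polynomial R) ^ d}))).comp
    (lim hl)).ker

instance (d : ℕ) : (KSub hl d R).Normal := by
  unfold KSub
  infer_instance

lemma mem_KSub (d : ℕ) (g : WithConv (H →ₐ[k] R)) : g ∈ KSub hl d R ↔
    Cong (Ideal.span {(Polynomial.X : Polynomial R) ^ d}) (lim hl g) := by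
  rw [cong_iff]
  rfl

lemma mem_KSub_iff (d : ℕ) (g : WithConv (H →ₐ[k] R)) : g ∈ KSub hl d R ↔
    ∀ m < d, ∀ a : H, g.ofConv (pr l m a) =
      if m = 0 then algebraMap k R (Coalgebra.counit (R := k) a) else 0 := by
  rw [mem_KSub]
  have h1 : ∀ (a : H) (m : ℕ), ((lim hl g).ofConv a - algebraMap k (Polynomial R)
      (Coalgebra.counit (R := k) a)).coeff m = g.ofConv (pr l m a) -
        if m = 0 then algebraMap k R (Coalgebra.counit (R := k) a) else 0 := by
    intro a m
    rw [Polynomial.coeff_sub, coeff_lim]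
    congr 1
    have h2 : algebraMap k (Polynomial R) (Coalgebra.counit (R := k) a) =
      Polynomial.C (algebraMap k R (Coalgebra.counit (R := k) a)) := rfl
    rw [h2, Polynomial.coeff_C]
  constructor
  · intro h m hm a
    have h2 := h a
    rw [Ideal.mem_span_singleton, Polynomial.X_pow_dvd_iff] at h2
    have h3 := h2 m hm
    rwa [h1, sub_eq_zero] at h3
  · intro h a
    rw [Ideal.mem_span_singleton, Polynomial.X_pow_dvd_iff]
    intro m hm
    rw [h1, h m hm a, sub_self]

lemma KSub_anti {d d' : ℕ} (h : d ≤ d') : KSub hl d' R ≤ KSub hl d R := by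
  intro g hg
  rw [mem_KSub_iff] at hg ⊢
  exact fun m hm => hg m (by omega)

/-- **commutators raise the level** -/
theorem comm_mem {d e : ℕ} {x y : WithConv (H →ₐ[k] R)} (hx : x ∈ KSub hl d R)
    (hy : y ∈ KSub hl e R) : x * y * x⁻¹ * y⁻¹ ∈ KSub hl (d + e) R := by
  rw [mem_KSub] at hx hy ⊢
  have h1 := cong_comm hx hy
  rw [Ideal.span_singleton_mul_span_singleton, ← pow_add] at h1
  rw [map_mul, map_mul, map_mul, map_inv, map_inv]
  exact h1

/-- **additivity of the components of low degree** -/
theorem mul_pr {d m : ℕ} {x y : WithConv (H →ₐ[k] R)} (hx : x ∈ KSub hl d R)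
    (hy : y ∈ KSub hl d R) (hm : m < 2 * d) (hm0 : m ≠ 0) (a : H) :
    (x * y).ofConv (pr l m a) = x.ofConv (pr l m a) + y.ofConv (pr l m a) := by
  rw [mem_KSub] at hx hy
  have h1 := mul_sub_mem hx hy a
  rw [Ideal.span_singleton_mul_span_singleton, ← pow_add, Ideal.mem_span_singleton,
    Polynomial.X_pow_dvd_iff] at h1
  have h2 := h1 m (by omega)
  have h3 : algebraMap k (Polynomial R) (Coalgebra.counit (R := k) a) =
      Polynomial.C (algebraMap k R (Coalgebra.counit (R := k) a)) := rfl
  rw [← map_mul, h3, Polynomial.coeff_add, Polynomial.coeff_sub, Polynomial.coeff_sub, coeff_lim,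
    coeff_lim, coeff_lim, Polynomial.coeff_C, if_neg hm0, add_zero, sub_sub, sub_eq_zero] at h2
  exact h2

lemma mem_KSub_mapPt (φ : R →ₐ[k] R') (d : ℕ) {g : WithConv (H →ₐ[k] R)} (hg : g ∈ KSub hl d R) :
    mapPt φ g ∈ KSub hl d R' := by
  rw [mem_KSub_iff] at hg ⊢
  intro m hm a
  change φ (g.ofConv (pr l m a)) = _
  rw [hg m hm a]
  split_ifs
  · exact φ.commutes _
  · exact map_zero φ

lemma mem_KSub_of_mapPt (φ : R →ₐ[k] R') (hφ : Function.Injective φ) (d : ℕ)
    {g : WithConv (H →ₐ[k] R)} (hg : mapPt φ g ∈ KSub hl d R') : g ∈ KSub hl d R := by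
  rw [mem_KSub_iff] at hg ⊢
  intro m hm a
  apply hφ
  have h1 := hg m hm a
  change φ (g.ofConv (pr l m a)) = _ at h1
  rw [h1]
  split_ifs
  · exact (φ.commutes _).symm
  · exact (map_zero φ).symm

lemma mem_KSub_one_iff (g : WithConv (H →ₐ[k] R)) :
    g ∈ KSub hl 1 R ↔ Dyn.LimIsOne k H l R g.ofConv := by
  rw [mem_KSub_iff, limIsOne_iff]
  constructor
  · intro h
    refine ⟨fun n hn a => by rw [hl n hn a, map_zero], fun a => ?_⟩
    have := h 0 (by omega) a
    rwa [if_pos rfl] at this
  · rintro ⟨-, h⟩ m hm a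
    obtain rfl : m = 0 := by omega
    rw [if_pos rfl]
    exact h a

end Lim

section Ideal

variable {k H : Type u} [CommRing k] [CommRing H] [HopfAlgebra k H] {l : H →ₐc[k] k[T;T⁻¹]}
variable (hl : Pos l) {R : Type u} [CommRing R] [Algebra k R]

variable (l) in
/-- the ideal of the level `d` -/
noncomputable def JF (d : ℕ) : Ideal H :=
  Ideal.span {b | ∃ (a : H) (m : ℕ), m < d ∧
    b = pr l m a - if m = 0 then algebraMap k H (Coalgebra.counit (R := k) a) else 0}

lemma vanish_JF_iff (d : ℕ) (g : WithConv (H →ₐ[k] R)) :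
    (∀ a ∈ JF l d, g.ofConv a = 0) ↔ g ∈ KSub hl d R := by
  rw [mem_KSub_iff]
  have h0 : ∀ (m : ℕ) (a : H), g.ofConv (pr l m a -
      if m = 0 then algebraMap k H (Coalgebra.counit (R := k) a) else 0) =
      g.ofConv (pr l m a) - if m = 0 then algebraMap k R (Coalgebra.counit (R := k) a) else 0 := by
    intro m a
    rw [map_sub]
    split_ifs
    · rw [AlgHom.commutes]
    · rw [map_zero]
  constructor
  · intro h m hm a
    have h1 := h _ (Ideal.subset_span ⟨a, m, hm, rfl⟩)
    rwa [h0, sub_eq_zero] at h1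
  · intro h a ha
    have h1 : JF l d ≤ RingHom.ker g.ofConv := by
      refine Ideal.span_le.2 ?_
      rintro _ ⟨a, m, hm, rfl⟩
      change g.ofConv _ = 0
      rw [h0, h m hm a, sub_self]
    exact h1 ha

include hl in
lemma isHopfIdeal_JF (d : ℕ) : (JF l d).IsHopfIdeal k := by
  apply isHopfIdeal_of_points
  · have := (vanish_JF_iff hl d (R := k) (1 : WithConv (H →ₐ[k] k))).2 (one_mem _)
    intro a ha
    exact this a ha
  · intro R _ _ g h hg hh
    rw [vanish_JF_iff hl] at hg hh ⊢
    exact mul_mem hg hh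
  · intro R _ _ g hg
    rw [vanish_JF_iff hl] at hg ⊢
    exact inv_mem hg

include hl in
lemma JF_one : JF l 1 = JU l := by
  apply represents_unique (P := fun R _ _ g => Dyn.LimIsOne k H l R g)
  · intro R _ _ g
    exact (vanish_JF_iff hl 1 (toConv g)).trans (mem_KSub_one_iff hl (toConv g))
  · exact represents_JU l

end Ideal

end K198.FilPt
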