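import Groth.Agent.Sga3B.Par.CanSigns
import Groth.Agent.Sga3B.Parab.DynBc998
import Groth.Agent.Sga3B.Parab.DynClosed998
import Groth.Agent.Sga3B.Par.CanFin
import Groth.Agent.RedSub.K198.FilPt

/-!
# Points whose orbit is congruent to `1` modulo `T ^ d`
-/

set_option autoImplicit false
set_option linter.unusedSectionVars false

universe u

open CategoryTheory MonoidalCategory CartesianMonoidalCategory MonObj GrpObj AlgebraicGeometry Limits
open scoped LaurentPolynomial Polynomial TensorProduct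
open WithConv
open Groth.Agent.Books.AffBridge Groth.Agent.Books.DynBasic Groth.Agent.Books.DynLim
open Groth.Agent.Sga3B Groth.Agent.Sga3B.Par Groth.Agent.Sga3B.Cell
open Groth.Agent.Sga3B.Parab Groth.Agent.Sga3B.Parab.Chart998 Groth.Agent.Sga3B.Parab.AffPts998
open Groth.Agent.Sga3B.Parab.Dyn998 Groth.Agent.Sga3B.Parab.DynBc998
open Groth.Agent.Sga3B.Parab.DynClosed998 Groth.Agent.Sga3B.Parab.DynExist998

namespace K198.FilLev

variable {S S' : Scheme.{u}}

section Def

variable {G : Over S} [GrpObj G] (lam : Red.Gm S ⟶ G)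
variable {C : Type u} [CommRing C] {c : Spec (CommRingCat.of C) ⟶ S}

variable (C) in
/-- the truncation -/
noncomputable def tru (c : Spec (CommRingCat.of C) ⟶ S) (d : ℕ) :
    aff (TQ C d) (Spec.map (CommRingCat.ofHom (algebraMap C (TQ C d))) ≫ c) ⟶ lin C c :=
  Over.homMk (Spec.map (CommRingCat.ofHom (tmk C C d).toRingHom)) (by
    change Spec.map _ ≫ Spec.map _ ≫ c = Spec.map _ ≫ c
    rw [← Category.assoc, ← Spec.map_comp, ← CommRingCat.ofHom_comp]
    congr 3)

/-- the orbit is congruent to `1` modulo `T ^ d` -/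
def LimLev (d : ℕ) (g : aff C c ⟶ G) : Prop :=
  ∃ h : lin C c ⟶ G, toLin C c ≫ h = orb lam g ∧ tru C c d ≫ h = 1

variable {lam}

lemma LimLev.limEx {d : ℕ} {g : aff C c ⟶ G} (h : LimLev lam d g) : LimEx lam g := by
  obtain ⟨k, hk, -⟩ := h
  exact ⟨k, hk⟩

end Def

section Map

variable {H G : Over S} [GrpObj H] [GrpObj G] {i : H ⟶ G} [IsMonHom i] {mu : Red.Gm S ⟶ H}
variable {C : Type u} [CommRing C] {c : Spec (CommRingCat.of C) ⟶ S}

lemma limLev_comp_iff [IsClosedImmersion i.left] (d : ℕ) (g : aff C c ⟶ H) :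
    LimLev (mu ≫ i) d (g ≫ i) ↔ LimLev mu d g := by
  have := mono_of_isClosedImmersion i
  constructor
  · rintro ⟨l, hl, h0⟩
    rw [orb_comp] at hl
    obtain ⟨l, rfl⟩ := exists_lift_of_toLin i l _ hl
    refine ⟨l, by rw [← cancel_mono i, Category.assoc, hl], ?_⟩
    rw [← cancel_mono i, Category.assoc, h0, MonObj.one_comp]
  · rintro ⟨l, hl, h0⟩
    exact ⟨l ≫ i, by rw [← Category.assoc, hl, orb_comp], by
      rw [← Category.assoc, h0, MonObj.one_comp]⟩

end Map

section Pt

variable {G : Over S} [GrpObj G]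
variable {R : Type u} [CommRing R] {r : Spec (CommRingCat.of R) ⟶ S}
variable {A : Type u} [CommRing A] [HopfAlgebra R A]
variable {C : Type u} [CommRing C] [Algebra R C] {c : Spec (CommRingCat.of C) ⟶ S}
variable (lam : Red.Gm S ⟶ G) [IsMonHom lam] (e : Red.bc r G ≅ SpecOver R A) [IsMonHom e.hom]
variable (hc : Spec.map (CommRingCat.ofHom (algebraMap R C)) ≫ r = c)

include hc in
lemma hcT (d : ℕ) : Spec.map (CommRingCat.ofHom (algebraMap R (TQ C d))) ≫ r =
    Spec.map (CommRingCat.ofHom (algebraMap C (TQ C d))) ≫ c := by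
  rw [← hc, ← Category.assoc, ← Spec.map_comp, ← CommRingCat.ofHom_comp]

lemma tru_pt (d : ℕ) (g : A →ₐ[R] C[X]) :
    tru C c d ≫ pt e (hcP hc) g = pt e (hcT hc d) ((tmk R C d).comp g) :=
  comp_pt e (hcP hc) (hcT hc d) (tmk R C d) (tru C c d) rfl g

/-- **the level in terms of the Hopf algebra** -/
theorem limLev_pt [IsAffineHom G.hom] (hl : FilPt.Pos (lamB lam e)) (d : ℕ) (g : WithConv (A →ₐ[R] C)) :
    LimLev lam d (pt e hc g.ofConv) ↔ g ∈ FilPt.KSub hl d C := by
  have key : ∀ h : WithConv (A →ₐ[R] C[X]), tru C c d ≫ pt e (hcP hc) h.ofConv = 1 ↔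
      mapPt (Ideal.Quotient.mkₐ R (Ideal.span {(Polynomial.X : C[X]) ^ d})) h = 1 := by
    intro h
    rw [tru_pt e hc, ← pt_one e (hcT hc d)]
    constructor
    · intro h1
      apply WithConv.ofConv_injective
      exact (pt_bijective e (hcT hc d)).1 h1
    · intro h1
      exact congrArg (fun z : WithConv (A →ₐ[R] TQ C d) => pt e (hcT hc d) z.ofConv) h1
  have hlim : toLin C c ≫ pt e (hcP hc) (FilPt.lim hl g).ofConv = orb lam (pt e hc g.ofConv) := by
    rw [toLin_pt e hc, orb_pt lam e hc]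
    congr 1
    have h1 := FilPt.mapPt_lim hl g
    have h2 := conjOrbit_eq' (lamB lam e) g
    rw [← h1] at h2
    exact (congrArg WithConv.ofConv h2).symm
  constructor
  · rintro ⟨h, hh, h0⟩
    obtain ⟨h, rfl⟩ := (pt_bijective e (hcP hc)).2 h
    have h3 : toLin C c ≫ pt e (hcP hc) h =
        toLin C c ≫ pt e (hcP hc) (FilPt.lim hl g).ofConv := by rw [hlim, hh]
    have h4 := (pt_bijective e (hcP hc)).1 (eq_of_toLin h3)
    subst h4
    have h5 := (key (FilPt.lim hl g)).1 h0
    exact h5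
  · intro hg
    exact ⟨pt e (hcP hc) (FilPt.lim hl g).ofConv, hlim, (key _).2 hg⟩

end Pt

section Bc

variable (f : S' ⟶ S) {G : Over S} [GrpObj G]
variable {C : Type u} [CommRing C] {c : Spec (CommRingCat.of C) ⟶ S'}

/-- comparison for truncations -/
noncomputable def truI (f : S' ⟶ S) (c : Spec (CommRingCat.of C) ⟶ S') (d : ℕ) :
    aff (TQ C d) (Spec.map (CommRingCat.ofHom (algebraMap C (TQ C d))) ≫ c ≫ f) ≅
      (Over.map f).obj (aff (TQ C d) (Spec.map (CommRingCat.ofHom (algebraMap C (TQ C d))) ≫ c)) :=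
  Over.isoMk (Iso.refl _) (by
    change 𝟙 _ ≫ (_ ≫ c) ≫ f = _ ≫ c ≫ f
    rw [Category.id_comp, Category.assoc])

lemma dn_tru (d : ℕ) (g : lin C c ⟶ Red.bc f G) :
    dnI f (truI f c d) (tru C c d ≫ g) = tru C (c ≫ f) d ≫ dnI f (linI f c) g :=
  dnI_comp f _ _ _ _ ((Category.id_comp _).trans (Category.comp_id _).symm) g

theorem limLev_bc_iff (lam : Red.Gm S ⟶ G) (d : ℕ) (g : aff C c ⟶ Red.bc f G) :
    LimLev (bcLam lam f) d g ↔ LimLev lam d (dnI f (affI f c) g) := by
  constructor
  · rintro ⟨h, hh, h0⟩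
    exact ⟨dnI f (linI f c) h, by rw [← dn_toLin, hh, dn_orb], by rw [← dn_tru, h0, map_one]⟩
  · rintro ⟨h, hh, h0⟩
    obtain ⟨h, rfl⟩ := (dnI f (linI f c) (G := G)).surjective h
    refine ⟨h, (dnI f (gmoI f c) (G := G)).injective ?_,
      (dnI f (truI f c d) (G := G)).injective ?_⟩
    · rw [dn_toLin, hh, dn_orb]
    · rw [dn_tru, h0, map_one]

end Bc

section Split

open Cell Cell.Datum PinMod DSPts GaPts Parab.Dyn998 OrbEqui829 Signs

variable {G : Over S} [GrpObj G] {D : Red.SplitRed G}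
variable {C : Type u} [CommRing C] {c : Spec (CommRingCat.of C) ⟶ S}

/-- `Spec` of the truncation over `S` in its two guises -/
noncomputable def kapT (c : Spec (CommRingCat.of C) ⟶ S) (d : ℕ) : tB c (TQ C d) ≅
    aff (TQ C d) (Spec.map (CommRingCat.ofHom (algebraMap C (TQ C d))) ≫ c) := Iso.refl _

lemma kapT_tru (d : ℕ) : (kapT c d).hom ≫ tru C c d = tMap c (tmk C C d) := by
  ext1
  change 𝟙 _ ≫ Spec.map _ = Spec.map _
  rw [Category.id_comp]
  rfl

theorem limLev_iff (ch : Chart G c) (x : Module.Dual ℤ D.M) (d : ℕ) (g : aff C c ⟶ G) :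
    LimLev (coch D x) d g ↔
    ∃ q : Pt C ch.A C[X], Pt.map (lau C C) q =
      (ch.datum D).i C[T;T⁻¹] ((ch.datum D).cochar (ca ch D x)) * Pt.map (lC C C) (co ch g) *
        ((ch.datum D).i C[T;T⁻¹] ((ch.datum D).cochar (ca ch D x)))⁻¹ ∧
        Pt.map (tmk C C d) q = 1 := by
  rw [LimLev]
  have key : ∀ q : Pt C ch.A C[X], tru C c d ≫ ch.pts _ q = 1 ↔ Pt.map (tmk C C d) q = 1 := by
    intro q
    rw [← (ch.pts (TQ C d)).injective.eq_iff, map_one, ← ch.pts_nat, ← kapT_tru, Category.assoc,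
      ← cancel_epi (kapT c d).hom, MonObj.comp_one]
  constructor
  · rintro ⟨h, h1, h2⟩
    refine ⟨(ch.pts C[X]).symm h, ?_, ?_⟩
    · apply (ch.pts C[T;T⁻¹]).injective
      rw [← Signs.orb_eq, ← ch.pts_nat, MulEquiv.apply_symm_apply, ← toLin_eq, h1]
    · rw [← key, MulEquiv.apply_symm_apply]
      exact h2
  · rintro ⟨q, hq, h0⟩
    refine ⟨ch.pts _ q, ?_, (key q).2 h0⟩
    rw [Signs.orb_eq ch, ← hq, ← ch.pts_nat, ← toLin_eq]

/-- the point with the given coordinates -/
theorem cell_lev (ch : Chart G c) (y : Module.Dual ℤ D.M) (g : aff C c ⟶ G) (w : D.idx → C)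
    (hw : ∀ a, y (D.P.root a) ≤ 0 → w a = 0)
    (hg : co ch g = (ch.datum D).cell Finset.univ.toList w 1) (d : ℕ) :
    LimLev (coch D y) d g ↔ ∀ a, y (D.P.root a) < d → w a = 0 := by
  obtain ⟨δ, hδ, hδ0⟩ := chart_good ch D Finset.univ.toList (Finset.nodup_toList _)
    (fun a => by simp)
  have h1 := lau_cell (D := ch.datum D) (L := Finset.univ.toList) (k := fun a => y (D.P.root a))
    (θ := (ch.datum D).cochar (ca ch D y)) (fun a => rfl) (y := w) (fun a ha => hw a ha.le) 1
  rw [map_one] at h1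
  have h2 : ∀ a, tmk C C d (Polynomial.C (w a) * Polynomial.X ^ (y (D.P.root a)).toNat) = 0 ↔
      (y (D.P.root a) < d → w a = 0) := by
    intro a
    rw [← map_zero (tmk C C d), tmk_eq_iff]
    constructor
    · intro h hd
      by_cases h0 : y (D.P.root a) ≤ 0
      · exact hw a h0
      · have h3 := h (y (D.P.root a)).toNat (by omega)
        rw [Polynomial.coeff_C_mul_X_pow, if_pos rfl, Polynomial.coeff_zero] at h3
        exact h3
    · intro h m hm
      rw [Polynomial.coeff_C_mul_X_pow, Polynomial.coeff_zero]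
      split_ifs with hmm
      · by_cases h0 : y (D.P.root a) ≤ 0
        · exact hw a h0
        · exact h (by omega)
      · rfl
  have h3 : ∀ q : Pt C ch.A C[X], q = (ch.datum D).cell Finset.univ.toList
        (fun a => Polynomial.C (w a) * Polynomial.X ^ (y (D.P.root a)).toNat) 1 →
      (Pt.map (tmk C C d) q = 1 ↔ ∀ a, y (D.P.root a) < d → w a = 0) := by
    rintro q rfl
    rw [cell_nat, map_one]
    constructor
    · intro h a
      rw [← h2 a]
      have h4 : (ch.datum D).cell Finset.univ.toList (fun a => tmk C C d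
          (Polynomial.C (w a) * Polynomial.X ^ (y (D.P.root a)).toNat)) 1 =
          (ch.datum D).cell Finset.univ.toList (fun _ => 0) 1 := by
        rw [h, (ch.datum D).cell_zero, map_one]
      have h5 := cell_inj (D := ch.datum D) hδ hδ0 (k := fun a => y (D.P.root a))
        (θ := (ch.datum D).cochar (ca ch D y)) (fun a => rfl) ?_ (fun _ _ => rfl) h4
      · exact congrFun h5.1 a
      · intro b hb
        change tmk C C d (Polynomial.C (w b) * _) = 0
        rw [hw b hb]
        simp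
    · intro h
      have h6 : (fun a => tmk C C d (Polynomial.C (w a) *
          Polynomial.X ^ (y (D.P.root a)).toNat)) = fun _ => 0 := by
        funext a
        exact (h2 a).2 (h a)
      have h7 : (ch.datum D).cell Finset.univ.toList (fun a => tmk C C d (Polynomial.C (w a) *
          Polynomial.X ^ (y (D.P.root a)).toNat)) 1 = 1 := by
        refine (congrArg (fun z : (ch.datum D).idx → TQ C d =>
          (ch.datum D).cell Finset.univ.toList z 1) h6).trans ?_
        exact ((ch.datum D).cell_zero _ 1).trans (map_one _)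
      exact h7
  rw [limLev_iff ch]
  constructor
  · rintro ⟨q, hq, hq0⟩
    rw [hg] at hq
    refine (h3 q ?_).1 hq0
    apply Pt.map_injective (lau_injective (R := C) (B := C))
    rw [hq]
    exact h1.symm
  · intro h
    exact ⟨_, by rw [hg]; exact h1, (h3 _ rfl).2 h⟩

end Split

end K198.FilLev
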