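import Groth.Agent.RedSub.K198.FilSch
import Groth.Agent.Sga3B.Parab.DynLevi998

/-!
# The quotients of the filtration are vector groups
-/

set_option autoImplicit false
set_option linter.unusedSectionVars false

universe u

open CategoryTheory MonoidalCategory CartesianMonoidalCategory MonObj GrpObj AlgebraicGeometry Limits
open LaurentPolynomial TensorProduct WithConv
open Groth.Agent.Books.AffBridge Groth.Agent.Books.DynBasic Groth.Agent.Books.DynLim
open Groth.Agent.Sga3B.Parab Groth.Agent.Sga3B.Parab.AffPts998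

namespace K198.FilQuo

open FilPt FilDat FilSym FilSch

section Sym

variable {k M C : Type u} [CommRing k] [AddCommGroup M] [Module k M] [CommRing C] [Algebra k C]

lemma sym_mul (f g : WithConv (SymmetricAlgebra k M →ₐ[k] C)) (x : M) :
    (f * g).ofConv (SymmetricAlgebra.ι k M x) =
      f.ofConv (SymmetricAlgebra.ι k M x) + g.ofConv (SymmetricAlgebra.ι k M x) := by
  rw [mul_apply, SymmetricAlgebra.comul_ι, map_add, TensorProduct.map_tmul,
    TensorProduct.map_tmul, map_add, Algebra.TensorProduct.lmul'_apply_tmul,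
    Algebra.TensorProduct.lmul'_apply_tmul]
  simp

lemma sym_one (x : M) :
    (1 : WithConv (SymmetricAlgebra k M →ₐ[k] C)).ofConv (SymmetricAlgebra.ι k M x) = 0 := by
  change algebraMap k C (Coalgebra.counit (R := k) (SymmetricAlgebra.ι k M x)) = 0
  rw [SymmetricAlgebra.counit_ι, map_zero]

end Sym

section

variable {k : Type u} [CommRing k] {P : Over (Spec (CommRingCat.of k))} [GrpObj P]
variable {H : Type u} [CommRing H] [HopfAlgebra k H] (e : P ≅ SpecOver k H) [IsMonHom e.hom]
variable {l : H →ₐc[k] k[T;T⁻¹]} (D : Dat l) (hl : Pos l) {d : ℕ} (hd : 1 ≤ d) (d' : ℕ)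

/-- homomorphisms from points -/
lemma isMonHom_of_pts {C : Type*} [Category C] [CartesianMonoidalCategory C] {G K : C} [MonObj G]
    [MonObj K] (f : G ⟶ K) (h1 : (1 : 𝟙_ C ⟶ G) ≫ f = 1)
    (h : ∀ (X : C) (x y : X ⟶ G), (x * y) ≫ f = (x ≫ f) * (y ≫ f)) : IsMonHom f where
  one_hom := by
    rw [one_eq_one, one_eq_one]
    exact h1
  mul_hom := by
    have h2 := h _ (fst G G) (snd G G)
    have e1 : fst G G * snd G G = μ[G] := by
      rw [MonObj.mul_eq_mul]
    have e2 : (fst G G ≫ f) * (snd G G ≫ f) = (f ⊗ₘ f) ≫ μ[K] := by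
      rw [MonObj.mul_eq_mul, MonObj.comp_mul, tensorHom_fst, tensorHom_snd]
    rw [← e1, h2, e2]

/-- the projection to the vector group -/
noncomputable def q : V hl d ⟶ SpecOver k (SymmetricAlgebra k (Pm D d d')) :=
  specMap k (pS D hl hd d')

section pt

variable {C : Type u} [CommRing C] [Algebra k C]

lemma pV_q (f : H ⧸ JF l d →ₐ[k] C) :
    pV hl f ≫ q D hl hd d' = specMap k (f.comp (pS D hl hd d')) := (specMap_comp k _ _).symm

/-- restriction of points to a higher level -/
lemma ptJ_factor {d₁ d₂ : ℕ} (h : d₁ ≤ d₂) (f : H ⧸ JF l d₂ →ₐ[k] C) :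
    ptJ (f.comp (Ideal.Quotient.factorₐ k (JF_mono l h))) = ptJ f := by
  apply WithConv.ofConv_injective
  apply AlgHom.ext
  intro a
  rw [ptJ_apply, ptJ_apply, AlgHom.comp_apply]
  rfl

include e in
/-- products of points of a level -/
lemma pV_mul (f f' : H ⧸ JF l d →ₐ[k] C) : ∃ f'' : H ⧸ JF l d →ₐ[k] C,
    pV hl f'' = pV hl f * pV hl f' ∧ ptJ f'' = ptJ f * ptJ f' := by
  obtain ⟨f'', h⟩ := exists_pV hl (pV hl f * pV hl f')
  refine ⟨f'', h, ?_⟩
  apply pP_injective e
  rw [← pV_v e hl, h, MonObj.mul_comp, pV_v, pV_v, pP_mul]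

end pt

variable {d'}

include e in
theorem isMonHom_q (hdd' : d' ≤ 2 * d) : IsMonHom (q D hl hd d') := by
  apply isMonHom_of_pts
  · apply hom_ext_spec
    intro C _ _ t
    obtain ⟨f, hf⟩ := exists_pV hl (1 : SpecOver k C ⟶ V hl d)
    have h1 : ptJ f = 1 := by
      apply pP_injective e
      rw [← pV_v e hl, hf, MonObj.one_comp, pP_one]
    rw [← Category.assoc, MonObj.comp_one, MonObj.comp_one, ← hf, pV_q, ← specMap_one]
    congr 1
    ext x
    have h2 := ptJ_mem hl f
    rw [h1] at h2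
    change f (pS D hl hd d' (SymmetricAlgebra.ι k _ x)) = _
    rw [(mem_iff_pS D hl hd (d' := d') f).1 (by rw [h1]; exact one_mem _) x]
    exact (sym_one x).symm
  intro X x y
  apply hom_ext_spec
  intro C _ _ t
  obtain ⟨f, hf⟩ := exists_pV hl (t ≫ x)
  obtain ⟨f', hf'⟩ := exists_pV hl (t ≫ y)
  obtain ⟨f'', h1, h2⟩ := pV_mul e hl f f'
  rw [← Category.assoc, MonObj.comp_mul, MonObj.comp_mul, ← Category.assoc, ← Category.assoc, ← hf,
    ← hf', ← h1, pV_q, pV_q, pV_q]
  have h3 : f''.comp (pS D hl hd d') =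
      (toConv (f.comp (pS D hl hd d')) * toConv (f'.comp (pS D hl hd d'))).ofConv := by
    ext x
    change f'' (pS D hl hd d' (SymmetricAlgebra.ι k _ x)) =
      (toConv (f.comp (pS D hl hd d')) * toConv (f'.comp (pS D hl hd d'))).ofConv
        (SymmetricAlgebra.ι k _ x)
    rw [sym_mul]
    exact pS_mul D hl hd hdd' h2 x
  rw [h3, specMap_mul]

/-- points killed by the projection -/
theorem exists_of_q (h : d ≤ d') {X : Over (Spec (CommRingCat.of k))} (x : X ⟶ V hl d)
    (hx : x ≫ q D hl hd d' = 1) : ∃ y : X ⟶ V hl d', y ≫ w hl h = x := by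
  have hm : Mono (w hl h) := by
    have h0 : IsClosedImmersion (specMap k (Ideal.Quotient.factorₐ k (JF_mono l h))).left :=
      IsClosedImmersion.spec_of_surjective _ (Ideal.Quotient.factor_surjective (JF_mono l h))
    exact Over.mono_of_mono_left (specMap k (Ideal.Quotient.factorₐ k (JF_mono l h)))
  apply exists_lift_spec
  intro C _ _ t
  obtain ⟨f, hf⟩ := exists_pV hl (t ≫ x)
  have h1 : specMap k (f.comp (pS D hl hd d')) =
      specMap k (1 : WithConv (SymmetricAlgebra k (Pm D d d') →ₐ[k] C)).ofConv := by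
    rw [← pV_q, hf, Category.assoc, hx, MonObj.comp_one, specMap_one]
  have h2 := specMap_injective k h1
  have h3 : ptJ f ∈ KSub hl d' C := by
    rw [mem_iff_pS D hl hd]
    intro e
    have h4 := DFunLike.congr_fun h2 (SymmetricAlgebra.ι k _ e)
    rw [sym_one] at h4
    exact h4
  obtain ⟨f', hf'⟩ := exists_ptJ hl h3
  refine ⟨pV hl f', ?_⟩
  rw [← hf]
  have h5 : f = f'.comp (Ideal.Quotient.factorₐ k (JF_mono l h)) := by
    apply ptJ_injective
    rw [ptJ_factor h, hf']
  rw [h5]
  exact (specMap_comp k _ _).symm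

theorem w_q (h : d ≤ d') : w hl h ≫ q D hl hd d' = 1 := by
  apply hom_ext_spec
  intro C _ _ t
  obtain ⟨f, rfl⟩ := exists_pV hl t
  rw [MonObj.comp_one, ← specMap_one]
  have h1 : pV hl f ≫ w hl h = pV hl (f.comp (Ideal.Quotient.factorₐ k (JF_mono l h))) :=
    (specMap_comp k _ _).symm
  rw [← Category.assoc, h1, pV_q]
  congr 1
  ext x
  change (f.comp (Ideal.Quotient.factorₐ k (JF_mono l h))) (pS D hl hd d'
    (SymmetricAlgebra.ι k _ x)) = _
  rw [AlgHom.comp_apply]
  have h2 : ptJ (f.comp (Ideal.Quotient.factorₐ k (JF_mono l h))) ∈ KSub hl d' C := by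
    rw [ptJ_factor h]
    exact ptJ_mem hl f
  rw [mem_iff_pS D hl hd] at h2
  exact (h2 x).trans (sym_one x).symm

theorem isMonHom_w (e : P ≅ SpecOver k H) [IsMonHom e.hom] (h : d ≤ d') : IsMonHom (w hl h) := by
  have h1 : IsMonHom (w hl h ≫ v e hl d) := by
    rw [w_v]
    infer_instance
  exact Groth.Agent.Sga3B.Parab.DynLevi998.isMonHom_of_comp_mono (p := v e hl d)

theorem isCov_q : K197.Fppf.IsCov (q D hl hd d') := by
  have h1 : (pS D hl hd d').toRingHom.Smooth := FilSm.smooth_pS D hl hd d'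
  have h2 : Smooth (q D hl hd d').left :=
    (HasRingHomProperty.Spec_iff (P := @Smooth) (φ := CommRingCat.ofHom (pS D hl hd d').toRingHom)).2
      h1
  have h3 : Surjective (q D hl hd d').left := by
    obtain ⟨r, hr⟩ := exists_retr D hl hd d'
    constructor
    intro x
    have h4 : specMap k r ≫ q D hl hd d' = 𝟙 _ := by
      have h5 := specMap_comp k (pS D hl hd d') r
      rw [hr, specMap_id] at h5
      exact h5.symm
    refine ⟨(specMap k r).left x, ?_⟩
    have h5 := congrArg (fun z => z.left x) h4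
    exact h5
  exact ⟨h3, inferInstance, inferInstance⟩

/-- **the quotient of the level `d` by the level `d'` is a vector group** -/
theorem isQuotient (e : P ≅ SpecOver k H) [IsMonHom e.hom] (h : d ≤ d') (hdd' : d' ≤ 2 * d) :
    RedSub.IsQuotient (w hl h) (q D hl hd d') := by
  have hm : Mono (w hl h) := by
    have h1 : Mono (w hl h ≫ v e hl d) := by
      rw [w_v]
      infer_instance
    exact mono_of_mono (w hl h) (v e hl d)
  have hq := isMonHom_q e D hl hd hdd'
  apply K197.QuotPts.isQuotient_of_pts (isCov_q D hl hd)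
  · intro T g y
    rw [MonObj.mul_comp, Category.assoc, w_q, MonObj.comp_one, _root_.mul_one]
  · intro T g g' hgg
    obtain ⟨y, hy⟩ := exists_of_q D hl hd h (g⁻¹ * g') (by
      rw [MonObj.mul_comp, ← hgg, ← MonObj.mul_comp, inv_mul_cancel, MonObj.one_comp])
    exact ⟨y, by rw [hy, mul_inv_cancel_left]⟩

end

end K198.FilQuo
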