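import Groth.Agent.RedSub.K198.FilDesc
import Groth.Agent.RedSub.K198.FilQuo
import Groth.Agent.RedSub.H658.RadDyn
import Groth.Agent.RedSub.K195.PartBorel
import Groth.Agent.Sga3B.Par.DynCov383
import Mathlib.RingTheory.Unramified.LocalStructure

/-!
# The filtration of the unipotent radical of a parabolic subgroup
-/

set_option autoImplicit false
set_option linter.unusedSectionVars false

universe u

open CategoryTheory MonoidalCategory CartesianMonoidalCategory MonObj GrpObj AlgebraicGeometry Limits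
open scoped LaurentPolynomial Polynomial TensorProduct
open WithConv
open Groth.Agent.Books.AffBridge Groth.Agent.Books.DynBasic Groth.Agent.Books.DynLim
open Groth.Agent.Sga3B Groth.Agent.Sga3B.Par
open Groth.Agent.Sga3B.Parab Groth.Agent.Sga3B.Parab.Chart998 Groth.Agent.Sga3B.Parab.AffPts998
open Groth.Agent.Sga3B.Parab.Dyn998 Groth.Agent.Sga3B.Parab.DynBc998
open Groth.Agent.Sga3B.Parab.DynClosed998 Groth.Agent.Sga3B.Parab.DynExist998

namespace K198.FilMain

open FilPt FilLev FilRoot FilDat FilSym FilSch FilFib FilDesc FilQuo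

section

variable {k : Type u} [CommRing k] {G P : Over (Spec (CommRingCat.of k))} [GrpObj G] [GrpObj P]

/-- local data for the height cocharacter -/
def Loc (lam : Red.Gm (Spec (CommRingCat.of k)) ⟶ G) (N : ℕ) (B : Type u) [CommRing B]
    [Algebra k B] : Prop :=
  ∃ (D : Red.SplitRed (Red.bc (Spec.map (CommRingCat.ofHom (algebraMap k B))) G))
    (y : Module.Dual ℤ D.M),
    bcLam lam (Spec.map (CommRingCat.ofHom (algebraMap k B))) = coch D y ∧
    (∀ a, (N : ℤ) ∣ y (D.P.root a)) ∧
    ∀ (a : D.idx) (j : ℕ), 1 ≤ j → (N : ℤ) * j ≤ y (D.P.root a) → ∃ b, y (D.P.root b) = N * j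

/-- the height cocharacter -/
def Ht (p : P ⟶ G) : Prop :=
  ∃ (N : ℕ) (lam : Red.Gm (Spec (CommRingCat.of k)) ⟶ G), 1 ≤ N ∧ IsMonHom lam ∧ IsDynP lam p ∧
    ∀ s : Spec (CommRingCat.of k), ∃ (B : Type u) (_ : CommRing B) (_ : Algebra k B),
      Algebra.Etale k B ∧ s ∈ Set.range (Spec.map (CommRingCat.ofHom (algebraMap k B))) ∧
      Loc lam N B

/-- lifting of the geometric points along étale algebras -/
lemma exists_lift_geom (s : Spec (CommRingCat.of k)) (B : Type u) [CommRing B] [Algebra k B]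
    [Algebra.Etale k B] (hs : s ∈ Set.range (Spec.map (CommRingCat.ofHom (algebraMap k B)))) :
    letI := RootBridge989.geomAlg s
    Nonempty (B →ₐ[k] AlgebraicClosure ((Spec (CommRingCat.of k)).residueField s)) := by
  letI := RootBridge989.geomAlg s
  obtain ⟨s', hs'⟩ := hs
  let f : Spec (CommRingCat.of B) ⟶ Spec (CommRingCat.of k) :=
    Spec.map (CommRingCat.ofHom (algebraMap k B))
  have hqf : Algebra.QuasiFinite k B := inferInstance
  have hf : LocallyQuasiFinite f := (HasRingHomProperty.Spec_iff (P := @LocallyQuasiFinite)).2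
    (RingHom.quasiFinite_algebraMap.2 hqf)
  obtain ⟨φ, hφ, h1⟩ := GeomFib147.exists_geomPt f s'
  have h2 : ∀ t, t = f s' → ∃ ψ : Spec (CommRingCat.of (AlgebraicClosure
      ((Spec (CommRingCat.of k)).residueField t))) ⟶ Spec (CommRingCat.of B),
      ψ ≫ f = Red.geomPt t := by
    rintro t rfl
    exact ⟨inv φ ≫ Red.geomPt s', by rw [Category.assoc, h1, IsIso.inv_hom_id_assoc]⟩
  obtain ⟨ψ, hψ⟩ := h2 s hs'.symm
  obtain ⟨ψ, rfl⟩ := Spec.map_surjective ψ
  refine ⟨{ ψ.hom with commutes' := fun r => ?_ }⟩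
  have h3 : Spec.map (CommRingCat.ofHom (algebraMap k B) ≫ ψ) =
      Spec.map (CommRingCat.ofHom (algebraMap k
        (AlgebraicClosure ((Spec (CommRingCat.of k)).residueField s)))) := by
    rw [Spec.map_comp]
    exact hψ.trans (RootBridge989.geomPt_eq s)
  have h4 := Spec.map_injective h3
  exact congrArg (fun z => z.hom r) h4

variable {H : Type u} [CommRing H] [HopfAlgebra k H] (e : P ≅ SpecOver k H) [IsMonHom e.hom]

/-- the level one is the group contracted by the cocharacter -/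
theorem isDynU_v {mu : Red.Gm (Spec (CommRingCat.of k)) ⟶ P} [IsMonHom mu]
    (hl : Pos (lamB mu (chartId e))) {N : ℕ} (hN : 1 ≤ N)
    (hKN : ∀ (C : Type u) [CommRing C] [Algebra k C] (g : WithConv (H →ₐ[k] C)),
      g ∈ KSub hl 1 C → g ∈ KSub hl N C) : IsDynU mu (v e hl N) := by
  have key : ∀ (C : Type u) [CommRing C] [Algebra k C] (g : WithConv (H →ₐ[k] C)),
      LimOne mu (c := Spec.map (CommRingCat.ofHom (algebraMap k C))) (pP e g) ↔
        g ∈ KSub hl 1 C := by
    intro C _ _ g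
    have h1 := limOne_pt mu (chartId e) (c := Spec.map (CommRingCat.ofHom (algebraMap k C)))
      (Category.comp_id _) g.ofConv
    rw [pt_chartId] at h1
    rw [mem_KSub_one_iff]
    exact h1
  refine ⟨inferInstance, inferInstance, fun X g => ?_⟩
  constructor
  · rintro ⟨x, rfl⟩ C _ c t
    obtain ⟨φ, rfl⟩ := Spec.map_surjective c
    letI : Algebra k C := φ.hom.toAlgebra
    obtain ⟨f, hf⟩ := exists_pV hl (C := C) (t ≫ x)
    have h2 : t ≫ x ≫ v e hl N = pP e (ptJ f) := by
      rw [← pV_v e hl f, hf]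
      exact (Category.assoc _ _ _).symm
    rw [h2]
    exact (key C (ptJ f)).2 (ptJ_mem_one hl hN f)
  · intro hg
    apply exists_lift_spec
    intro C _ _ t
    obtain ⟨a, ha⟩ := exists_pP e (t ≫ g)
    have h2 := hg C (Spec.map (CommRingCat.ofHom (algebraMap k C))) t
    rw [← ha, exists_iff]
    apply hKN
    rw [← key C a, ha]
    exact h2

variable {U : Over (Spec (CommRingCat.of k))} [GrpObj U]

/-- **Main theorem.** -/
theorem main (hG : Red.IsReductive G) (p : P ⟶ G) (hP : Red.IsParabolic p) (u : U ⟶ P)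
    (hU : Par.IsUnipotentRadical u) (hht : Ht p) :
    ∃ (V : ℕ → Over (Spec (CommRingCat.of k))) (_ : ∀ n, GrpObj (V n)) (v : ∀ n, V n ⟶ P)
      (w : ∀ n, V (n + 1) ⟶ V n) (e₀ : V 0 ≅ U), e₀.hom ≫ u = v 0 ∧ IsMonHom e₀.hom ∧
      Par.IsUnipotentRadical (v 0) ∧ (∀ n, IsMonHom (v n) ∧ IsClosedImmersion (v n).left ∧ AlgGrp.IsNormalHom (v n) ∧
        Smooth (V n).hom ∧ RedSub.HasConnectedFibres (V n) ∧ IsMonHom (w n) ∧
        w n ≫ v n = v (n + 1)) ∧
      (∀ (i j : ℕ) (X : Over (Spec (CommRingCat.of k))) (x : X ⟶ V i) (y : X ⟶ V j),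
        ∃ z : X ⟶ V (i + j + 1),
        z ≫ v (i + j + 1) = (x ≫ v i) * (y ≫ v j) * (x ≫ v i)⁻¹ * (y ≫ v j)⁻¹) ∧
      (∀ n, ∃ (M : Type u) (_ : AddCommGroup M) (_ : Module k M) (_ : Module.Finite k M)
        (_ : Module.Projective k M)
        (q : V n ⟶ (Spec (CommRingCat.of (SymmetricAlgebra k M))).asOver (Spec (CommRingCat.of k))),
        IsMonHom q ∧ RedSub.IsQuotient (w n) q) ∧
      (∀ (s : ↥(Spec (CommRingCat.of k))) (n : ℕ),
        topologicalKrullDim ↥(Red.geomFibre s U).left ≤ (n : WithBot ℕ∞) →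
          Red.IsTrivialGrp (Red.geomFibre s (V n))) := by
  obtain ⟨N, lam, hN, hlam, hdyn, hloc⟩ := hht
  have hp1 : IsMonHom p := hP.1
  have hp2 : IsClosedImmersion p.left := hP.2.1
  have hGa : IsAffineHom G.hom := hG.1
  have hPa : IsAffineHom P.hom := isAffineHom_P p
  have hPl : IsAffine P.left := isAffine_of_isAffineHom P.hom
  obtain ⟨mu, hmm, hmu⟩ := exists_lamP hdyn
  obtain ⟨H, _, _, e, he⟩ := exists_hopf k P
  have hl : Pos (lamB mu (chartId e)) := pos_of_isDynP e hmu hdyn
  -- the unipotent radical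
  have hUp := Groth.Agent.RedSub.H658.RadDyn.isDynU_of_isUnipotentRadical hG lam p hdyn u hU
  have hUmu : IsDynU mu u := by
    rw [← hmu] at hUp
    exact IsDynU.of_comp (i := p) hUp
  -- coordinates
  have hsm : Algebra.Smooth k (H ⧸ JU (lamB mu (chartId e))) := by
    obtain ⟨φ, -⟩ := hUmu.exists_chart (chartId e)
    have hsU : Smooth U.hom := hU.2.2.2.1
    let ψ : U ≅ SpecOver k (H ⧸ JU (lamB mu (chartId e))) := (bcId U).symm ≪≫ φ
    exact (DynSmooth998.smooth_alg _ _).1 (DynSmooth998.smooth_of_iso ψ.symm hsU)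
  obtain ⟨Da⟩ := exists_dat (lamB mu (chartId e))
  -- levels `1` and `N`
  have hKN : ∀ (C : Type u) [CommRing C] [Algebra k C] (g : WithConv (H →ₐ[k] C)),
      g ∈ KSub hl 1 C → g ∈ KSub hl N C := by
    obtain ⟨n, B, _, _, -, hB, hff, -⟩ := DynCov383.exists_finite_etale
      (fun B _ _ => Loc lam N B) hloc
    intro C _ _ g hg
    refine KSub_le_of_cov hl B (fun i C _ _ _ _ g hg => ?_) hg
    obtain ⟨D, y, hy, hdiv, -⟩ := hB i
    exact KSub_one_le e hl hmu hy hdiv hg
  have hle : ∀ n : ℕ, 1 ≤ N * (n + 1) := fun n => Nat.mul_pos (by omega) (by omega)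
  have hKN0 : ∀ (C : Type u) [CommRing C] [Algebra k C] (g : WithConv (H →ₐ[k] C)),
      g ∈ KSub hl 1 C → g ∈ KSub hl (N * (0 + 1)) C := by
    intro C _ _ g hg
    rw [zero_add, Nat.mul_one]
    exact hKN C g hg
  obtain ⟨e₀, he₀, he₀u⟩ := (isDynU_v e hl (hle 0) hKN0).exists_iso hUmu
  have hrad : Par.IsUnipotentRadical (v e hl (N * (0 + 1))) := by
    have h1 : IsDynU lam (v e hl (N * (0 + 1)) ≫ p) := by
      have hmp := hdyn.mono
      refine ⟨inferInstance, mono_comp _ _, fun X g => ?_⟩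
      rw [← hUp.iff_ptU]
      constructor
      · rintro ⟨x, hx⟩
        exact ⟨x ≫ e₀.hom, by rw [Category.assoc, ← Category.assoc e₀.hom, he₀u, hx]⟩
      · rintro ⟨x, hx⟩
        refine ⟨x ≫ e₀.inv, ?_⟩
        rw [← he₀u, Category.assoc, Category.assoc, Iso.inv_hom_id_assoc, hx]
    obtain ⟨Z, _, z', hz', -⟩ := DynExist998.exists_isDynZ lam
    obtain ⟨z, rfl⟩ := DynLevi998.exists_zP hdyn hz'
    exact (Groth.Agent.Sga3B.Parab.pcU lam DynGeom678.dynGeomU Uncond688.dynK1 K3b143.dynK3 hG p hdyn _ h1 z hz').2.1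
  have hmono : ∀ n : ℕ, N * (n + 1) ≤ N * (n + 1 + 1) := fun n =>
    Nat.mul_le_mul_left N (by omega)
  have hconn : ∀ n : ℕ, RedSub.HasConnectedFibres (V hl (N * (n + 1))) := by
    intro n
    let i : SpecOver k (SymmetricAlgebra k (Pm Da (N * (n + 1)) Da.N)) ≅ V hl (N * (n + 1)) :=
      Groth.Agent.RedSub.H659.UVec.specIso (eqv Da hl (hle n))
    have h1 : Surjective i.hom.left := by
      have : IsIso i.hom.left := (Over.forget _).map_isIso i.hom
      infer_instance
    exact conn_of_surj i.hom conn_sym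
  have hsmV : ∀ n : ℕ, Smooth (V hl (N * (n + 1))).hom := by
    intro n
    exact (DynSmooth998.smooth_alg _ _).2 (FilSm.smooth_JF Da hl (hle n))
  -- the dimension of the fibres
  obtain ⟨e₁, -, -⟩ := (isDynU_v e hl le_rfl (fun _ _ _ _ h => h)).exists_iso hUmu
  have hfin : Module.Finite k Da.E := Da.fin
  have hdim := fun s => dim_geomFibre_sym (e₁.symm ≪≫ isoOne Da hl) s
  have htriv : ∀ (s : Spec (CommRingCat.of k)) (n : ℕ),
      topologicalKrullDim ↥(Red.geomFibre s U).left ≤ (n : WithBot ℕ∞) →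
        Red.IsTrivialGrp (Red.geomFibre s (V hl (N * (n + 1)))) := by
    intro s n hn
    letI := RootBridge989.geomAlg s
    rw [hdim s] at hn
    have hn' : Module.finrank (AlgebraicClosure ((Spec (CommRingCat.of k)).residueField s))
      (AlgebraicClosure ((Spec (CommRingCat.of k)).residueField s) ⊗[k] Da.E) ≤ n := by
      exact_mod_cast hn
    obtain ⟨B, _, _, _, hsB, D, y, hy, hdiv, hgap⟩ := hloc s
    obtain ⟨ψ⟩ := exists_lift_geom s B hsB
    letI : Algebra B (AlgebraicClosure ((Spec (CommRingCat.of k)).residueField s)) :=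
      ψ.toRingHom.toAlgebra
    have htow : IsScalarTower k B (AlgebraicClosure ((Spec (CommRingCat.of k)).residueField s)) :=
      IsScalarTower.of_algebraMap_eq fun r => (ψ.commutes r).symm
    apply isTrivialGrp_geomFibre
    intro C _ _ _ _ g hg
    letI : Algebra B C := ((algebraMap (AlgebraicClosure
      ((Spec (CommRingCat.of k)).residueField s)) C).comp ψ.toRingHom).toAlgebra
    have htow' : IsScalarTower k B C := IsScalarTower.of_algebraMap_eq fun r => by
      rw [IsScalarTower.algebraMap_apply k (AlgebraicClosure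
        ((Spec (CommRingCat.of k)).residueField s)) C]
      exact congrArg _ (ψ.commutes r).symm
    exact KSub_trivial e hl hmu hy (hle n) (root_lt (K := AlgebraicClosure
      ((Spec (CommRingCat.of k)).residueField s)) e hl Da hmu hdyn hy hN hgap hn') hg
  refine ⟨fun n => V hl (N * (n + 1)), fun n => inferInstance, fun n => v e hl (N * (n + 1)),
    fun n => w hl (hmono n), e₀, he₀u, he₀, hrad, ?_, ?_, ?_, htriv⟩
  · intro n
    refine ⟨inferInstance, inferInstance, isNormalHom_v e hl _, hsmV n, hconn n,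
      isMonHom_w hl e (hmono n), w_v e hl (hmono n)⟩
  · intro i j X x y
    exact exists_comm e hl (by
      have : N * (i + 1) + N * (j + 1) = N * (i + j + 1 + 1) := by ring
      omega) x y
  · intro n
    have h2 : N * (n + 1 + 1) ≤ 2 * (N * (n + 1)) := by
      have h3 : 2 * (N * (n + 1)) = N * (2 * (n + 1)) := by ring
      rw [h3]
      exact Nat.mul_le_mul_left N (by omega)
    refine ⟨Pm Da (N * (n + 1)) (N * (n + 1 + 1)), inferInstance, inferInstance, ?_, ?_,
      q Da hl (hle n) (N * (n + 1 + 1)), isMonHom_q e Da hl (hle n) h2,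
      isQuotient Da hl (hle n) e (hmono n) h2⟩
    · infer_instance
    · infer_instance

end

end K198.FilMain
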