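import Groth.Agent.RedSub.K198.FilLev
import Groth.Agent.Sga3B.Par.RCOver742

/-!
# The levels in terms of the root groups
-/

set_option autoImplicit false
set_option linter.unusedSectionVars false

universe u

open CategoryTheory MonoidalCategory CartesianMonoidalCategory MonObj GrpObj AlgebraicGeometry Limits
open scoped LaurentPolynomial Polynomial TensorProduct
open WithConv
open Groth.Agent.Books.AffBridge Groth.Agent.Books.DynBasic Groth.Agent.Books.DynLim
open Groth.Agent.Sga3B Groth.Agent.Sga3B.Par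
open Groth.Agent.Sga3B.Parab Groth.Agent.Sga3B.Parab.Chart998 Groth.Agent.Sga3B.Parab.AffPts998
open Groth.Agent.Sga3B.Parab.Dyn998 Groth.Agent.Sga3B.Parab.DynBc998
open Groth.Agent.Sga3B.Parab.DynClosed998 Groth.Agent.Sga3B.Parab.DynExist998

namespace K198.FilRoot

open FilPt FilLev

section cells

variable {S : Scheme.{u}} {G : Over S} [GrpObj G] {D : Red.SplitRed G}
variable {C : Type u} [CommRing C] {c : Spec (CommRingCat.of C) ⟶ S}

/-- points with given coordinates -/
theorem exists_cell_pt (y : Module.Dual ℤ D.M) (w : D.idx → C)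
    (hw : ∀ a, y (D.P.root a) ≤ 0 → w a = 0) :
    ∃ g : aff C c ⟶ G, ∀ d : ℕ, LimLev (coch D y) d g ↔ ∀ a, y (D.P.root a) < d → w a = 0 := by
  have haff := D.reductive.1
  obtain ⟨ch⟩ := exists_chart G c
  let z := (ch.datum D).cell Finset.univ.toList w 1
  let g : aff C c ⟶ G := (Signs.kap c).inv ≫ ch.pts C z
  have hg : Signs.co ch g = z := by
    rw [Signs.co, Iso.hom_inv_id_assoc, MulEquiv.symm_apply_apply]
  exact ⟨g, fun d => cell_lev ch y g w hw hg d⟩

/-- coordinates of points contracted to `1` -/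
theorem exists_cell_coord (y : Module.Dual ℤ D.M) (g : aff C c ⟶ G) (hg : LimOne (coch D y) g) :
    ∃ w : D.idx → C, (∀ a, y (D.P.root a) ≤ 0 → w a = 0) ∧
      (∀ d : ℕ, LimLev (coch D y) d g ↔ ∀ a, y (D.P.root a) < d → w a = 0) ∧
      ((∀ a, w a = 0) → g = 1) := by
  have haff := D.reductive.1
  obtain ⟨ch⟩ := exists_chart G c
  obtain ⟨w, hw, hco⟩ := Signs.exists_cell ch hg
  refine ⟨w, hw, fun d => cell_lev ch y g w hw hco d, fun h0 => ?_⟩
  have h1 : w = fun _ => 0 := funext h0
  have h2 : Signs.co ch g = 1 := by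
    rw [hco, h1]
    exact ((ch.datum D).cell_zero _ 1).trans (map_one _)
  have h3 : (Signs.kap c).hom ≫ g = 1 := by
    have h4 := congrArg (ch.pts C) h2
    rwa [Signs.co, MulEquiv.apply_symm_apply, map_one] at h4
  rw [← cancel_epi (Signs.kap c).hom, h3, MonObj.comp_one]

end cells

section dict

variable {k : Type u} [CommRing k] {G P : Over (Spec (CommRingCat.of k))} [GrpObj G] [GrpObj P]
variable {p : P ⟶ G} [IsMonHom p] [IsClosedImmersion p.left]
variable {lam : Red.Gm (Spec (CommRingCat.of k)) ⟶ G} {mu : Red.Gm (Spec (CommRingCat.of k)) ⟶ P}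
variable [IsMonHom mu]
variable {H : Type u} [CommRing H] [HopfAlgebra k H] (e : P ≅ SpecOver k H) [IsMonHom e.hom]

/-- the weights of the coordinate ring of `P_G(λ)` are nonnegative -/
theorem pos_of_isDynP (hmu : mu ≫ p = lam) (hp : IsDynP lam p) : Pos (lamB mu (chartId e)) := by
  subst hmu
  have h1 : IsDynP mu (𝟙 P) := by
    apply IsDynP.of_comp (i := p)
    rwa [Category.id_comp]
  intro n hn a
  have h2 : PtP mu (pt (chartId e) (c := Spec.map (CommRingCat.ofHom (algebraMap k H)))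
      (Category.comp_id _) (AlgHom.id k H)) := (h1.iff_ptP _ _).1 ⟨_, Category.comp_id _⟩
  have h3 := h2 H (Spec.map (CommRingCat.ofHom (algebraMap k H))) (𝟙 _)
  rw [Category.id_comp, limEx_pt, limExists_iff] at h3
  exact h3 n hn a

variable (hl : Pos (lamB mu (chartId e)))
variable {B : Type u} [CommRing B] [Algebra k B]
variable {C : Type u} [CommRing C] [Algebra k C] [Algebra B C] [IsScalarTower k B C]

variable (k B C) in
lemma hcB : Spec.map (CommRingCat.ofHom (algebraMap k C)) ≫ 𝟙 (Spec (CommRingCat.of k)) =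
    Spec.map (CommRingCat.ofHom (algebraMap B C)) ≫
      Spec.map (CommRingCat.ofHom (algebraMap k B)) := by
  rw [Category.comp_id, ← Spec.map_comp, ← CommRingCat.ofHom_comp, ← IsScalarTower.algebraMap_eq]

variable (p) in
/-- a point of `P` as a point of the base change of `G` -/
noncomputable def toBc (B : Type u) [CommRing B] [Algebra k B] {C : Type u} [CommRing C]
    [Algebra k C] [Algebra B C] [IsScalarTower k B C] (g : WithConv (H →ₐ[k] C)) :
    aff C (Spec.map (CommRingCat.ofHom (algebraMap B C))) ⟶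
      Red.bc (Spec.map (CommRingCat.ofHom (algebraMap k B))) G :=
  (dnI (Spec.map (CommRingCat.ofHom (algebraMap k B))) (affI _ _)).symm
    (pt (chartId e) (hcB k B C) g.ofConv ≫ p)

lemma dnI_toBc (g : WithConv (H →ₐ[k] C)) :
    dnI (Spec.map (CommRingCat.ofHom (algebraMap k B))) (affI _ _) (toBc p e B g) =
      pt (chartId e) (hcB k B C) g.ofConv ≫ p := MulEquiv.apply_symm_apply _ _

variable [IsAffineHom G.hom]

lemma isAffineHom_P {S : Scheme.{u}} {G P : Over S} (p : P ⟶ G) [IsClosedImmersion p.left]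
    [IsAffineHom G.hom] : IsAffineHom P.hom := by
  rw [← Over.w p]
  infer_instance

theorem toBc_lev (hmu : mu ≫ p = lam) (g : WithConv (H →ₐ[k] C)) (d : ℕ) :
    LimLev (bcLam lam (Spec.map (CommRingCat.ofHom (algebraMap k B)))) d (toBc p e B g) ↔
      g ∈ KSub hl d C := by
  have := isAffineHom_P p
  rw [limLev_bc_iff, dnI_toBc, ← hmu, limLev_comp_iff, limLev_pt mu (chartId e) (hcB k B C) hl]

theorem toBc_limOne (hmu : mu ≫ p = lam) (g : WithConv (H →ₐ[k] C)) :
    LimOne (bcLam lam (Spec.map (CommRingCat.ofHom (algebraMap k B)))) (toBc p e B g) ↔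
      g ∈ KSub hl 1 C := by
  rw [limOne_bc_iff, dnI_toBc, ← hmu, limOne_comp_iff, limOne_pt mu (chartId e) (hcB k B C),
    mem_KSub_one_iff]

theorem toBc_eq_one (g : WithConv (H →ₐ[k] C)) (h : toBc p e B g = 1) : g = 1 := by
  have hm := mono_of_isClosedImmersion p
  have h1 := dnI_toBc (p := p) e (B := B) g
  rw [h, map_one] at h1
  have h2 : pt (chartId e) (hcB k B C) g.ofConv = 1 := by
    rw [← cancel_mono p, ← h1, MonObj.one_comp]
  rw [← pt_one (chartId e) (hcB k B C)] at h2
  apply WithConv.ofConv_injective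
  exact (pt_bijective (chartId e) (hcB k B C)).1 h2

theorem exists_toBc (hp : IsDynP lam p)
    (g : aff C (Spec.map (CommRingCat.ofHom (algebraMap B C))) ⟶
      Red.bc (Spec.map (CommRingCat.ofHom (algebraMap k B))) G)
    (hg : LimEx (bcLam lam (Spec.map (CommRingCat.ofHom (algebraMap k B)))) g) :
    ∃ g' : WithConv (H →ₐ[k] C), toBc p e B g' = g := by
  rw [limEx_bc_iff, IsDynP.limEx_iff hp] at hg
  obtain ⟨q, hq⟩ := hg
  obtain ⟨g', rfl⟩ := (pt_bijective (chartId e) (hcB k B C)).2 q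
  refine ⟨toConv g', ?_⟩
  rw [toBc]
  change (dnI _ (affI _ _)).symm (pt (chartId e) (hcB k B C) g' ≫ p) = g
  rw [hq, MulEquiv.symm_apply_apply]

variable {D : Red.SplitRed (Red.bc (Spec.map (CommRingCat.ofHom (algebraMap k B))) G)}
  {y : Module.Dual ℤ D.M}

/-- **coordinates of the points of the unipotent part** -/
theorem exists_coord (hmu : mu ≫ p = lam)
    (hy : bcLam lam (Spec.map (CommRingCat.ofHom (algebraMap k B))) = coch D y)
    {g : WithConv (H →ₐ[k] C)} (hg : g ∈ KSub hl 1 C) :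
    ∃ w : D.idx → C, (∀ a, y (D.P.root a) ≤ 0 → w a = 0) ∧
      (∀ d : ℕ, g ∈ KSub hl d C ↔ ∀ a, y (D.P.root a) < d → w a = 0) ∧
      ((∀ a, w a = 0) → g = 1) := by
  have h1 := (toBc_limOne (B := B) e hl hmu g).2 hg
  rw [hy] at h1
  obtain ⟨w, hw, h2, h3⟩ := exists_cell_coord y _ h1
  refine ⟨w, hw, fun d => ?_, fun h0 => toBc_eq_one (B := B) e g (h3 h0)⟩
  rw [← h2 d, ← hy, toBc_lev e hl hmu]

/-- **points with given coordinates** -/
theorem exists_of_coord (hmu : mu ≫ p = lam) (hp : IsDynP lam p)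
    (hy : bcLam lam (Spec.map (CommRingCat.ofHom (algebraMap k B))) = coch D y)
    (w : D.idx → C) (hw : ∀ a, y (D.P.root a) ≤ 0 → w a = 0) :
    ∃ g : WithConv (H →ₐ[k] C), ∀ d : ℕ, g ∈ KSub hl d C ↔ ∀ a, y (D.P.root a) < d → w a = 0 := by
  obtain ⟨g, hg⟩ := exists_cell_pt (c := Spec.map (CommRingCat.ofHom (algebraMap B C))) y w hw
  have h1 : LimLev (coch D y) 1 g := (hg 1).2 fun a ha => hw a (by omega)
  rw [← hy] at h1 hg
  obtain ⟨g', rfl⟩ := exists_toBc e hp g h1.limEx
  refine ⟨g', fun d => ?_⟩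
  rw [← hg d, toBc_lev e hl hmu]

end dict

end K198.FilRoot
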