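import Groth.Agent.RedSub.K198.FilSym
import Groth.Agent.Smoothlim.SymAlg

/-!
# Smoothness of the levels and of the projections to the vector groups
-/

set_option autoImplicit false
set_option linter.unusedSectionVars false

open LaurentPolynomial TensorProduct WithConv
open Groth.Agent.Books.DynBasic Groth.Agent.Books.DynLim
open Groth.Agent.RedSub.H659

universe u

namespace K198.FilSm

open FilPt FilDat FilSym

variable {k H : Type u} [CommRing k] [CommRing H] [HopfAlgebra k H] {l : H →ₐc[k] k[T;T⁻¹]}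
variable (D : Dat l) (hl : Pos l)

include D hl in
theorem smooth_JF {d : ℕ} (hd : 1 ≤ d) : Algebra.Smooth k (H ⧸ JF l d) := by
  have h1 : Algebra.Smooth k (SymmetricAlgebra k (Pm D d D.N)) :=
    Groth.Agent.Smoothlim.SymAlg.smooth k _
  exact Algebra.Smooth.of_equiv (eqv D hl hd)

theorem formallySmooth_pS {d : ℕ} (hd : 1 ≤ d) (d' : ℕ) :
    letI := (pS D hl hd d').toRingHom.toAlgebra
    Algebra.FormallySmooth (SymmetricAlgebra k (Pm D d d')) (H ⧸ JF l d) := by
  letI := (pS D hl hd d').toRingHom.toAlgebra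
  have hst : IsScalarTower k (SymmetricAlgebra k (Pm D d d')) (H ⧸ JF l d) :=
    IsScalarTower.of_algebraMap_eq fun r => ((pS D hl hd d').commutes r).symm
  refine Algebra.FormallySmooth.of_comp_surjective fun C _ _ I hI u => ?_
  letI : Algebra k C :=
    ((algebraMap (SymmetricAlgebra k (Pm D d d')) C).comp (algebraMap k _)).toAlgebra
  have hst2 : IsScalarTower k (SymmetricAlgebra k (Pm D d d')) C :=
    IsScalarTower.of_algebraMap_eq fun r => rfl
  let u' : H ⧸ JF l d →ₐ[k] C ⧸ I := u.restrictScalars k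
  let β : Pm D d d' →ₗ[k] C :=
    (IsScalarTower.toAlgHom k (SymmetricAlgebra k (Pm D d d')) C).toLinearMap.comp
      (SymmetricAlgebra.ι k _)
  have hβ : ∀ x, β x = algebraMap (SymmetricAlgebra k (Pm D d d')) C (SymmetricAlgebra.ι k _ x) :=
    fun _ => rfl
  have := D.proj
  obtain ⟨th, hth⟩ := Module.projective_lifting_property (Ideal.Quotient.mkₐ k I).toLinearMap
    (u'.toLinearMap.comp (sJ D hl hd)) (Ideal.Quotient.mkₐ_surjective k I)
  have hth' : ∀ e, Ideal.Quotient.mk I (th e) = u (sJ D hl hd e) :=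
    fun e => DFunLike.congr_fun hth e
  let M : ℕ := max D.N d'
  let t : Pm D d M →ₗ[k] C :=
    (β.comp (kp D d d') + th - th.comp (kap D d d')).comp (Pm D d M).subtype
  have ht : ∀ e, t e = β (kp D d d' e) + th e - th (kap D d d' e) := fun _ => rfl
  obtain ⟨f, hf⟩ := exists_ext D hl hd M t
  have hPm : ∀ e : Pm D d d', kp D d M (e : D.E) = ⟨e, fun m hm => e.2 m (by omega)⟩ := by
    intro e
    apply Subtype.ext
    exact kap_of_mem D (fun m hm => e.2 m (by omega))
  have hcomm : ∀ x, f (pS D hl hd d' x) = algebraMap (SymmetricAlgebra k (Pm D d d')) C x := by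
    have h1 : f.comp (pS D hl hd d') =
        IsScalarTower.toAlgHom k (SymmetricAlgebra k (Pm D d d')) C := by
      ext e
      change f (pS D hl hd d' (SymmetricAlgebra.ι k _ e)) = _
      rw [pS_ι, hf, hPm, ht]
      have h2 : kap D d d' (e : D.E) = e := kap_of_mem D e.2
      have h3 : kp D d d' (e : D.E) = e := DFunLike.congr_fun (kp_comp D d d') e
      change β (kp D d d' (e : D.E)) + th (e : D.E) - th (kap D d d' (e : D.E)) = _
      rw [h2, h3, add_sub_cancel_right]
      rfl
    exact fun x => DFunLike.congr_fun h1 x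
  let f' : H ⧸ JF l d →ₐ[SymmetricAlgebra k (Pm D d d')] C :=
    { f with commutes' := fun x => hcomm x }
  refine ⟨f', ?_⟩
  have hu : ∀ x : Pm D d d', Ideal.Quotient.mk I (β x) = u (sJ D hl hd x) := by
    intro x
    rw [hβ, ← pS_ι]
    exact (u.commutes (SymmetricAlgebra.ι k _ x)).symm
  have h4 : (Ideal.Quotient.mkₐ k I).comp f = u' := by
    apply hom_ext D hl hd
    intro e
    change Ideal.Quotient.mk I (f (sJ D hl hd e)) = u (sJ D hl hd e)
    rw [hf, ht]
    have h5 : ((kp D d M e : Pm D d M) : D.E) = kap D d M e := rfl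
    rw [h5, map_sub, map_add, hu, hth', hth']
    have h6 : ((kp D d d' (kap D d M e) : Pm D d d') : D.E) = kap D d d' (kap D d M e) := rfl
    rw [h6, add_sub_cancel_left, sJ_kap D hl hd (le_max_left _ _)]
  apply AlgHom.ext
  intro x
  exact DFunLike.congr_fun h4 x

theorem smooth_pS {d : ℕ} (hd : 1 ≤ d) (d' : ℕ) : (pS D hl hd d').toRingHom.Smooth := by
  letI := (pS D hl hd d').toRingHom.toAlgebra
  have hst : IsScalarTower k (SymmetricAlgebra k (Pm D d d')) (H ⧸ JF l d) :=
    IsScalarTower.of_algebraMap_eq fun r => ((pS D hl hd d').commutes r).symm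
  have h1 := formallySmooth_pS D hl hd d'
  have h2 := smooth_JF D hl hd
  have h3 : Algebra.FinitePresentation k (H ⧸ JF l d) := Algebra.Smooth.finitePresentation
  have h4 : Algebra.FiniteType k (SymmetricAlgebra k (Pm D d d')) :=
    Groth.Agent.Smoothlim.SymAlg.finiteType k _
  have h5 : Algebra.FinitePresentation (SymmetricAlgebra k (Pm D d d')) (H ⧸ JF l d) :=
    Algebra.FinitePresentation.of_restrict_scalars_finitePresentation k _ _
  have h6 : Algebra.Smooth (SymmetricAlgebra k (Pm D d d')) (H ⧸ JF l d) := ⟨h1, h5⟩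
  exact h6

end K198.FilSm
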