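import Groth.Agent.RedSub.K198.FilDat

/-!
# The coordinate rings of the levels are symmetric algebras
-/

set_option autoImplicit false
set_option linter.unusedSectionVars false

open LaurentPolynomial TensorProduct WithConv
open Groth.Agent.Books.DynBasic Groth.Agent.Books.DynLim
open Groth.Agent.RedSub.H659

universe u

namespace K198.FilSym

open FilPt FilDat

/-- an algebra map which is bijective on points is bijective -/
lemma bijective_of_points {k A B : Type u} [CommRing k] [CommRing A] [Algebra k A] [CommRing B]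
    [Algebra k B] (ψ : A →ₐ[k] B) (h : ∀ (C : Type u) [CommRing C] [Algebra k C],
      Function.Bijective fun g : B →ₐ[k] C => g.comp ψ) : Function.Bijective ψ := by
  obtain ⟨r, hr⟩ := (h A).2 (AlgHom.id k A)
  have hr' : r.comp ψ = AlgHom.id k A := hr
  have h1 : ψ.comp r = AlgHom.id k B := by
    apply (h B).1
    change (ψ.comp r).comp ψ = (AlgHom.id k B).comp ψ
    rw [AlgHom.comp_assoc, hr', AlgHom.comp_id, AlgHom.id_comp]
  exact ⟨Function.LeftInverse.injective (g := r) fun x => DFunLike.congr_fun hr' x,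
    Function.RightInverse.surjective (g := r) fun x => DFunLike.congr_fun h1 x⟩

section Mod

variable {k H : Type u} [CommRing k] [CommRing H] [HopfAlgebra k H] {l : H →ₐc[k] k[T;T⁻¹]}
variable (D : Dat l)

lemma sum_range {M : ℕ} (hM : D.N ≤ M) (e : D.E) : ∑ n ∈ Finset.range M, D.π n e = e := by
  conv_rhs => rw [← D.sum_π e]
  symm
  apply Finset.sum_subset (Finset.range_subset_range.2 hM)
  intro n _ hn
  rw [Finset.mem_range, not_lt] at hn
  rw [D.π_eq_zero n hn, LinearMap.zero_apply]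

/-- the coordinates of degrees in `[d, d')` -/
def Pm (d d' : ℕ) : Submodule k D.E where
  carrier := {e | ∀ m, (m < d ∨ d' ≤ m) → D.π m e = 0}
  add_mem' {a b} ha hb m hm := by rw [map_add, ha m hm, hb m hm, add_zero]
  zero_mem' m _ := map_zero _
  smul_mem' c a ha m hm := by rw [map_smul, ha m hm, smul_zero]

/-- the projector onto the coordinates of degrees in `[d, d')` -/
noncomputable def kap (d d' : ℕ) : D.E →ₗ[k] D.E := ∑ m ∈ Finset.Ico d d', D.π m

lemma kap_apply (d d' : ℕ) (e : D.E) : kap D d d' e = ∑ m ∈ Finset.Ico d d', D.π m e := by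
  rw [kap, LinearMap.sum_apply]

lemma π_kap (d d' m : ℕ) (e : D.E) :
    D.π m (kap D d d' e) = if m ∈ Finset.Ico d d' then D.π m e else 0 := by
  rw [kap_apply, map_sum]
  simp_rw [D.π_π]
  rw [Finset.sum_ite_eq' (Finset.Ico d d') m (fun n => D.π n e)]

lemma kap_mem (d d' : ℕ) (e : D.E) : kap D d d' e ∈ Pm D d d' := by
  intro m hm
  rw [π_kap, if_neg]
  rw [Finset.mem_Ico]
  omega

lemma kap_of_mem {d d' : ℕ} {e : D.E} (he : e ∈ Pm D d d') : kap D d d' e = e := by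
  rw [kap_apply]
  conv_rhs => rw [← sum_range D (le_max_left D.N d') e]
  apply Finset.sum_subset
  · intro m hm
    rw [Finset.mem_Ico] at hm
    rw [Finset.mem_range]
    omega
  · intro m _ hm
    rw [Finset.mem_Ico] at hm
    exact he m (by omega)

lemma kap_π {d d' m : ℕ} (hm : m < d ∨ d' ≤ m) (e : D.E) : kap D d d' (D.π m e) = 0 := by
  rw [kap_apply]
  apply Finset.sum_eq_zero
  intro n hn
  rw [Finset.mem_Ico] at hn
  rw [D.π_π, if_neg (by omega)]

/-- the projection onto the coordinates of degrees in `[d, d')` -/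
noncomputable def kp (d d' : ℕ) : D.E →ₗ[k] Pm D d d' := (kap D d d').codRestrict _ (kap_mem D d d')

lemma kp_comp (d d' : ℕ) : (kp D d d').comp (Pm D d d').subtype = LinearMap.id := by
  ext e
  exact kap_of_mem D e.2

instance proj_Pm (d d' : ℕ) : Module.Projective k (Pm D d d') := by
  have := D.proj
  exact Module.Projective.of_split (Pm D d d').subtype (kp D d d') (kp_comp D d d')

instance fin_Pm (d d' : ℕ) : Module.Finite k (Pm D d d') := by
  have := D.fin
  apply Module.Finite.of_surjective (kp D d d')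
  intro e
  exact ⟨e, DFunLike.congr_fun (kp_comp D d d') e⟩

end Mod

section Sym

variable {k H : Type u} [CommRing k] [CommRing H] [HopfAlgebra k H] {l : H →ₐc[k] k[T;T⁻¹]}
variable (D : Dat l) (hl : Pos l) {R : Type u} [CommRing R] [Algebra k R]

variable (l) in
lemma JF_mono {d d' : ℕ} (h : d ≤ d') : JF l d ≤ JF l d' := by
  refine Ideal.span_le.2 ?_
  rintro _ ⟨a, m, hm, rfl⟩
  exact Ideal.subset_span ⟨a, m, by omega, rfl⟩

include hl in
lemma JU_le {d : ℕ} (hd : 1 ≤ d) : JU l ≤ JF l d := by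
  rw [← JF_one hl]
  exact JF_mono l hd

/-- the coordinates, as functions on the level `d` -/
noncomputable def sJ {d : ℕ} (hd : 1 ≤ d) : D.E →ₗ[k] H ⧸ JF l d :=
  (Ideal.Quotient.factorₐ k (JU_le hl hd)).toLinearMap.comp D.s

lemma sJ_eq {d : ℕ} (hd : 1 ≤ d) (e : D.E) :
    sJ D hl hd e = Ideal.Quotient.mk (JF l d) (D.sa e) := by
  change Ideal.Quotient.factorₐ k (JU_le hl hd) (D.s e) = _
  rw [← D.mk_sa]
  rfl

/-- a point of the level `d` -/
noncomputable def ptJ {d : ℕ} (f : H ⧸ JF l d →ₐ[k] R) : WithConv (H →ₐ[k] R) :=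
  toConv (f.comp (Ideal.Quotient.mkₐ k (JF l d)))

lemma ptJ_apply {d : ℕ} (f : H ⧸ JF l d →ₐ[k] R) (a : H) :
    (ptJ f).ofConv a = f (Ideal.Quotient.mk _ a) := rfl

lemma ptJ_mem {d : ℕ} (f : H ⧸ JF l d →ₐ[k] R) : ptJ f ∈ KSub hl d R := by
  rw [← vanish_JF_iff hl]
  intro a ha
  rw [ptJ_apply, Ideal.Quotient.eq_zero_iff_mem.2 ha, map_zero]

lemma ptJ_mem_one {d : ℕ} (hd : 1 ≤ d) (f : H ⧸ JF l d →ₐ[k] R) : ptJ f ∈ KSub hl 1 R :=
  KSub_anti hl hd (ptJ_mem hl f)

lemma ptJ_injective {d : ℕ} {f f' : H ⧸ JF l d →ₐ[k] R} (h : ptJ f = ptJ f') : f = f' := by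
  apply AlgHom.ext
  intro b
  obtain ⟨a, rfl⟩ := Ideal.Quotient.mk_surjective b
  exact congrArg (fun z : WithConv (H →ₐ[k] R) => z.ofConv a) h

lemma exists_ptJ {d : ℕ} {g : WithConv (H →ₐ[k] R)} (hg : g ∈ KSub hl d R) :
    ∃ f : H ⧸ JF l d →ₐ[k] R, ptJ f = g := by
  refine ⟨Ideal.Quotient.liftₐ (JF l d) g.ofConv ((vanish_JF_iff hl d g).2 hg), ?_⟩
  apply WithConv.ofConv_injective
  apply AlgHom.ext
  intro a
  rfl

lemma t_ptJ {d : ℕ} (hd : 1 ≤ d) (f : H ⧸ JF l d →ₐ[k] R) (e : D.E) :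
    D.t hl (ptJ_mem_one hl hd f) e = f (sJ D hl hd e) := by
  rw [D.t_eq, sJ_eq, ptJ_apply]

lemma sJ_π {d m : ℕ} (hd : 1 ≤ d) (hm : m < d) (e : D.E) : sJ D hl hd (D.π m e) = 0 := by
  have h1 := t_ptJ D hl hd (AlgHom.id k (H ⧸ JF l d)) (D.π m e)
  have h2 := (D.mem_iff hl (ptJ_mem_one hl hd (AlgHom.id k (H ⧸ JF l d))) d).1
    (ptJ_mem hl _) m hm e
  rw [h1] at h2
  exact h2

lemma sJ_kap {d d' : ℕ} (hd : 1 ≤ d) (hN : D.N ≤ d') (e : D.E) :
    sJ D hl hd (kap D d d' e) = sJ D hl hd e := by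
  conv_rhs => rw [← sum_range D (le_max_left D.N d') e]
  rw [kap_apply, map_sum, map_sum]
  apply Finset.sum_subset
  · intro m hm
    rw [Finset.mem_Ico] at hm
    rw [Finset.mem_range]
    omega
  · intro m _ hm
    rw [Finset.mem_Ico] at hm
    by_cases h : m < d
    · exact sJ_π D hl hd h e
    · rw [D.π_eq_zero m (by omega), LinearMap.zero_apply, map_zero]

/-- the coordinate functions of degrees in `[d, d')` on the level `d` -/
noncomputable def pS {d : ℕ} (hd : 1 ≤ d) (d' : ℕ) : SymmetricAlgebra k (Pm D d d') →ₐ[k] H ⧸ JF l d :=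
  SymmetricAlgebra.lift ((sJ D hl hd).comp (Pm D d d').subtype)

lemma pS_ι {d : ℕ} (hd : 1 ≤ d) (d' : ℕ) (e : Pm D d d') :
    pS D hl hd d' (SymmetricAlgebra.ι k _ e) = sJ D hl hd e :=
  SymmetricAlgebra.lift_ι_apply _ _

/-- extension of coordinates by zero -/
lemma exists_ext {d : ℕ} (hd : 1 ≤ d) (d' : ℕ) (t : Pm D d d' →ₗ[k] R) :
    ∃ f : H ⧸ JF l d →ₐ[k] R, ∀ e, f (sJ D hl hd e) = t (kp D d d' e) := by
  obtain ⟨g, hg, hgt⟩ := D.exists_t hl (t.comp (kp D d d'))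
  have h1 : g ∈ KSub hl d R := by
    rw [D.mem_iff hl hg]
    intro m hm e
    rw [hgt, LinearMap.comp_apply]
    have h2 : kp D d d' (D.π m e) = 0 := Subtype.ext (kap_π D (Or.inl hm) e)
    rw [h2, map_zero]
  obtain ⟨f, rfl⟩ := exists_ptJ hl h1
  refine ⟨f, fun e => ?_⟩
  rw [← t_ptJ D hl hd, hgt]
  rfl

lemma hom_ext {d : ℕ} (hd : 1 ≤ d) {f f' : H ⧸ JF l d →ₐ[k] R}
    (h : ∀ e, f (sJ D hl hd e) = f' (sJ D hl hd e)) : f = f' := by
  apply ptJ_injective
  apply D.t_ext hl (ptJ_mem_one hl hd f) (ptJ_mem_one hl hd f')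
  intro e
  rw [t_ptJ D hl hd, t_ptJ D hl hd, h]

/-- **the coordinate ring of a level is a symmetric algebra** -/
theorem pS_bijective {d : ℕ} (hd : 1 ≤ d) {d' : ℕ} (hN : D.N ≤ d') :
    Function.Bijective (pS D hl hd d') := by
  apply bijective_of_points
  intro C _ _
  constructor
  · intro f f' h
    apply hom_ext D hl hd
    intro e
    rw [← sJ_kap D hl hd hN e]
    have h1 := DFunLike.congr_fun h (SymmetricAlgebra.ι k _ (kp D d d' e))
    change f (pS D hl hd d' _) = f' (pS D hl hd d' _) at h1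
    rw [pS_ι] at h1
    exact h1
  · intro g
    let t : Pm D d d' →ₗ[k] C := g.toLinearMap.comp (SymmetricAlgebra.ι k _)
    obtain ⟨f, hf⟩ := exists_ext D hl hd d' t
    refine ⟨f, ?_⟩
    change f.comp (pS D hl hd d') = g
    ext e
    change f (pS D hl hd d' (SymmetricAlgebra.ι k _ e)) = g (SymmetricAlgebra.ι k _ e)
    rw [pS_ι, hf]
    have h1 : kp D d d' (e : D.E) = e := DFunLike.congr_fun (kp_comp D d d') e
    rw [h1]
    rfl

/-- the algebra isomorphism -/
noncomputable def eqv {d : ℕ} (hd : 1 ≤ d) :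
    SymmetricAlgebra k (Pm D d D.N) ≃ₐ[k] H ⧸ JF l d :=
  AlgEquiv.ofBijective _ (pS_bijective D hl hd le_rfl)

/-- the retraction of the coordinate functions of degrees in `[d, d')` -/
theorem exists_retr {d : ℕ} (hd : 1 ≤ d) (d' : ℕ) :
    ∃ r : H ⧸ JF l d →ₐ[k] SymmetricAlgebra k (Pm D d d'),
      r.comp (pS D hl hd d') = AlgHom.id k _ := by
  obtain ⟨f, hf⟩ := exists_ext D hl hd d' (SymmetricAlgebra.ι k (Pm D d d'))
  refine ⟨f, ?_⟩
  ext e
  change f (pS D hl hd d' (SymmetricAlgebra.ι k _ e)) = SymmetricAlgebra.ι k _ e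
  rw [pS_ι, hf]
  have h1 : kp D d d' (e : D.E) = e := DFunLike.congr_fun (kp_comp D d d') e
  rw [h1]

/-- **the kernel of the coordinates of degrees in `[d, d')` is the level `d'`** -/
theorem mem_iff_pS {d : ℕ} (hd : 1 ≤ d) {d' : ℕ} (f : H ⧸ JF l d →ₐ[k] R) :
    ptJ f ∈ KSub hl d' R ↔ ∀ e, f (pS D hl hd d' (SymmetricAlgebra.ι k _ e)) = 0 := by
  rw [D.mem_iff hl (ptJ_mem_one hl hd f)]
  constructor
  · intro h e
    rw [pS_ι, ← kap_of_mem D e.2, kap_apply, map_sum, map_sum]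
    apply Finset.sum_eq_zero
    intro m hm
    rw [Finset.mem_Ico] at hm
    rw [← t_ptJ D hl hd, h m (by omega)]
  · intro h m hm e
    rw [t_ptJ D hl hd]
    by_cases hmd : m < d
    · rw [sJ_π D hl hd hmd, map_zero]
    · have h1 : D.π m e ∈ Pm D d d' := by
        intro n hn
        rw [D.π_π, if_neg (by omega)]
      have h2 := h ⟨_, h1⟩
      rwa [pS_ι] at h2

/-- **additivity of the coordinates of degrees in `[d, d')`, `d' ≤ 2 d`** -/
theorem pS_mul {d : ℕ} (hd : 1 ≤ d) {d' : ℕ} (hdd' : d' ≤ 2 * d) {f f' f'' : H ⧸ JF l d →ₐ[k] R}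
    (h : ptJ f'' = ptJ f * ptJ f') (e : Pm D d d') :
    f'' (pS D hl hd d' (SymmetricAlgebra.ι k _ e)) =
      f (pS D hl hd d' (SymmetricAlgebra.ι k _ e)) +
      f' (pS D hl hd d' (SymmetricAlgebra.ι k _ e)) := by
  rw [pS_ι, ← kap_of_mem D e.2, kap_apply, map_sum, map_sum, map_sum, map_sum,
    ← Finset.sum_add_distrib]
  apply Finset.sum_congr rfl
  intro m hm
  rw [Finset.mem_Ico] at hm
  rw [← t_ptJ D hl hd, ← t_ptJ D hl hd, ← t_ptJ D hl hd,
    ← D.t_mul hl (ptJ_mem hl f) (ptJ_mem hl f') _ _ (by omega)]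
  rw [D.t_eq, D.t_eq, h]

end Sym

end K198.FilSym
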