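import Groth.Agent.RedSub.H661.Refine
import Groth.Agent.RedSub.H663.DynPair
import Groth.Agent.RedSub.H651.BorLevi
import Groth.Agent.RedSub.H655.RadQuot
import Groth.Agent.RedSub.H648.TypeR
import Groth.Agent.Redsub.H644.BorelClosed
import Groth.Agent.Sga3.H819.LocalTorus
import Groth.Agent.RedSub.K197.LocP
import Groth.Agent.RedSub.K198.Rad
import Groth.Agent.S4127

/-!
# `B ∩ H` for `H ⊆ G` reductive of the same rank, `B` a Borel subgroup containing a maximal torus of `H`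
-/

set_option autoImplicit false
set_option linter.unusedSectionVars false
universe u

open CategoryTheory MonoidalCategory CartesianMonoidalCategory MonObj GrpObj AlgebraicGeometry Limits
open Groth.Agent.Sga3B Groth.Agent.Sga3B.Parab

namespace K198.InterBor

open DynClosed998

variable {S : Scheme.{u}} {G H T B K : Over S} [GrpObj G] [GrpObj H] [GrpObj T] [GrpObj B] [GrpObj K]

section loc

variable {lam : Red.Gm S ⟶ G} [IsMonHom lam] {k : H ⟶ G} [IsMonHom k] {t : T ⟶ H} {b : B ⟶ G} {tb : T ⟶ B}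
  {kK : K ⟶ H} [IsMonHom kK] {bK : K ⟶ B}

/-- `B = P_G(λ)`, `T = Z_G(λ)`: then `K = P_H(λ)` and `T = Z_H(λ)` -/
theorem exists_mu (hk : IsClosedImmersion k.left) (ht : IsMonHom t) (ht' : Mono t) (htb : tb ≫ b = t ≫ k)
    (hK : IsPullback bK kK b k) (hP : IsDynP lam b) (hZ : IsDynZ lam (tb ≫ b)) :
    ∃ mu : Red.Gm S ⟶ H, IsMonHom mu ∧ mu ≫ k = lam ∧ IsDynP mu kK ∧ IsDynZ mu t := by
  have hkm : Mono k := mono_of_isClosedImmersion k
  have hbm : Mono b := hP.mono
  have hKm : Mono kK := by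
    constructor
    intro X x y h
    apply hK.hom_ext
    · rw [← cancel_mono b, Category.assoc, Category.assoc, hK.w, ← Category.assoc, ← Category.assoc, h]
    · exact h
  obtain ⟨l, hl, hl'⟩ := exists_lamZ hZ
  rw [htb, ← Category.assoc] at hl'
  have hmu : IsMonHom (l ≫ t) := inferInstance
  refine ⟨l ≫ t, inferInstance, hl', ?_, ?_⟩
  · refine isDynP_of_comp (i := k) fun X g => ?_
    rw [hl', ← hP.iff_ptP]
    constructor
    · rintro ⟨x, rfl⟩
      exact ⟨x ≫ bK, by rw [Category.assoc, Category.assoc, hK.w]⟩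
    · rintro ⟨y, hy⟩
      obtain ⟨x, -, hx⟩ := hK.exists_lift y g hy
      exact ⟨x, hx⟩
  · refine isDynZ_of_comp (i := k) fun X g => ?_
    rw [hl', ← hZ.iff_ptZ]
    constructor
    · rintro ⟨x, rfl⟩
      exact ⟨x, by rw [htb, Category.assoc]⟩
    · rintro ⟨x, hx⟩
      refine ⟨x, ?_⟩
      rw [← cancel_mono k, Category.assoc, ← htb, hx]

/-- the unipotent parts -/
theorem mem_iff (hG : Red.IsReductive G) (hH : Red.IsReductive H) (hk : IsClosedImmersion k.left)
    (hw : bK ≫ b = kK ≫ k) (hP : IsDynP lam b) {mu : Red.Gm S ⟶ H} [IsMonHom mu] (hmu : mu ≫ k = lam)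
    (hPK : IsDynP mu kK) {U U' : Over S} [GrpObj U] [GrpObj U'] {v : U ⟶ B} (hv : Par.IsUnipotentRadical v)
    {v' : U' ⟶ K} (hv' : Par.IsUnipotentRadical v') {X : Over S} (x : X ⟶ K) :
    (∃ y : X ⟶ U', y ≫ v' = x) ↔ (∃ y : X ⟶ U, y ≫ v = x ≫ bK) := by
  have hbm : Mono b := hP.mono
  have hKm : Mono kK := hPK.mono
  have h1 := Groth.Agent.RedSub.H663.DynPair.isDynU_of_isUnipotentRadical hG lam hP hv
  have h2 := Groth.Agent.RedSub.H663.DynPair.isDynU_of_isUnipotentRadical hH mu hPK hv'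
  have e1 : (∃ y : X ⟶ U', y ≫ v' = x) ↔ (∃ y : X ⟶ U', y ≫ v' ≫ kK = x ≫ kK) :=
    exists_congr fun y => by rw [← Category.assoc, cancel_mono]
  have e2 : (∃ y : X ⟶ U, y ≫ v = x ≫ bK) ↔ (∃ y : X ⟶ U, y ≫ v ≫ b = (x ≫ kK) ≫ k) :=
    exists_congr fun y => by rw [Category.assoc x, ← hw, ← Category.assoc, ← Category.assoc, cancel_mono]
  rw [e1, e2, h1.iff_ptU, h2.iff_ptU, ← hmu, ptU_comp_iff]

end loc

/-- a maximal torus of a subgroup of the same rank is maximal -/
theorem isMaximalTorus (hG : Red.IsReductive G) (k : H ⟶ G) [IsMonHom k] [Mono k]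
    (hrank : ∀ (s : S) (r : WithBot ℕ∞), SGA3x.HasRedRank G s r ↔ SGA3x.HasRedRank H s r)
    (t : T ⟶ H) (hT : Red.IsMaximalTorus t) : Red.IsMaximalTorus (t ≫ k) := by
  have h1 := hG.1
  have h2 := hG.2.1
  have h3 := hT.1
  have h4 := hT.2.1
  refine Groth.Agent.Sga3.H819.LocalTorus.isMaximalTorus_of_dim (t ≫ k) hT.2.2.1 fun s =>
    ⟨_, (hrank s _).2 ⟨Red.geomFibre s T, inferInstance, (Over.pullback (Red.geomPt s)).map t, ?_, rfl⟩, le_rfl⟩
  exact AlgBc.isMaximalTorus_bc (Red.geomPt s) hT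

theorem main (hG : Red.IsReductive G) (k : H ⟶ G) (hk : RedSub.IsSubgrp k)
    (hH : Red.IsReductive H) (hrank : ∀ (s : S) (r : WithBot ℕ∞), SGA3x.HasRedRank G s r ↔ SGA3x.HasRedRank H s r)
    (t : T ⟶ H) (hT : Red.IsMaximalTorus t) (b : B ⟶ G) (hB : RedSub.IsBorelSub b) (tb : T ⟶ B)
    (htb : tb ≫ b = t ≫ k) (kK : K ⟶ H) [IsMonHom kK] (bK : K ⟶ B) [IsMonHom bK] (hK : IsPullback bK kK b k) :
    RedSub.IsBorelSub kK ∧
      ∀ (U : Over S) [GrpObj U] (v : U ⟶ B), Par.IsUnipotentRadical v →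
        ∀ (U' : Over S) [GrpObj U'] (v' : U' ⟶ K), Par.IsUnipotentRadical v' →
          ∀ (X : Over S) (x : X ⟶ K), (∃ y : X ⟶ U', y ≫ v' = x) ↔ (∃ y : X ⟶ U, y ≫ v = x ≫ bK) := by
  have k1 : IsMonHom k := hk.1
  have k2 : IsImmersion k.left := hk.2
  have k3 : Mono k := K198.Rad.mono_of_isImmersion k
  have k4 := hG.1
  have k5 := hG.2.1
  have k6 := hH.1
  have k7 := hH.2.1
  have t1 : IsMonHom t := hT.1
  have t2 : Mono t := hT.2.1
  have hkc : IsClosedImmersion k.left := (Groth.Agent.S4127.result S H G hH k).2 inferInstance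
  have hB' : Red.IsBorel b := Groth.Agent.Redsub.H644.BorelClosed.isBorel_of_isBorelSub hG hB
  have b1 : IsMonHom b := hB'.1
  have b2 : IsClosedImmersion b.left := hB'.2.1
  have hTG := isMaximalTorus hG k hrank t hT
  rw [← htb] at hTG
  obtain ⟨J, S', f, hf, hcov, hQ⟩ := Groth.Agent.RedSub.H651.BorLevi.exists_cov hG b hB' tb hTG
  have key : ∀ j, ∃ (lam : Red.Gm (S' j) ⟶ Red.bc (f j) G) (_ : IsMonHom lam)
      (mu : Red.Gm (S' j) ⟶ Red.bc (f j) H), IsMonHom mu ∧ mu ≫ (Over.pullback (f j)).map k = lam ∧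
        IsDynP lam ((Over.pullback (f j)).map b) ∧
        IsDynP mu ((Over.pullback (f j)).map kK) ∧ IsDynZ mu ((Over.pullback (f j)).map t) := by
    intro j
    obtain ⟨lam, hlam, h1, h2⟩ := hQ j
    have h3 := RedCover147.isClosedImmersion_bc (f j) hkc
    have h4 : Mono ((Over.pullback (f j)).map t) := inferInstance
    obtain ⟨mu, h5, h6, h7, h8⟩ := exists_mu (lam := lam) (k := (Over.pullback (f j)).map k)
      (t := (Over.pullback (f j)).map t) (b := (Over.pullback (f j)).map b) (tb := (Over.pullback (f j)).map tb)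
      (kK := (Over.pullback (f j)).map kK) (bK := (Over.pullback (f j)).map bK) h3 inferInstance h4
      (by rw [← Functor.map_comp, htb, Functor.map_comp]) (hK.map (Over.pullback (f j))) h1 h2
    exact ⟨lam, hlam, mu, h5, h6, h1, h7, h8⟩
  have hKB : Red.IsBorel kK := by
    refine RedCover147.isBorel_of_cover hcov inferInstance fun j => ?_
    have := hf j
    have hq := Groth.Agent.Desc.LQF.of_etale (f j)
    obtain ⟨lam, hlam, mu, h5, h6, h1, h7, h8⟩ := key j
    exact Groth.Agent.RedSub.H661.Refine.isBorel_of_isDynZ (RedCover147.isReductive_bc (f j) hH) mu h8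
      (TorusBc.isTorus_bc (f j) hT.2.2.1) h7
  refine ⟨Groth.Agent.RedSub.H648.TypeR.isBorelSub_of_isBorel hH hKB, ?_⟩
  intro U _ v hv U' _ v' hv' X x
  have loc : ∀ j, (∃ y : (Over.pullback (f j)).obj X ⟶ (Over.pullback (f j)).obj U',
      y ≫ (Over.pullback (f j)).map v' = (Over.pullback (f j)).map x) ↔
      (∃ y : (Over.pullback (f j)).obj X ⟶ (Over.pullback (f j)).obj U,
        y ≫ (Over.pullback (f j)).map v = (Over.pullback (f j)).map x ≫ (Over.pullback (f j)).map bK) := by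
    intro j
    have := hf j
    have hq := Groth.Agent.Desc.LQF.of_etale (f j)
    obtain ⟨lam, hlam, mu, h5, h6, h1, h7, h8⟩ := key j
    have h3 := RedCover147.isClosedImmersion_bc (f j) hkc
    exact mem_iff (RedCover147.isReductive_bc (f j) hG) (RedCover147.isReductive_bc (f j) hH) h3
      (by rw [← Functor.map_comp, hK.w, Functor.map_comp]) h1 h6 h7
      (Groth.Agent.RedSub.H655.RadQuot.isUnipotentRadical_bc hG
        (Groth.Agent.RedSub.H651.BorLevi.isParabolic_of_isBorel hB') hv (f j))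
      (Groth.Agent.RedSub.H655.RadQuot.isUnipotentRadical_bc hH
        (Groth.Agent.RedSub.H651.BorLevi.isParabolic_of_isBorel hKB) hv' (f j)) _
  have cov : ∀ s : S, ∃ j, s ∈ Set.range (f j) := hcov.cov.surj
  have hv1 : IsClosedImmersion v.left := hv.2.1
  have hv2 : Mono v := mono_of_isClosedImmersion v
  have hv1' : IsClosedImmersion v'.left := hv'.2.1
  have hv2' : Mono v' := mono_of_isClosedImmersion v'
  constructor
  · rintro ⟨y, rfl⟩
    refine K197.LocP.exists_fac v _ fun s => ?_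
    obtain ⟨j, hj⟩ := cov s
    have := hf j
    refine ⟨S' j, f j, inferInstance, inferInstance, hj, ?_⟩
    obtain ⟨y', hy'⟩ := (loc j).1 ⟨(Over.pullback (f j)).map y, by rw [Functor.map_comp]⟩
    exact ⟨y', by rw [hy', Functor.map_comp (Over.pullback (f j)) (y ≫ v') bK]⟩
  · rintro ⟨y, hy⟩
    refine K197.LocP.exists_fac v' _ fun s => ?_
    obtain ⟨j, hj⟩ := cov s
    have := hf j
    refine ⟨S' j, f j, inferInstance, inferInstance, hj, ?_⟩
    exact (loc j).2 ⟨(Over.pullback (f j)).map y, by rw [← Functor.map_comp, hy, Functor.map_comp]⟩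

end K198.InterBor
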