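import Groth.Agent.RedSub.H654.SchemeChar
import Groth.Agent.Sga3B.IsomHd848

/-!
# Homomorphisms from a split reductive group to a commutative group kill the root groups
-/

set_option autoImplicit false
open CategoryTheory MonoidalCategory CartesianMonoidalCategory MonObj GrpObj AlgebraicGeometry
universe u

namespace K198.KillRoot

open Groth.Agent.Sga3B Groth.Agent.Sga3B.Cell Groth.Agent.Sga3B.DSPts
open Groth.Agent.Sga3B.GaPts Groth.Agent.Sga3B.PinMod
open Groth.Agent.RedSub.H654 Groth.Agent.RedSub.H654.SchemeChar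

variable {S : Scheme.{u}} {G C : Over S} [GrpObj G] [GrpObj C]

/-- **Root groups are killed.** -/
theorem u_comp (D : Red.SplitRed G) (q : G ⟶ C) [IsMonHom q]
    (hC : ∀ (X : Over S) (x y : X ⟶ C), x * y = y * x) (a : D.idx) : D.u a ≫ q = 1 := by
  apply AffYoneda.hom_ext
  intro R s x
  haveI := (D.rootHom a).1
  rw [MonObj.comp_one]
  rcases subsingleton_or_nontrivial R with hR | hR
  · have : IsEmpty (Over.mk s).left := inferInstanceAs (IsEmpty (PrimeSpectrum R))
    exact Over.OverMorphism.ext (isInitialOfIsEmpty.hom_ext _ _)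
  obtain ⟨B₁, _, _, hff, v, w, hvw⟩ := UnivPt.exists_unit_sub_one R
  obtain ⟨B₂, _, _, hff', -, t, ht⟩ := TorusScale.exists_torusPoint (R := B₁) (M := D.M)
    (κ := Unit) (fun _ => D.P.root a) (linearIndependent_unique_iff.mpr (D.P.ne_zero a)) (fun _ => v)
  have ht := ht ()
  let _ : Algebra R B₂ := ((algebraMap B₁ B₂).comp (algebraMap R B₁)).toAlgebra
  have : IsScalarTower R B₁ B₂ := IsScalarTower.of_algebraMap_eq fun r => rfl
  have : Module.FaithfullyFlat R B₂ := Module.FaithfullyFlat.trans R B₁ B₂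
  let φ : tB s B₂ ⟶ Over.mk s := Over.homMk (Spec.map (CommRingCat.ofHom (algebraMap R B₂))) rfl
  have hφ : Epi φ := by
    have h : Epi φ.left := by
      change Epi (Spec.map (CommRingCat.ofHom (algebraMap R B₂)))
      have : Flat (Spec.map (CommRingCat.ofHom (algebraMap R B₂))) := by
        rw [Flat.SpecMap_iff]
        change (algebraMap R B₂).Flat
        rw [RingHom.flat_algebraMap_iff]
        infer_instance
      have : Surjective (Spec.map (CommRingCat.ofHom (algebraMap R B₂))) := by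
        refine ⟨?_⟩
        exact PrimeSpectrum.comap_surjective_of_faithfullyFlat (A := R) (B := B₂)
      exact Flat.epi_of_flat_of_surjective _
    exact (Over.forget S).epi_of_epi_map h
  rw [← cancel_epi φ, MonObj.comp_one]
  let jj : B₂ →+* Γ((tB s B₂).left, ⊤) := (Scheme.ΓSpecIso (CommRingCat.of B₂)).inv.hom
  let τ : tB s B₂ ⟶ Red.DS S D.M := dP s t
  have hτ : dsChar τ (Multiplicative.ofAdd (D.P.root a)) = jj (algebraMap B₁ B₂ v) := by
    have h1 : dsChar τ (Multiplicative.ofAdd (D.P.root a)) = jj (TPt.ch (D.P.root a) t) := by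
      change dsChar (dsEquiv (tB s B₂) D.M (chΓ s t)) (Multiplicative.ofAdd (D.P.root a)) = _
      rw [dsChar_dsEquiv]
      rfl
    rw [h1, ht]
  let ω : Γ((tB s B₂).left, ⊤) := jj (algebraMap B₁ B₂ ((w⁻¹ : B₁ˣ) : B₁))
  have hω : (dsChar τ (Multiplicative.ofAdd (D.P.root a)) - 1) * ω = 1 := by
    rw [hτ, ← map_one jj, ← map_one (algebraMap B₁ B₂), ← map_sub, ← map_sub, hvw]
    change jj _ * jj _ = _
    rw [← map_mul, ← map_mul, Units.mul_inv]
  let f : Γ((tB s B₂).left, ⊤) := Red.gaFn (φ ≫ x)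
  have hf : φ ≫ x = gaPt _ (dsChar τ (Multiplicative.ofAdd (D.P.root a)) * (ω * f)) * (gaPt _ (ω * f))⁻¹ := by
    apply gaFn_injective
    rw [gaFn_mul, gaFn_inv, gaFn_gaPt, gaFn_gaPt]
    change f = _
    linear_combination -f * hω
  have h3 := IsomHd848.dT_conj_u D τ a (gaPt _ (ω * f))
  rw [gaFn_gaPt] at h3
  rw [← Category.assoc, ← Category.assoc, hf, MonObj.mul_comp, GrpObj.inv_comp, ← h3]
  simp only [MonObj.mul_comp, GrpObj.inv_comp]
  rw [hC _ (_ ≫ q) (_ ≫ q), mul_inv_cancel_right, mul_inv_cancel]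

end K198.KillRoot
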