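import Groth.Agent.Sga3B.BaseZ

/-!
# The base of a total order

`P : RootPairing ι ℤ M N` reduced, `ι` finite, `M` finitely generated with a total order compatible with addition: there
is a base whose positive roots are the roots `> 0`.
-/

set_option autoImplicit false

open Module Set Function

namespace K198.OrdBase

variable {ι M N : Type*} [Finite ι] [AddCommGroup M] [AddCommGroup N] (P : RootPairing ι ℤ M N) [Module.Finite ℤ M]
  [P.IsReduced] [LinearOrder M] [IsOrderedAddMonoid M]

lemma root_refl_self (a : ι) : P.root (P.reflectionPerm a a) = -P.root a := by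
  rw [P.root_reflectionPerm, P.reflection_apply_self]

lemma exists_aux (m : ℕ) (f : M →+ ℤ) (hf : ∀ i, f (P.root i) ≠ 0)
    (hm : Nat.card ι - {a | 0 < f (P.root a) ∧ 0 < P.root a}.ncard = m) : ∃ b : P.Base, ∀ i, b.IsPos i ↔ 0 < P.root i := by
  classical
  induction m using Nat.strong_induction_on generalizing f with
  | _ m ih =>
    obtain ⟨b, hb⟩ := Groth.Agent.Sga3B.BaseZ.exists_base_isPos P f hf
    by_cases hs : ∀ a ∈ b.support, 0 < P.root a
    · have hpos : ∀ i, b.IsPos i → 0 < P.root i := fun i hi => by
        refine hi.induction_on_add hs ?_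
        intro i j k hk hi hj
        rw [hk]
        exact add_pos hi (hs j hj)
      refine ⟨b, fun i => ⟨hpos i, fun h => ?_⟩⟩
      by_contra hi
      have h1 := hpos _ ((RootPairing.Base.IsPos.neg_iff_not b i).2 hi)
      change 0 < P.root (P.reflectionPerm i i) at h1
      rw [root_refl_self] at h1
      exact absurd h (not_lt.mpr (neg_pos.mp h1).le)
    · push Not at hs
      obtain ⟨a, ha, ha'⟩ := hs
      have ha0 : P.root a < 0 := lt_of_le_of_ne ha' (P.ne_zero a)
      let f' : M →+ ℤ := f.comp ((P.reflection a : M ≃ₗ[ℤ] M) : M →ₗ[ℤ] M).toAddMonoidHom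
      have hf'' : ∀ i, f' (P.root i) = f (P.root (P.reflectionPerm a i)) := fun i => by
        rw [P.root_reflectionPerm]
        rfl
      have hf' : ∀ i, f' (P.root i) ≠ 0 := fun i => by rw [hf'']; exact hf _
      have hsub : {a | 0 < f (P.root a) ∧ 0 < P.root a} ⊂ {a | 0 < f' (P.root a) ∧ 0 < P.root a} := by
        have hpa : 0 < f (P.root a) := (hb a).1 (RootPairing.Base.isPos_of_mem_support ha)
        refine ⟨fun c hc => ⟨?_, hc.2⟩, fun h => ?_⟩
        · rw [hf'', ← hb]
          refine ((hb c).2 hc.1).reflectionPerm ha ?_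
          rintro rfl
          exact absurd hc.2 (not_lt.mpr ha0.le)
        · have h1 : P.reflectionPerm a a ∈ {a | 0 < f' (P.root a) ∧ 0 < P.root a} := by
            refine ⟨?_, ?_⟩
            · rw [hf'', P.reflectionPerm_self]
              exact hpa
            · rw [root_refl_self]
              exact neg_pos.mpr ha0
          have h2 := (h h1).1
          rw [root_refl_self, map_neg] at h2
          linarith
      have hcard := Set.ncard_lt_ncard hsub (Set.toFinite _)
      have hle : {a | 0 < f' (P.root a) ∧ 0 < P.root a}.ncard ≤ Nat.card ι := Set.ncard_le_card _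
      exact ih _ (by omega) f' hf' rfl

/-- **The base of a total order.** -/
theorem exists_base : ∃ b : P.Base, ∀ i, b.IsPos i ↔ 0 < P.root i := by
  obtain ⟨f, hf⟩ := Groth.Agent.Sga3B.BaseZ.exists_functional P
  exact exists_aux P _ f hf rfl

end K198.OrdBase
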