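import Mathlib.AlgebraicGeometry.Limits
import Mathlib.CategoryTheory.Comma.Over.Basic

/-!
# Morphisms over the empty scheme
-/

set_option autoImplicit false
open CategoryTheory AlgebraicGeometry
universe u

namespace K198.OrdEmpty

variable {S : Scheme.{u}} [IsEmpty S]

lemma isEmpty_left (X : Over S) : IsEmpty X.left := X.hom.base.hom.1.isEmpty

lemma subsingleton_hom (X Y : Over S) : Subsingleton (X ⟶ Y) := by
  haveI := isEmpty_left X
  exact ⟨fun f g => Over.OverMorphism.ext (isInitialOfIsEmpty.hom_ext _ _)⟩

lemma subsingleton_fun (X : Over S) : Subsingleton Γ(X.left, ⊤) := by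
  haveI := isEmpty_left X
  infer_instance

end K198.OrdEmpty
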