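import Groth.Agent.RedSub.K198.OrdU
import Groth.Agent.RedSub.K198.OrdEmpty

/-!
# Products of points of the last `m` positive root groups
-/

set_option autoImplicit false
open CategoryTheory MonoidalCategory CartesianMonoidalCategory MonObj GrpObj AlgebraicGeometry
universe u

namespace K198.OrdPts

open Groth.Agent.Sga3B.GaPts K198.Coll K198.OrdU

lemma ofFn_natAdd {N i m : ℕ} (h : i + m = N) {α : Type*} (f : Fin N → α) :
    List.ofFn (fun k : Fin m => f (Fin.cast h (Fin.natAdd i k))) = ((List.finRange N).drop i).map f := by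
  subst h
  apply List.ext_getElem
  · simp
  · intro k h1 h2
    simp only [List.getElem_ofFn, List.getElem_map, List.getElem_drop, List.getElem_finRange]
    rfl

variable {S : Scheme.{u}} {G : Over S} [GrpObj G] (D : Red.SplitRed G) {N : ℕ} (e : Fin N → D.idx)

/-- extension of a tuple by zero -/
noncomputable def ext {X : Over S} (i : ℕ) {m : ℕ} (h : i + m = N) (y : Fin m → (X ⟶ Red.Ga S)) (l : Fin N) :
    Γ(X.left, ⊤) :=
  if hl : i ≤ (l : ℕ) then Red.gaFn (y ⟨l - i, by omega⟩) else 0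

lemma ext_natAdd {X : Over S} (i : ℕ) {m : ℕ} (h : i + m = N) (y : Fin m → (X ⟶ Red.Ga S)) (k : Fin m) :
    ext i h y (Fin.cast h (Fin.natAdd i k)) = Red.gaFn (y k) := by
  have h1 : i ≤ (Fin.cast h (Fin.natAdd i k) : Fin N).val := by
    change i ≤ i + (k : ℕ)
    omega
  rw [ext, dif_pos h1]
  congr 2
  apply Fin.ext
  change i + (k : ℕ) - i = k
  omega

lemma tail_eq_ofFn {X : Over S} (i : ℕ) {m : ℕ} (h : i + m = N) (v : Fin N → Γ(X.left, ⊤)) :
    (List.ofFn (fun k : Fin m => gaPt X (v (Fin.cast h (Fin.natAdd i k))) ≫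
      D.u (e (Fin.cast h (Fin.natAdd i k))))).prod = tail (uu D e X) i v := by
  rw [tail, ← ofFn_natAdd h]
  rfl

lemma ofFn_eq_tail' {X : Over S} (i : ℕ) {m : ℕ} (h : i + m = N) (y : Fin m → (X ⟶ Red.Ga S)) :
    (List.ofFn (fun k : Fin m => y k ≫ D.u (e (Fin.cast h (Fin.natAdd i k))))).prod =
      tail (uu D e X) i (ext i h y) := by
  rw [← tail_eq_ofFn D e i h]
  simp only [ext_natAdd, gaPt_gaFn]

/-- conjugation by points of the torus -/
lemma conj_tail {X : Over S} (t : X ⟶ D.T) (i : ℕ) (v : Fin N → Γ(X.left, ⊤)) :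
    ∃ w : Fin N → Γ(X.left, ⊤), tail (uu D e X) i w = (t ≫ D.i) * tail (uu D e X) i v * (t ≫ D.i)⁻¹ := by
  have h1 : ∀ l : Fin N, ∃ w, uu D e X l w = (t ≫ D.i) * uu D e X l (v l) * (t ≫ D.i)⁻¹ := fun l => by
    obtain ⟨y, hy, -⟩ := (D.rootHom (e l)).2.2 X t (gaPt X (v l))
    exact ⟨Red.gaFn y, by rw [uu_gaFn]; exact hy⟩
  choose w hw using h1
  refine ⟨w, ?_⟩
  have h2 : ∀ L : List (Fin N), (L.map fun l => uu D e X l (w l)).prod =
      (t ≫ D.i) * (L.map fun l => uu D e X l (v l)).prod * (t ≫ D.i)⁻¹ := by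
    intro L
    induction L with
    | nil => simp
    | cons l L ih =>
      rw [List.map_cons, List.map_cons, List.prod_cons, List.prod_cons, ih, hw]
      group
  exact h2 _

end K198.OrdPts
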