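import Mathlib.AlgebraicGeometry.Limits
import Mathlib.Algebra.MvPolynomial.Eval
import Mathlib.AlgebraicGeometry.Cover.Open

/-!
# Polynomials over the global functions of a scheme are determined by their values at functions on `S`-schemes
-/

set_option autoImplicit false
open CategoryTheory AlgebraicGeometry
universe u

namespace K198.PolyExt

variable {S : Scheme.{u}} {σ : Type} 

/-- evaluation of a polynomial at a family of functions on an `S`-scheme -/
noncomputable def ev (a : Σ X : Over S, (σ → Γ(X.left, ⊤))) : MvPolynomial σ Γ(S, ⊤) →+* Γ(a.1.left, ⊤) :=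
  MvPolynomial.eval₂Hom a.1.hom.appTop.hom a.2

lemma ev_apply (a : Σ X : Over S, (σ → Γ(X.left, ⊤))) (P : MvPolynomial σ Γ(S, ⊤)) :
    ev a P = MvPolynomial.eval₂ a.1.hom.appTop.hom a.2 P := rfl

@[simp] lemma ev_X (a : Σ X : Over S, (σ → Γ(X.left, ⊤))) (v : σ) : ev a (MvPolynomial.X v) = a.2 v :=
  MvPolynomial.eval₂Hom_X' _ _ _

@[simp] lemma ev_C (a : Σ X : Over S, (σ → Γ(X.left, ⊤))) (c : Γ(S, ⊤)) : ev a (MvPolynomial.C c) = a.1.hom.appTop c :=
  MvPolynomial.eval₂Hom_C _ _ _

theorem eq_of_ev {P Q : MvPolynomial σ Γ(S, ⊤)} (h : ∀ a : Σ X : Over S, (σ → Γ(X.left, ⊤)), ev a P = ev a Q) :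
    P = Q := by
  refine MvPolynomial.ext _ _ fun m => ?_
  refine S.affineCover.ext_elem _ _ fun i => ?_
  let f : S.affineCover.X i ⟶ S := S.affineCover.f i
  change f.appTop (P.coeff m) = f.appTop (Q.coeff m)
  let A : CommRingCat.{u} := CommRingCat.of (MvPolynomial σ Γ(S.affineCover.X i, ⊤))
  let g : Spec A ⟶ S.affineCover.X i :=
    Spec.map (CommRingCat.ofHom (MvPolynomial.C : Γ(S.affineCover.X i, ⊤) →+* MvPolynomial σ Γ(S.affineCover.X i, ⊤))) ≫
      (S.affineCover.X i).isoSpec.inv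
  let ψ : Γ(Spec A, ⊤) ≃+* MvPolynomial σ Γ(S.affineCover.X i, ⊤) := (Scheme.ΓSpecIso A).commRingCatIsoToRingEquiv
  let a : Σ X : Over S, (σ → Γ(X.left, ⊤)) := ⟨Over.mk (g ≫ f), fun v => ψ.symm (MvPolynomial.X v)⟩
  have h1 := h a
  have h2 := congrArg ψ h1
  have key : ∀ P : MvPolynomial σ Γ(S, ⊤), ψ (ev a P) =
      MvPolynomial.map f.appTop.hom P := by
    intro P
    have h0 : (ψ : Γ(Spec A, ⊤) →+* MvPolynomial σ Γ(S.affineCover.X i, ⊤)).comp
        (ev a) = MvPolynomial.map f.appTop.hom := by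
      refine MvPolynomial.ringHom_ext (fun c => ?_) (fun v => ?_)
      · change ψ (ev a (MvPolynomial.C c)) = _
        rw [ev_C, MvPolynomial.map_C]
        change ψ ((g ≫ f).appTop c) = MvPolynomial.C (f.appTop c)
        rw [Scheme.Hom.comp_appTop]
        change ψ (g.appTop (f.appTop c)) = _
        generalize f.appTop c = y
        change (g.appTop ≫ (Scheme.ΓSpecIso A).hom) y = _
        have : g.appTop ≫ (Scheme.ΓSpecIso A).hom =
            CommRingCat.ofHom (MvPolynomial.C : Γ(S.affineCover.X i, ⊤) →+* MvPolynomial σ Γ(S.affineCover.X i, ⊤)) := by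
          simp only [g, Scheme.Hom.comp_appTop, Category.assoc]
          have h9 : (S.affineCover.X i).isoSpec.inv.appTop = (Scheme.ΓSpecIso Γ(S.affineCover.X i, ⊤)).inv := by
            rw [← cancel_epi (Scheme.ΓSpecIso Γ(S.affineCover.X i, ⊤)).hom, Iso.hom_inv_id,
              ← Scheme.toSpecΓ_appTop, ← Scheme.Hom.comp_appTop, Scheme.isoSpec_inv_toSpecΓ, Scheme.Hom.id_appTop]
          rw [Scheme.ΓSpecIso_naturality, h9]
          exact Iso.inv_hom_id_assoc (Scheme.ΓSpecIso Γ(S.affineCover.X i, ⊤)) _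
        rw [this]
        rfl
      · change ψ (ev a (MvPolynomial.X v)) = _
        rw [ev_X, MvPolynomial.map_X]
        exact ψ.apply_symm_apply _
    exact congrArg (fun F => F P) h0
  rw [key, key] at h2
  have h3 := congrArg (MvPolynomial.coeff m) h2
  rwa [MvPolynomial.coeff_map, MvPolynomial.coeff_map] at h3

end K198.PolyExt
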