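import Groth.Agent.RedSub.K198.OrdU
import Groth.Agent.RedSub.K198.PolyExt

/-!
# The polynomial group law of the product of the positive root groups
-/

set_option autoImplicit false
open CategoryTheory MonoidalCategory CartesianMonoidalCategory MonObj GrpObj AlgebraicGeometry
universe u

namespace K198.OrdQ

open Groth.Agent.Sga3B.GaPts K198.Coll K198.OrdU K198.PolyExt

variable {S : Scheme.{u}} {G : Over S} [GrpObj G] (D : Red.SplitRed G) {N : ℕ} (e : Fin N → D.idx)

/-- points with `2N` functions -/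
abbrev Idx (S : Scheme.{u}) (N : ℕ) := Σ X : Over S, (Fin N ⊕ Fin N → Γ(X.left, ⊤))

/-- the root homomorphisms with polynomial coordinate -/
noncomputable def uQ (k : Fin N) (P : MvPolynomial (Fin N ⊕ Fin N) Γ(S, ⊤)) : ∀ a : Idx S N, (a.1 ⟶ G) :=
  fun a => uu D e a.1 k (ev a P)

lemma uQ_add (k : Fin N) (P Q : MvPolynomial (Fin N ⊕ Fin N) Γ(S, ⊤)) : uQ D e k (P + Q) = uQ D e k P * uQ D e k Q := by
  funext a
  rw [Pi.mul_apply, uQ, map_add, uu_add]
  rfl

lemma tail_apply (a : Idx S N) (k : ℕ) (z : Fin N → MvPolynomial (Fin N ⊕ Fin N) Γ(S, ⊤)) :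
    tail (uQ D e) k z a = tail (uu D e a.1) k (fun l => ev a (z l)) := by
  have h := map_list_prod (Pi.evalMonoidHom (fun a : Idx S N => (a.1 ⟶ G)) a)
    (((List.finRange N).drop k).map fun l => uQ D e l (z l))
  rw [List.map_map] at h
  exact h

/-- polynomials in the variables of index `< l` -/
noncomputable def fil (S : Scheme.{u}) (N l : ℕ) : AddSubgroup (MvPolynomial (Fin N ⊕ Fin N) Γ(S, ⊤)) :=
  (MvPolynomial.supported Γ(S, ⊤)
    {v : Fin N ⊕ Fin N | Sum.elim (fun j : Fin N => (j : ℕ) < l) (fun j : Fin N => (j : ℕ) < l) v}).toSubring.toAddSubgroup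

lemma mem_fil {l : ℕ} {P : MvPolynomial (Fin N ⊕ Fin N) Γ(S, ⊤)} : P ∈ fil S N l ↔ P ∈ MvPolynomial.supported Γ(S, ⊤)
    {v : Fin N ⊕ Fin N | Sum.elim (fun j : Fin N => (j : ℕ) < l) (fun j : Fin N => (j : ℕ) < l) v} := Iff.rfl

lemma fil_mono : Monotone (fil S N) := by
  intro l l' h P hP
  rw [mem_fil] at hP ⊢
  refine MvPolynomial.supported_mono ?_ hP
  rintro (j | j) hj
  · exact lt_of_lt_of_le hj h
  · exact lt_of_lt_of_le hj h

variable {D e} [LinearOrder D.M] [IsOrderedAddMonoid D.M] (he : Function.Injective e)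
  (hrange : ∀ a : D.idx, a ∈ Set.range e ↔ 0 < D.P.root a) (hmono : StrictMono (fun k => D.P.root (e k)))

include he hrange hmono

lemma commQ [Nonempty S] (i j : Fin N) (hij : i < j) : ∀ x ∈ fil S N (i + 1), ∀ y ∈ fil S N (j + 1),
    ∃ c : Fin N → MvPolynomial (Fin N ⊕ Fin N) Γ(S, ⊤), (∀ l : Fin N, j < l → c l ∈ fil S N l) ∧
      uQ D e i x * uQ D e j y * (uQ D e i x)⁻¹ = uQ D e j y * tail (uQ D e) (j + 1) c := by
  intro x hx y hy
  obtain ⟨c, p, q, hc0, hc⟩ := exists_comm he hrange hmono i j hij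
  refine ⟨fun l => MvPolynomial.C (c l) * x ^ p l * y ^ q l, fun l hl => ?_, ?_⟩
  · have hx' := fil_mono (show (i : ℕ) + 1 ≤ l by
      have := Fin.lt_def.1 hij
      have := Fin.lt_def.1 hl
      omega) hx
    have hy' := fil_mono (show (j : ℕ) + 1 ≤ l by
      have := Fin.lt_def.1 hl
      omega) hy
    rw [mem_fil] at hx' hy' ⊢
    exact mul_mem (mul_mem (Subalgebra.algebraMap_mem _ (c l)) (pow_mem hx' _)) (pow_mem hy' _)
  · funext a
    have h := hc a.1 (ev a x) (ev a y)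
    rw [Pi.mul_apply, Pi.mul_apply, Pi.inv_apply, Pi.mul_apply, tail_apply]
    simp only [map_mul, map_pow, ev_C]
    exact h

/-- **The polynomial group law.** -/
theorem exists_Q [Nonempty S] : ∃ Q : Fin N → MvPolynomial (Fin N ⊕ Fin N) Γ(S, ⊤),
    (∀ a : Idx S N, tail (uu D e a.1) 0 (fun l => ev a (Q l)) =
      tail (uu D e a.1) 0 (fun l => a.2 (Sum.inl l)) * tail (uu D e a.1) 0 (fun l => a.2 (Sum.inr l))) ∧
    ∀ k : Fin N, ∀ v ∈ (Q k - MvPolynomial.X (Sum.inl k) - MvPolynomial.X (Sum.inr k)).vars,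
        Sum.elim (fun j : Fin N => j < k) (fun j : Fin N => j < k) v := by
  have hX : ∀ (v : Fin N ⊕ Fin N) (l : ℕ), Sum.elim (fun j : Fin N => (j : ℕ) < l) (fun j : Fin N => (j : ℕ) < l) v →
      (MvPolynomial.X v : MvPolynomial (Fin N ⊕ Fin N) Γ(S, ⊤)) ∈ fil S N l := fun v l hv => by
    rw [mem_fil]
    exact Algebra.subset_adjoin ⟨v, hv, rfl⟩
  obtain ⟨Q, -, hQ, hQ'⟩ := exists_mul (uQ_add D e) fil_mono (commQ he hrange hmono) 0
    (z := fun l => MvPolynomial.X (Sum.inl l)) (w := fun l => MvPolynomial.X (Sum.inr l))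
    (fun l _ => hX _ _ (Nat.lt_succ_self _)) (fun l _ => hX _ _ (Nat.lt_succ_self _))
  refine ⟨Q, fun a => ?_, fun k v hv => ?_⟩
  · have h := congrFun hQ a
    rw [Pi.mul_apply, tail_apply, tail_apply, tail_apply] at h
    simp only [ev_X] at h
    exact h.symm
  · have h := (hQ' k (Nat.zero_le _)).1
    rw [← sub_sub, mem_fil, MvPolynomial.mem_supported] at h
    have h2 := h hv
    rcases v with j | j
    · exact Fin.lt_def.2 h2
    · exact Fin.lt_def.2 h2

end K198.OrdQ
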