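import Groth.Agent.RedSub.K198.Coll
import Groth.Agent.RedSub.K198.OrdBase
import Groth.Agent.RedSub.K198.Com
import Groth.Agent.RedSub.H633.CellOpenImm
import Groth.Agent.RedSub.H633.PosRoots
import Groth.Agent.RedSub.H633.PowPts
import Groth.Agent.Sga3B.SplitRedField415
import Groth.Agent.Sga3B.GaPts

/-!
# The unipotent group of the positive roots of a total order, in coordinates

`D : Red.SplitRed G` with a total order on `D.M` compatible with addition, `e : Fin N → D.idx` the increasing
enumeration of the positive roots. `uu D e X k f` is the point of `G` with coordinate `f` in the `k`-th root group.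
The commutation relations (`exists_comm`) and the injectivity of the product (`tail_injective`).
-/

set_option autoImplicit false
open CategoryTheory MonoidalCategory CartesianMonoidalCategory MonObj GrpObj AlgebraicGeometry
universe u

namespace K198.OrdU

open Groth.Agent.Sga3B.GaPts K198.Coll

variable {S : Scheme.{u}} {G : Over S} [GrpObj G] (D : Red.SplitRed G) {N : ℕ} (e : Fin N → D.idx)

/-- the root homomorphisms in coordinates -/
noncomputable def uu (X : Over S) (k : Fin N) (f : Γ(X.left, ⊤)) : X ⟶ G := gaPt X f ≫ D.u (e k)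

lemma uu_add (X : Over S) (k : Fin N) (f g : Γ(X.left, ⊤)) : uu D e X k (f + g) = uu D e X k f * uu D e X k g := by
  haveI := (D.rootHom (e k)).1
  rw [uu, gaPt_add, MonObj.mul_comp]
  rfl

@[simp] lemma uu_gaFn (X : Over S) (k : Fin N) (z : X ⟶ Red.Ga S) : uu D e X k (Red.gaFn z) = z ≫ D.u (e k) := by
  rw [uu, gaPt_gaFn]

lemma ofFn_eq_tail {X : Over S} (z : Fin N → (X ⟶ Red.Ga S)) :
    (List.ofFn (fun k => z k ≫ D.u (e k))).prod = tail (uu D e X) 0 (fun k => Red.gaFn (z k)) := by
  rw [tail_zero]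
  simp only [uu_gaFn]

lemma prod_filter {α Γ : Type*} [Monoid Γ] (p : α → Prop) [DecidablePred p] (f : α → Γ) (l : List α)
    (h : ∀ a ∈ l, ¬ p a → f a = 1) : ((l.filter p).map f).prod = (l.map f).prod := by
  induction l with
  | nil => rfl
  | cons a l ih =>
    by_cases ha : p a
    · rw [List.filter_cons_of_pos (by simpa using ha), List.map_cons, List.map_cons, List.prod_cons, List.prod_cons,
        ih fun b hb => h b (List.mem_cons_of_mem _ hb)]
    · rw [List.filter_cons_of_neg (by simpa using ha), List.map_cons, List.prod_cons, h a List.mem_cons_self ha,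
        _root_.one_mul, ih fun b hb => h b (List.mem_cons_of_mem _ hb)]

lemma map_eq_ofFn {α β : Type*} (L : List α) (g : α → β) :
    L.map g = List.ofFn (fun k : Fin L.length => g (L.get k)) := by
  conv_lhs => rw [← List.ofFn_get L, List.map_ofFn]
  rfl

section order

variable [LinearOrder D.M] [IsOrderedAddMonoid D.M]

/-- a base with the given positive roots -/
lemma exists_base [Nonempty S] : ∃ b : D.P.Base, ∀ a, a ∈ RedSub.posRoots D.P b ↔ 0 < D.P.root a := by
  haveI := Groth.Agent.Sga3B.SplitReduced415.isReduced D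
  obtain ⟨b, hb⟩ := K198.OrdBase.exists_base D.P
  exact ⟨b, fun a => by rw [Groth.Agent.RedSub.H633.PosRoots.mem_posRoots_iff_isPos, hb]⟩

variable {D e} (he : Function.Injective e) (hrange : ∀ a : D.idx, a ∈ Set.range e ↔ 0 < D.P.root a)
  (hmono : StrictMono (fun k => D.P.root (e k)))

include he hrange

/-- a product of points of positive root groups determines its coordinates -/
theorem tail_injective [Nonempty S] (X : Over S) (z w : Fin N → Γ(X.left, ⊤))
    (h : tail (uu D e X) 0 z = tail (uu D e X) 0 w) : z = w := by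
  classical
  obtain ⟨b, hb⟩ := exists_base D
  have hpos : RedSub.Enumerates (RedSub.posRoots D.P b) e := ⟨he, by
    ext a
    rw [hrange, hb]⟩
  -- an enumeration of the negative roots
  let n : ℕ := Fintype.card {a // a ∈ RedSub.negRoots D.P b}
  let eneg : Fin n → D.idx := fun k => ((Fintype.equivFin {a // a ∈ RedSub.negRoots D.P b}).symm k : D.idx)
  have hneg : RedSub.Enumerates (RedSub.negRoots D.P b) eneg := by
    refine ⟨fun k l hkl => (Fintype.equivFin _).symm.injective (Subtype.ext hkl), ?_⟩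
    ext a
    constructor
    · rintro ⟨k, rfl⟩
      exact ((Fintype.equivFin {a // a ∈ RedSub.negRoots D.P b}).symm k).2
    · intro ha
      refine ⟨Fintype.equivFin _ ⟨a, ha⟩, ?_⟩
      simp [eneg]
  obtain ⟨lam, -, -, -, hsign⟩ := Groth.Agent.RedSub.H633.CellOpenImm.SignEnum.of_base b hneg hpos
  haveI := Groth.Agent.RedSub.H633.CellOpenImm.mono_cellMap hsign
  have key : ∀ z : Fin N → Γ(X.left, ⊤),
      lift (Groth.Agent.RedSub.H633.PowPts.mkPt (fun _ : Fin n => (1 : X ⟶ Red.Ga S)))
        (lift (1 : X ⟶ D.T) (Groth.Agent.RedSub.H633.PowPts.mkPt (fun k => gaPt X (z k)))) ≫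
          RedSub.cellMap D eneg e = tail (uu D e X) 0 z := by
    intro z
    haveI := D.maximalTorus.1
    rw [Groth.Agent.RedSub.H633.PowPts.lift_cellMap, MonObj.one_comp, _root_.one_mul, tail_zero]
    have : (List.ofFn fun k : Fin n => (1 : X ⟶ Red.Ga S) ≫ D.u (eneg k)).prod = 1 := by
      apply List.prod_eq_one
      intro x hx
      obtain ⟨k, rfl⟩ := (List.mem_ofFn' _ _).1 hx
      haveI := (D.rootHom (eneg k)).1
      exact MonObj.one_comp _
    rw [this, _root_.one_mul]
    rfl
  have h2 := (cancel_mono (RedSub.cellMap D eneg e)).1 ((key z).trans (h.trans (key w).symm))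
  have h3 := congrArg (fun y => y ≫ snd _ _ ≫ snd _ _) h2
  simp only [lift_snd_assoc, lift_snd] at h3
  funext k
  have h4 := congrArg (fun y => Groth.Agent.RedSub.H633.PowPts.coord y k) h3
  simp only [Groth.Agent.RedSub.H633.PowPts.coord_mkPt] at h4
  have h5 := congrArg Red.gaFn h4
  rwa [gaFn_gaPt, gaFn_gaPt] at h5

include hmono

/-- the commutation relations -/
theorem exists_comm [Nonempty S] (i j : Fin N) (hij : i < j) : ∃ (c : Fin N → Γ(S, ⊤)) (p q : Fin N → ℕ),
    (∀ l : Fin N, ¬ j < l → c l = 0) ∧ ∀ (X : Over S) (x y : Γ(X.left, ⊤)),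
      uu D e X i x * uu D e X j y * (uu D e X i x)⁻¹ =
        uu D e X j y * tail (uu D e X) (j + 1) (fun l => X.hom.appTop (c l) * x ^ p l * y ^ q l) := by
  classical
  obtain ⟨b, hb⟩ := exists_base D
  let Q : Fin N → ℕ × ℕ → Prop := fun l pq =>
    1 ≤ pq.1 ∧ 1 ≤ pq.2 ∧ D.P.root (e l) = (pq.1 : ℤ) • D.P.root (e i) + (pq.2 : ℤ) • D.P.root (e j)
  let L : List (Fin N) := (List.finRange N).filter (fun l => ∃ pq, Q l pq)
  have hL : ∀ l, l ∈ L ↔ ∃ pq, Q l pq := fun l => by simp [L]
  have hex : ∀ l, ∃ pq : ℕ × ℕ, (∃ pq, Q l pq) → Q l pq := fun l => by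
    by_cases h : ∃ pq, Q l pq
    · obtain ⟨pq, h⟩ := h
      exact ⟨pq, fun _ => h⟩
    · exact ⟨0, fun h' => absurd h' h⟩
  choose pq hpq using hex
  have hnodup : L.Nodup := (List.nodup_finRange N).filter _
  have hposi : 0 < D.P.root (e i) := (hrange _).1 ⟨i, rfl⟩
  have hposj : 0 < D.P.root (e j) := (hrange _).1 ⟨j, rfl⟩
  -- the roots occurring are larger than the `j`-th
  have hlt : ∀ l, (∃ pq, Q l pq) → j < l := by
    rintro l ⟨⟨p, q⟩, hp, hq, h⟩
    refine hmono.lt_iff_lt.1 ?_
    change D.P.root (e j) < D.P.root (e l)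
    rw [h]
    have h1 : 0 < (p : ℤ) • D.P.root (e i) := by
      rw [natCast_zsmul]
      exact nsmul_pos hposi (by
        change 1 ≤ p at hp
        omega)
    have h2 : D.P.root (e j) ≤ (q : ℤ) • D.P.root (e j) := by
      rw [natCast_zsmul]
      change 1 ≤ q at hq
      calc D.P.root (e j) = 1 • D.P.root (e j) := (one_nsmul _).symm
        _ ≤ q • D.P.root (e j) := nsmul_le_nsmul_left hposj.le hq
    calc D.P.root (e j) ≤ (q : ℤ) • D.P.root (e j) := h2
      _ < (p : ℤ) • D.P.root (e i) + (q : ℤ) • D.P.root (e j) := lt_add_of_pos_left _ h1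
  obtain ⟨C, hC, -⟩ := K198.Com.exists_comm D b (e i) (e j) ((hb _).2 hposi) ((hb _).2 hposj)
    (fun k : Fin L.length => e (L.get k)) (fun k => (pq (L.get k)).1) (fun k => (pq (L.get k)).2)
    (fun k l hkl => hnodup.injective_get (he hkl))
    (fun k => hpq _ ((hL _).1 (L.get_mem k)))
    (fun c p q hp hq h => by
      have hc : 0 < D.P.root c := by
        rw [h, natCast_zsmul, natCast_zsmul]
        exact add_pos (nsmul_pos hposi (by omega)) (nsmul_pos hposj (by omega))
      obtain ⟨l, rfl⟩ := (hrange c).2 hc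
      obtain ⟨k, hk⟩ := List.mem_iff_get.1 ((hL l).2 ⟨(p, q), hp, hq, h⟩)
      exact ⟨k, by simp only [hk]⟩)
  -- the constants, extended by zero
  let c : Fin N → Γ(S, ⊤) := fun l => if h : ∃ k : Fin L.length, L.get k = l then C h.choose else 0
  have hc : ∀ k, c (L.get k) = C k := fun k => by
    have h : ∃ k' : Fin L.length, L.get k' = L.get k := ⟨k, rfl⟩
    change dite _ _ _ = _
    rw [dif_pos h]
    congr 1
    exact hnodup.injective_get h.choose_spec
  have hc0 : ∀ l, l ∉ L → c l = 0 := fun l hl => dif_neg fun ⟨k, hk⟩ => hl (hk ▸ L.get_mem k)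
  refine ⟨c, fun l => (pq l).1, fun l => (pq l).2, fun l hl => hc0 l fun h => hl (hlt l ((hL l).1 h)), ?_⟩
  intro X x y
  have h1 := hC X (gaPt X x) (gaPt X y) (fun k => gaPt X (X.hom.appTop (C k) * x ^ (pq (L.get k)).1 * y ^ (pq (L.get k)).2))
    (fun k => by rw [gaFn_gaPt, gaFn_gaPt, gaFn_gaPt])
  change uu D e X i x * uu D e X j y * (uu D e X i x)⁻¹ = uu D e X j y * _ at h1
  rw [h1]
  congr 1
  rw [← tail_eq_of_zero (uu_add D e X) (Nat.zero_le (j + 1 : ℕ)) (fun l _ hl => ?_)]
  · rw [tail, List.drop_zero, ← prod_filter (fun l => ∃ pq, Q l pq) _ (List.finRange N)]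
    · change _ = (L.map _).prod
      rw [map_eq_ofFn]
      congr 1
      congr 1
      funext k
      rw [hc]
      rfl
    · intro l _ hl
      rw [hc0 l (fun h => hl ((hL l).1 h)), map_zero, zero_mul, zero_mul]
      exact u_zero (uu_add D e X) l
  · rw [hc0 l (fun h => ?_), map_zero, zero_mul, zero_mul]
    have := hlt l ((hL l).1 h)
    have := Fin.lt_def.1 this
    omega

end order

end K198.OrdU
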