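import Mathlib.AlgebraicGeometry.Group.Abelian
import Mathlib.CategoryTheory.Monoidal.Cartesian.Grp
import Mathlib.AlgebraicGeometry.Morphisms.UnderlyingMap

/-!
# Products of subgroups and intersections with a third subgroup

`R, D ⟶ G`, `D ≤ H ≤ G`: the multiplication `(R ∩ H) × D ⟶ H` is the base change of `R × D ⟶ G`.
-/

set_option autoImplicit false
open CategoryTheory MonoidalCategory CartesianMonoidalCategory MonObj GrpObj AlgebraicGeometry Limits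
universe u

namespace K198.PullMul

variable {S : Scheme.{u}} {G D H R R' : Over S} [GrpObj G] [GrpObj D] [GrpObj H] [GrpObj R] [GrpObj R']

lemma lift_mul {A B X : Over S} (f : A ⟶ G) (g : B ⟶ G) (x : X ⟶ A) (y : X ⟶ B) :
    lift x y ≫ (f ⊗ₘ g) ≫ μ[G] = (x ≫ f) * (y ≫ g) := by
  rw [lift_map_assoc]
  rfl

/-- `(R ∩ H) × D ⟶ H` is a base change of `R × D ⟶ G`. -/
theorem isPullback (r : R ⟶ G) (d : D ⟶ G) (k : H ⟶ G) [IsMonHom k] [Mono k] (e : D ⟶ H) (he : e ≫ k = d)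
    (a : R' ⟶ R) (b : R' ⟶ H) (hsq : IsPullback a b r k) :
    IsPullback (a ⊗ₘ 𝟙 D) ((b ⊗ₘ e) ≫ μ[H]) ((r ⊗ₘ d) ≫ μ[G]) k := by
  have hw : (a ⊗ₘ 𝟙 D) ≫ (r ⊗ₘ d) ≫ μ[G] = ((b ⊗ₘ e) ≫ μ[H]) ≫ k := by
    have h1 : (a ⊗ₘ 𝟙 D) ≫ (r ⊗ₘ d) ≫ μ[G] = (fst _ _ ≫ a ≫ r) * (snd _ _ ≫ d) := by
      rw [← lift_mul, ← Category.id_comp (a ⊗ₘ 𝟙 D)]
      simp only [Category.assoc]
      rw [← lift_fst_snd, lift_map_assoc, lift_mul, lift_mul]
      simp
    have h2 : ((b ⊗ₘ e) ≫ μ[H]) ≫ k = ((fst _ _ ≫ b) ≫ k) * ((snd _ _ ≫ e) ≫ k) := by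
      rw [← MonObj.mul_comp, ← lift_mul, lift_fst_snd, Category.id_comp]
    rw [h1, h2, Category.assoc, Category.assoc, he, hsq.w]
  refine ⟨⟨hw⟩, ⟨PullbackCone.IsLimit.mk hw
    (fun s => lift (hsq.lift (s.fst ≫ fst _ _) (s.snd * (s.fst ≫ snd _ _ ≫ e)⁻¹) ?_) (s.fst ≫ snd _ _)) ?_ ?_ ?_⟩⟩
  · have h := s.condition
    have h1 : s.fst ≫ (r ⊗ₘ d) ≫ μ[G] = ((s.fst ≫ fst _ _) ≫ r) * ((s.fst ≫ snd _ _) ≫ d) := by
      rw [← lift_mul, ← comp_lift, lift_fst_snd, Category.comp_id]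
    rw [h1] at h
    rw [MonObj.mul_comp, GrpObj.inv_comp, ← h]
    simp only [Category.assoc, he]
    exact (mul_inv_cancel_right _ _).symm
  · intro s
    rw [lift_map, hsq.lift_fst, Category.comp_id, ← comp_lift, lift_fst_snd, Category.comp_id]
  · intro s
    rw [lift_mul, hsq.lift_snd, Category.assoc]
    exact inv_mul_cancel_right _ _
  · intro s m hm1 hm2
    have h1 : m ≫ snd _ _ = s.fst ≫ snd _ _ := by
      rw [← hm1]
      simp
    apply CartesianMonoidalCategory.hom_ext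
    · rw [lift_fst]
      apply hsq.hom_ext
      · rw [hsq.lift_fst, ← hm1]
        simp
      · rw [hsq.lift_snd, ← hm2, eq_mul_inv_iff_mul_eq]
        have h2 : m ≫ (b ⊗ₘ e) ≫ μ[H] = ((m ≫ fst _ _) ≫ b) * ((m ≫ snd _ _) ≫ e) := by
          rw [← lift_mul, ← comp_lift, lift_fst_snd, Category.comp_id]
        rw [h2, h1]
        simp only [Category.assoc]
    · rw [lift_snd, h1]

theorem surjective (r : R ⟶ G) (d : D ⟶ G) (k : H ⟶ G) [IsMonHom k] [Mono k] (e : D ⟶ H) (he : e ≫ k = d)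
    (a : R' ⟶ R) (b : R' ⟶ H) (hsq : IsPullback a b r k) (h : Surjective ((r ⊗ₘ d) ≫ μ[G]).left) :
    Surjective ((b ⊗ₘ e) ≫ μ[H]).left :=
  MorphismProperty.of_isPullback (P := @Surjective)
    ((isPullback r d k e he a b hsq).map (Over.forget S)) h

end K198.PullMul
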