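import Groth.Agent.Sga3B.AdCentre
import Groth.Agent.Sga3B.Trans894
import Groth.Agent.S2962
import Groth.Agent.RedSub.H654.RootNN
import Groth.Agent.RedSub.K198.CellT
import Mathlib.Algebra.Category.Grp.Injective
import Mathlib.FieldTheory.IsAlgClosed.Basic

/-!
# The radical torus of a split reductive group, and its points over algebraically closed fields

`G` split with torus `D_S(M)`, `QS` the saturation of the root lattice: `D_S(M / QS)` is a central torus, and over an
algebraically closed field its points surject on the points of `D_S(N)`, `N` the characters orthogonal to the coroots.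
-/

set_option autoImplicit false
open CategoryTheory MonoidalCategory CartesianMonoidalCategory MonObj GrpObj AlgebraicGeometry
universe u

namespace K198.RadT

open Groth.Agent.Sga3B Groth.Agent.Sga3B.DSPts Groth.Agent.Sga3B.AdCentre
open Groth.Agent.RedSub.H654.UnivPt

variable {S : Scheme.{u}} {G : Over S} [GrpObj G] (D : Red.SplitRed G)

/-- the saturation of the root lattice -/
def QS : AddSubgroup D.M where
  carrier := {m | ∃ n : ℤ, n ≠ 0 ∧ n • m ∈ Qr D}
  zero_mem' := ⟨1, one_ne_zero, by rw [smul_zero]; exact zero_mem _⟩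
  add_mem' := by
    rintro a b ⟨n, hn, ha⟩ ⟨m, hm, hb⟩
    refine ⟨n * m, mul_ne_zero hn hm, ?_⟩
    have h1 : (n * m) • (a + b) = m • (n • a) + n • (m • b) := by
      rw [smul_add, smul_smul, smul_smul, mul_comm m n]
    rw [h1]
    exact add_mem (zsmul_mem ha m) (zsmul_mem hb n)
  neg_mem' := by
    rintro a ⟨n, hn, ha⟩
    exact ⟨n, hn, by rw [smul_neg]; exact neg_mem ha⟩

lemma Qr_le : Qr D ≤ QS D := fun m hm => ⟨1, one_ne_zero, by rwa [one_smul]⟩

lemma mem_QS_of_smul {n : ℤ} (hn : n ≠ 0) {m : D.M} (h : n • m ∈ QS D) : m ∈ QS D := by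
  obtain ⟨k, hk, h⟩ := h
  exact ⟨k * n, mul_ne_zero hk hn, by rwa [mul_smul]⟩

instance : Module.Finite ℤ (D.M ⧸ QS D) :=
  Module.Finite.of_surjective (QuotientAddGroup.mk' (QS D)).toIntLinearMap (QuotientAddGroup.mk'_surjective _)

instance : Module.Free ℤ (D.M ⧸ QS D) := by
  have : Module.IsTorsionFree ℤ (D.M ⧸ QS D) := by
    refine Module.IsTorsionFree.of_smul_eq_zero ?_
    intro n x h
    obtain ⟨m, rfl⟩ := QuotientAddGroup.mk'_surjective _ x
    by_cases hn : n = 0
    · exact Or.inl hn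
    · refine Or.inr ((QuotientAddGroup.eq_zero_iff m).2 (mem_QS_of_smul D hn ?_))
      rw [← map_zsmul] at h
      exact (QuotientAddGroup.eq_zero_iff _).1 h
  exact Module.free_of_finite_type_torsion_free'

/-- the radical torus -/
noncomputable def radT : Red.DS S (D.M ⧸ QS D) ⟶ G :=
  Red.DSmap S (QuotientAddGroup.mk' (QS D)) ≫ D.split.inv.hom.hom ≫ D.i

instance : IsMonHom (radT D) := by
  have : IsMonHom D.i := D.maximalTorus.1
  rw [radT]
  infer_instance

lemma isTorus : Red.IsTorus (Red.DS S (D.M ⧸ QS D)) := Trans894.isTorus_DS S _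

/-- the radical torus is central -/
lemma central {X : Over S} (x : X ⟶ Red.DS S (D.M ⧸ QS D)) (g : X ⟶ G) :
    (x ≫ radT D) * g = g * (x ≫ radT D) := by
  have h := (Groth.Agent.S2962.result D X (x ≫ radT D)).2 ⟨x ≫ Red.DSmap S (QuotientAddGroup.mk' (QS D)) ≫
    D.split.inv.hom.hom, by simp only [radT, Category.assoc], fun a => ?_⟩ X (𝟙 X) g
  · rwa [Category.id_comp] at h
  · have h2 : D.split.inv.hom.hom ≫ D.split.hom.hom.hom = 𝟙 _ := congrArg (fun f => f.hom.hom) D.split.inv_hom_id
    have h3 : (x ≫ Red.DSmap S (QuotientAddGroup.mk' (QS D)) ≫ D.split.inv.hom.hom) ≫ D.split.hom.hom.hom ≫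
        Red.chi S (D.P.root a) = (x ≫ Red.DSmap S (QuotientAddGroup.mk' (QS D))) ≫ Red.chi S (D.P.root a) := by
      simp only [Category.assoc]
      rw [← Category.assoc D.split.inv.hom.hom, h2, Category.id_comp]
    rw [h3, dsChar_chi, dsChar_DSmap, MonoidHom.comp_apply]
    have h4 : AddMonoidHom.toMultiplicative (QuotientAddGroup.mk' (QS D)) (Multiplicative.ofAdd (D.P.root a)) = 1 :=
      (QuotientAddGroup.eq_zero_iff _).2 (Qr_le D (AddSubgroup.subset_closure ⟨a, rfl⟩))
    rw [h4, map_one]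

/-- the characters orthogonal to the coroots meet the saturation of the root lattice trivially -/
lemma eq_zero_of_mem (b : D.P.Base) {m : D.M} (h1 : m ∈ NN b) (h2 : m ∈ QS D) : m = 0 := by
  obtain ⟨n, hn, h⟩ := h2
  have h3 : n • m = 0 := by
    refine Groth.Agent.RedSub.H654.RootNN.eq_zero_of_mem (b := b) D.pairing_eq (Submodule.smul_mem _ n h1) ?_
    have h4 : Qr D ≤ (Submodule.span ℤ (Set.range D.P.root)).toAddSubgroup := by
      rw [Qr, AddSubgroup.closure_le]
      exact Submodule.subset_span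
    exact h4 h
  exact (smul_eq_zero.1 h3).resolve_left hn

section pts

variable {K : Type u} [Field K] [IsAlgClosed K]

/-- the units of a ring isomorphic to an algebraically closed field are divisible -/
lemma baer {F : Type u} [CommRing F] (e : F ≃+* K) : Module.Baer ℤ (Additive Fˣ) := by
  have : ∀ n : ℤ, n ≠ 0 → Function.Surjective (fun a : Additive Fˣ => n • a) := by
    intro n hn a
    let e' : Fˣ ≃* Kˣ := Units.mapEquiv e.toMulEquiv
    have key : ∀ (k : ℕ), k ≠ 0 → ∀ y : Kˣ, ∃ x : Kˣ, x ^ k = y := by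
      intro k hk y
      obtain ⟨z, hz⟩ := IsAlgClosed.exists_pow_nat_eq (y : K) (Nat.pos_of_ne_zero hk)
      have hz0 : z ≠ 0 := by
        rintro rfl
        rw [zero_pow hk] at hz
        exact y.ne_zero hz.symm
      exact ⟨Units.mk0 z hz0, Units.ext (by rw [Units.val_pow_eq_pow_val]; exact hz)⟩
    have key2 : ∃ x : Kˣ, x ^ n = e' a.toMul := by
      obtain ⟨x, hx⟩ := key n.natAbs (Int.natAbs_ne_zero.2 hn) (e' a.toMul)
      rcases Int.natAbs_eq n with h | h
      · exact ⟨x, by rw [h, zpow_natCast, hx]⟩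
      · exact ⟨x⁻¹, by rw [h, zpow_neg, zpow_natCast, inv_pow, _root_.inv_inv, hx]⟩
    obtain ⟨x, hx⟩ := key2
    refine ⟨Additive.ofMul (e'.symm x), ?_⟩
    apply Additive.toMul.injective
    apply e'.injective
    change e' ((e'.symm x) ^ n) = _
    rw [map_zpow, MulEquiv.apply_symm_apply, hx]
  let _ : DivisibleBy (Additive Fˣ) ℤ := divisibleByOfSMulRightSurj (Additive Fˣ) ℤ (fun {n} hn => this n hn)
  exact Module.Baer.of_divisible _

/-- **Points of the radical torus over an algebraically closed field.** -/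
theorem exists_point (b : D.P.Base) (q : G ⟶ Red.DS S (NN b)) [IsMonHom q]
    (hq : (D.split.inv.hom.hom ≫ D.i) ≫ q = Red.DSmap S (nu b)) (s : Spec (CommRingCat.of K) ⟶ S)
    (y : Over.mk s ⟶ Red.DS S (NN b)) : ∃ ρ : Over.mk s ⟶ Red.DS S (D.M ⧸ QS D), (ρ ≫ radT D) ≫ q = y := by
  let F : Type u := Γ((Over.mk s).left, ⊤)
  have hF : Module.Baer ℤ (Additive Fˣ) := baer (Scheme.ΓSpecIso (CommRingCat.of K)).commRingCatIsoToRingEquiv
  let g : NN b →+ Additive Fˣ := MonoidHom.toAdditiveRight (dsChar y).toHomUnits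
  let ν : NN b →+ D.M ⧸ QS D := (QuotientAddGroup.mk' (QS D)).comp (nu b)
  have hν : Function.Injective ν := by
    rw [injective_iff_map_eq_zero]
    intro n hn
    exact Subtype.ext (eq_zero_of_mem D b n.2 ((QuotientAddGroup.eq_zero_iff _).1 hn))
  obtain ⟨h, hh⟩ := hF.extension_property_addMonoidHom ν hν g
  let χ : Multiplicative (D.M ⧸ QS D) →* F := (Units.coeHom _).comp (AddMonoidHom.toMultiplicativeLeft h)
  refine ⟨dsEquiv (Over.mk s) _ χ, ?_⟩
  have h1 : (dsEquiv (Over.mk s) _ χ ≫ radT D) ≫ q =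
      (dsEquiv (Over.mk s) _ χ ≫ Red.DSmap S (QuotientAddGroup.mk' (QS D))) ≫ Red.DSmap S (nu b) := by
    rw [← hq]
    simp only [radT, Category.assoc]
  rw [h1]
  apply (dsEquiv (Over.mk s) (NN b)).symm.injective
  change dsChar _ = dsChar y
  rw [dsChar_DSmap, dsChar_DSmap, dsChar_dsEquiv]
  ext n
  exact congrArg (fun a : Additive Fˣ => ((a.toMul : Fˣ) : F)) (DFunLike.congr_fun hh n)

end pts

end K198.RadT
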